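import Cfsg.Agent.Classical.OrthChar

/-!
The sum of squares over a prime field of odd order: reflections, and the set of unit vectors `u` whose reflection
times a coordinate reflection lies in an overgroup of the group of monomial elements of the commutator subgroup.
-/

set_option autoImplicit false
set_option linter.unusedSectionVars false
set_option linter.style.haveILetI false

namespace Cfsg.Agent.ClassicalMax.OrthMono

open Module QuadraticMap Cfsg.Agent.Classical Cfsg.Agent.Classical.Quad Matrix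

variable {F ι : Type*} [Field F] [Fintype ι] [DecidableEq ι]

variable (F ι) in
/-- the sum of the squares of the coordinates -/
def sq : QuadraticForm F (ι → F) := QuadraticMap.weightedSumSquares F (fun _ : ι => (1 : F))

theorem sq_apply (x : ι → F) : sq F ι x = x ⬝ᵥ x := by
  simp [sq, QuadraticMap.weightedSumSquares_apply, dotProduct]

theorem polar_sq (x y : ι → F) : polar (sq F ι) x y = 2 * (x ⬝ᵥ y) := by
  simp only [polar, sq_apply, add_dotProduct, dotProduct_add, dotProduct_comm y x]
  ring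

theorem dot_oG (g : oG (sq F ι)) (h2 : (2 : F) ≠ 0) (x y : ι → F) : g.1 x ⬝ᵥ g.1 y = x ⬝ᵥ y := by
  have := polar_oG g x y
  rw [polar_sq, polar_sq] at this
  exact mul_left_cancel₀ h2 this

theorem sq_nondeg (h2 : (2 : F) ≠ 0) : (polarBilin (sq F ι)).Nondegenerate := by
  have key : ∀ x : ι → F, (∀ y, polar (sq F ι) x y = 0) → x = 0 := fun x hx => funext fun i => by
    have := hx (Pi.single i 1)
    rw [polar_sq, dotProduct_single, mul_one] at this
    exact (mul_eq_zero.1 this).resolve_left h2
  exact ⟨fun x hx => key x hx, fun x hx => key x fun y => (polar_comm _ x y).trans (hx y)⟩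

/-- the coordinate vectors -/
abbrev e (i : ι) : ι → F := Pi.single i 1

theorem e_apply (i j : ι) : e (F := F) i j = if j = i then 1 else 0 := Pi.single_apply i 1 j

theorem dot_e (x : ι → F) (i : ι) : x ⬝ᵥ e i = x i := by rw [dotProduct_single, mul_one]

theorem e_dot (x : ι → F) (i : ι) : e i ⬝ᵥ x = x i := by rw [single_dotProduct, one_mul]

theorem e_self (i : ι) : e (F := F) i ⬝ᵥ e i = 1 := by rw [dot_e, e_apply, if_pos rfl]

open scoped _root_.Classical in
/-- the reflection in an anisotropic vector -/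
noncomputable def R (u : ι → F) : oG (sq F ι) := if h : sq F ι u ≠ 0 then rO h else 1

theorem R_eq {u : ι → F} (h : sq F ι u ≠ 0) : R u = rO h := dif_pos h

theorem R_apply' (h2 : (2 : F) ≠ 0) {u : ι → F} (hu : u ⬝ᵥ u ≠ 0) (x : ι → F) :
    (R u).1 x = x - (2 * (x ⬝ᵥ u) / (u ⬝ᵥ u)) • u := by
  rw [R_eq (by rwa [sq_apply]), rO_apply, polar_sq, sq_apply]

theorem R_apply (h2 : (2 : F) ≠ 0) {u : ι → F} (hu : u ⬝ᵥ u = 1) (x : ι → F) :
    (R u).1 x = x - (2 * (x ⬝ᵥ u)) • u := by
  rw [R_apply' h2 (by rw [hu]; exact one_ne_zero), hu, div_one]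

theorem R_mul_self (u : ι → F) : R u * R u = 1 := by
  by_cases h : sq F ι u = 0
  · rw [R, dif_neg (not_not.2 h), one_mul]
  · rw [R_eq h, rO_mul_self]

theorem R_mul_cancel (u : ι → F) (g : oG (sq F ι)) : R u * (R u * g) = g := by
  rw [← mul_assoc, R_mul_self, one_mul]

theorem R_inv (u : ι → F) : (R u)⁻¹ = R u := inv_eq_of_mul_eq_one_right (R_mul_self u)

theorem R_smul {u : ι → F} {c : F} (hc : c ≠ 0) : R (c • u) = R u := by
  by_cases h : sq F ι u = 0
  · rw [R, R, dif_neg (not_not.2 h), dif_neg (not_not.2 (by rw [Quad.map_smul', h, mul_zero]))]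
  · have h' : sq F ι (c • u) ≠ 0 := by rw [Quad.map_smul']; exact mul_ne_zero (mul_ne_zero hc hc) h
    rw [R_eq h, R_eq h', rO_smul h hc h']

theorem R_neg (u : ι → F) : R (-u) = R u := by rw [← neg_one_smul F u, R_smul (by norm_num)]

theorem conj_R (g : oG (sq F ι)) (u : ι → F) : g * R u * g⁻¹ = R (g.1 u) := by
  by_cases h : sq F ι u = 0
  · rw [R, R, dif_neg (not_not.2 h), dif_neg (not_not.2 (by rw [g.2, h])), mul_one, mul_inv_cancel]
  · rw [R_eq h, R_eq (u := g.1 u) (by rwa [g.2]), conj_rO]

theorem R_e_apply (h2 : (2 : F) ≠ 0) (a : ι) (x : ι → F) : (R (F := F) (e a)).1 x = Function.update x a (-x a) := by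
  rw [R_apply h2 (e_self a), dot_e]
  funext i
  simp only [Pi.sub_apply, Pi.smul_apply, smul_eq_mul, e_apply, Function.update_apply]
  split_ifs with h
  · subst h; ring
  · ring

theorem dot_sub_e {a b : ι} (hab : a ≠ b) : (e a - e b : ι → F) ⬝ᵥ (e a - e b) = 2 := by
  rw [sub_dotProduct, dotProduct_sub, dotProduct_sub, e_self, e_self, dot_e, dot_e, e_apply, e_apply, if_neg hab,
    if_neg (Ne.symm hab)]
  norm_num

/-- the transposition of two coordinates -/
noncomputable def sw (a b : ι) : oG (sq F ι) := R (e a - e b)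

theorem sw_apply (h2 : (2 : F) ≠ 0) {a b : ι} (hab : a ≠ b) (x : ι → F) :
    (sw (F := F) a b).1 x = fun i => x (Equiv.swap a b i) := by
  have hne : (e a - e b : ι → F) ⬝ᵥ (e a - e b) ≠ 0 := by rw [dot_sub_e hab]; exact h2
  rw [sw, R_apply' h2 hne, dot_sub_e hab, dotProduct_sub, dot_e, dot_e, mul_div_assoc, mul_comm, div_mul_cancel₀ _ h2]
  funext i
  simp only [Pi.sub_apply, Pi.smul_apply, smul_eq_mul, e_apply]
  rcases eq_or_ne i a with rfl | hia
  · rw [if_pos rfl, if_neg hab, Equiv.swap_apply_left]; ring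
  rcases eq_or_ne i b with rfl | hib
  · rw [if_neg (Ne.symm hab), if_pos rfl, Equiv.swap_apply_right]; ring
  · rw [if_neg hia, if_neg hib, Equiv.swap_apply_of_ne_of_ne hia hib]; ring

theorem sw_e (h2 : (2 : F) ≠ 0) {a b : ι} (hab : a ≠ b) (i : ι) :
    (sw (F := F) a b).1 (e i) = e (Equiv.swap a b i) := by
  rw [sw_apply h2 hab]
  funext j
  simp only [e_apply, Equiv.swap_apply_eq_iff]

/-- every coordinate vector goes to a multiple of a coordinate vector -/
def Mono (g : oG (sq F ι)) : Prop := ∀ i, ∃ j, ∃ c : F, g.1 (e i) = c • e j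

theorem Mono.mul {g h : oG (sq F ι)} (hg : Mono g) (hh : Mono h) : Mono (g * h) := fun i => by
  obtain ⟨j, c, hj⟩ := hh i
  obtain ⟨k, d, hk⟩ := hg j
  exact ⟨k, c * d, by rw [oG_mul_apply, hj, map_smul, hk, smul_smul]⟩

theorem mono_R_e (h2 : (2 : F) ≠ 0) (a : ι) : Mono (R (F := F) (e a)) := fun i => by
  refine ⟨i, if i = a then -1 else 1, ?_⟩
  rw [R_e_apply h2]
  funext j
  simp only [Pi.smul_apply, smul_eq_mul, e_apply, Function.update_apply]
  rcases eq_or_ne i a with rfl | hia
  · split_ifs <;> simp_all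
  · split_ifs <;> simp_all

theorem mono_sw (h2 : (2 : F) ≠ 0) {a b : ι} (hab : a ≠ b) : Mono (sw (F := F) a b) := fun i =>
  ⟨_, 1, by rw [sw_e h2 hab, one_smul]⟩

variable [Finite F]

/-- an overgroup of the monomial elements, properly contained in the commutator subgroup -/
structure Over (H : Subgroup (oG (sq F ι))) : Prop where
  prime : (Nat.card F).Prime
  two : (2 : F) ≠ 0
  big : 5 ≤ Fintype.card ι
  le : H ≤ commutator (oG (sq F ι))
  mono : ∀ g ∈ commutator (oG (sq F ι)), Mono g → g ∈ H
  no : ¬ commutator (oG (sq F ι)) ≤ H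

variable {H : Subgroup (oG (sq F ι))}

theorem Over.natCast_surj (hH : Over H) (x : F) : ∃ k : ℕ, (k : F) = x := by
  haveI := Fintype.ofFinite F
  haveI : Fact (Nat.card F).Prime := ⟨hH.prime⟩
  haveI : CharP F (Nat.card F) := by
    obtain ⟨p, hp⟩ := CharP.exists F
    haveI := hp
    obtain ⟨m, hpp, hm⟩ := FiniteField.card F p
    have h : Nat.card F = p := by
      have hp' := hH.prime
      rw [Nat.card_eq_fintype_card, hm] at hp' ⊢
      rw [hp'.eq_one_of_pow, pow_one]
    rw [h]; exact hp
  let φ := ZMod.castHom (dvd_refl (Nat.card F)) F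
  have hbij : Function.Bijective φ := (Fintype.bijective_iff_injective_and_card φ).2
    ⟨φ.injective, by rw [ZMod.card, Nat.card_eq_fintype_card]⟩
  obtain ⟨z, rfl⟩ := hbij.2 x
  exact ⟨z.val, by rw [← map_natCast φ, ZMod.natCast_zmod_val]⟩

theorem Over.nd (hH : Over H) : (polarBilin (sq F ι)).Nondegenerate := sq_nondeg hH.two

theorem Over.pair_mem_comm (hH : Over H) {u v : ι → F} (hu : u ⬝ᵥ u ≠ 0) {t : F}
    (ht : v ⬝ᵥ v = t * t * (u ⬝ᵥ u)) (hv : v ⬝ᵥ v ≠ 0) : R u * R v ∈ commutator (oG (sq F ι)) := by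
  rw [R_eq (by rwa [sq_apply]), R_eq (by rwa [sq_apply])]
  exact rO_mul_mem_commutator hH.nd _ _ (t := t) (by rwa [sq_apply, sq_apply])

theorem Over.ee_mem (hH : Over H) (a b : ι) : R (e a) * R (e b) ∈ H :=
  hH.mono _ (hH.pair_mem_comm (t := 1) (by rw [e_self]; exact one_ne_zero) (by rw [e_self, e_self]; ring)
    (by rw [e_self]; exact one_ne_zero)) ((mono_R_e hH.two a).mul (mono_R_e hH.two b))

theorem Over.pp_mem (hH : Over H) {a b c d : ι} (hab : a ≠ b) (hcd : c ≠ d) : sw a b * sw c d ∈ H := by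
  refine hH.mono _ ?_ ((mono_sw hH.two hab).mul (mono_sw hH.two hcd))
  exact hH.pair_mem_comm (t := 1) (by rw [dot_sub_e hab]; exact hH.two)
    (by rw [dot_sub_e hab, dot_sub_e hcd]; ring) (by rw [dot_sub_e hcd]; exact hH.two)

theorem Over.nontriv_idx (hH : Over H) : Nonempty ι := Fintype.card_pos_iff.1 (by have := hH.big; omega)

/-- outside a small finite set there are fresh indices -/
theorem Over.fresh (hH : Over H) (S : Finset ι) (hS : S.card ≤ 4) : ∃ k, k ∉ S := by
  by_contra! h
  have : S = Finset.univ := Finset.eq_univ_of_forall h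
  rw [this, Finset.card_univ] at hS
  have := hH.big
  omega

/-- in dimension at least seven there are more fresh indices -/
theorem Over.fresh6 (_hH : Over H) (h7 : 7 ≤ Fintype.card ι) (S : Finset ι) (hS : S.card ≤ 6) : ∃ k, k ∉ S := by
  by_contra! h
  have : S = Finset.univ := Finset.eq_univ_of_forall h
  rw [this, Finset.card_univ] at hS
  omega

/-- in dimension at least ten there are more fresh indices -/
theorem Over.fresh' (_hH : Over H) (h10 : 10 ≤ Fintype.card ι) (S : Finset ι) (hS : S.card ≤ 9) : ∃ k, k ∉ S := by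
  by_contra! h
  have : S = Finset.univ := Finset.eq_univ_of_forall h
  rw [this, Finset.card_univ] at hS
  omega

/-- unit vectors whose reflection times any coordinate reflection lies in `H` -/
def T (H : Subgroup (oG (sq F ι))) (u : ι → F) : Prop :=
  u ⬝ᵥ u = 1 ∧ ∀ j, R u * R (e j) ∈ H

theorem T.of_one (hH : Over H) {u : ι → F} (hu : u ⬝ᵥ u = 1) {j : ι} (h : R u * R (e j) ∈ H) : T H u :=
  ⟨hu, fun k => by simpa [mul_assoc, R_mul_cancel] using mul_mem h (hH.ee_mem j k)⟩

theorem T.e_mem (hH : Over H) (a : ι) : T H (e a : ι → F) := ⟨e_self a, fun j => hH.ee_mem a j⟩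

theorem T.pair {u v : ι → F} [Nonempty ι] (hu : T H u) (hv : T H v) : R u * R v ∈ H := by
  have j := Classical.arbitrary ι
  have h := mul_mem (hu.2 j) (inv_mem (hv.2 j))
  rwa [_root_.mul_inv_rev, R_inv, R_inv, mul_assoc, R_mul_cancel] at h

theorem T.refl (hH : Over H) {u v : ι → F} (hu : T H u) (hv : T H v) : T H ((R u).1 v) := by
  haveI := hH.nontriv_idx
  refine T.of_one hH (j := Classical.arbitrary ι) (by rw [dot_oG _ hH.two]; exact hv.1) ?_
  set j := Classical.arbitrary ι
  rw [← conj_R, R_inv]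
  have : R u * R v * R u * R (e j) = R u * R v * (R u * R (e j)) := by rw [mul_assoc]
  rw [this]
  exact mul_mem (hu.pair hv) (hu.2 j)

theorem T.flip (hH : Over H) {u : ι → F} (hu : T H u) (a : ι) : T H (Function.update u a (-u a)) := by
  rw [← R_e_apply hH.two]
  exact (T.e_mem hH a).refl hH hu

theorem T.neg {u : ι → F} (hu : T H u) : T H (-u) := ⟨by rw [neg_dotProduct, dotProduct_neg, neg_neg]; exact hu.1,
  fun j => by rw [R_neg]; exact hu.2 j⟩

/-- moving by an element sending one coordinate vector to a coordinate vector up to sign -/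
theorem T.move (hH : Over H) {u : ι → F} (hu : T H u) {h : oG (sq F ι)} (hh : h ∈ H) {i j : ι} {c : F}
    (hc : c ≠ 0) (hij : h.1 (e i) = c • e j) : T H (h.1 u) := by
  refine T.of_one hH (j := j) (by rw [dot_oG _ hH.two]; exact hu.1) ?_
  have := mul_mem (mul_mem hh (hu.2 i)) (inv_mem hh)
  have e1 : h * (R u * R (e i)) * h⁻¹ = (h * R u * h⁻¹) * (h * R (e i) * h⁻¹) := by group
  rwa [e1, conj_R, conj_R, hij, R_smul hc] at this

theorem T.perm (hH : Over H) {u : ι → F} (hu : T H u) {a b c d : ι} (hab : a ≠ b) (hcd : c ≠ d) :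
    T H (fun i => u (Equiv.swap c d (Equiv.swap a b i))) := by
  have h := T.move hH hu (hH.pp_mem hab hcd) (i := a) (j := Equiv.swap a b (Equiv.swap c d a)) one_ne_zero
    (by rw [oG_mul_apply, sw_e hH.two hcd, sw_e hH.two hab, one_smul])
  rwa [oG_mul_apply, sw_apply hH.two hcd, sw_apply hH.two hab] at h

/-- changing the signs on any finite set -/
theorem T.flips (hH : Over H) {u : ι → F} (hu : T H u) (S : Finset ι) :
    T H (fun i => if i ∈ S then -u i else u i) := by
  induction S using Finset.induction_on with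
  | empty => simpa using hu
  | insert a S ha ih =>
    convert ih.flip hH a using 1
    funext i
    rw [Function.update_apply]
    split_ifs with h1 h2 <;> simp_all

/-- two members with product one span a line of members -/
theorem T.line (hH : Over H) {u v : ι → F} (hu : T H u) (hv : T H v) (h : u ⬝ᵥ v = 1) (k : F) :
    T H (u + k • (v - u)) := by
  obtain ⟨n, rfl⟩ := hH.natCast_surj k
  suffices ∀ n : ℕ, T H (u + (n : F) • (v - u)) ∧ T H (u + ((n + 1 : ℕ) : F) • (v - u)) from (this n).1
  intro n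
  induction n with
  | zero => exact ⟨by simpa using hu, by simpa using hv⟩
  | succ n ih =>
    refine ⟨ih.2, ?_⟩
    convert (ih.2.refl hH ih.1).neg using 1
    rw [R_apply hH.two ih.2.1]
    have hd : ∀ a b : F, (u + a • (v - u)) ⬝ᵥ (u + b • (v - u)) = 1 := fun a b => by
      simp only [add_dotProduct, dotProduct_add, smul_dotProduct, dotProduct_smul, sub_dotProduct, dotProduct_sub,
        dotProduct_comm v u, h, hu.1, hv.1, smul_eq_mul]
      ring
    rw [hd]
    push_cast
    module

/-- a part of square sum zero may be scaled -/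
theorem T.split (hH : Over H) {w : ι → F} (hw : T H w) (S : Finset ι) (hS : ∑ i ∈ S, w i * w i = 0) (l : F) :
    T H (fun i => if i ∈ S then l * w i else w i) := by
  have hd : w ⬝ᵥ (fun i => if i ∈ S then -w i else w i) = 1 := by
    rw [← hw.1]
    simp only [dotProduct]
    rw [← Finset.sum_sdiff (Finset.subset_univ S), ← Finset.sum_sdiff (Finset.subset_univ S),
      Finset.sum_congr rfl (s₁ := S) (g := fun i => -(w i * w i)) (fun i hi => by rw [if_pos hi]; ring),
      Finset.sum_neg_distrib, hS, neg_zero, add_zero, add_zero]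
    exact Finset.sum_congr rfl fun i hi => by rw [if_neg (Finset.mem_sdiff.1 hi).2]
  convert hw.line hH (hw.flips hH S) hd ((1 - l) / 2) using 1
  funext i
  simp only [Pi.add_apply, Pi.smul_apply, Pi.sub_apply, smul_eq_mul]
  have := hH.two
  split_ifs
  · field_simp; ring
  · ring

/-- the coordinates where a vector does not vanish -/
def supp [DecidableEq F] (x : ι → F) : Finset ι := Finset.univ.filter fun i => x i ≠ 0

end Cfsg.Agent.ClassicalMax.OrthMono
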