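import Cfsg.Agent.ClassicalMax.OrthMono.SixPair
import Cfsg.Agent.ClassicalMax.SympType.Ascent

/-!
Six coordinates: a proper overgroup of the monomial elements consists of monomial elements.
-/

set_option autoImplicit false
set_option linter.unusedSectionVars false
set_option linter.style.haveILetI false

namespace Cfsg.Agent.ClassicalMax.OrthMono

open Module QuadraticMap Cfsg.Agent.Classical Cfsg.Agent.Classical.Quad Matrix
open Cfsg.Agent.ClassicalMax.SympType (Lone ascent)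

variable {F ι : Type*} [Field F] [Fintype ι] [DecidableEq ι] [Finite F] {H : Subgroup (oG (sq F ι))}

theorem ext_e {g g' : oG (sq F ι)} (h : ∀ k, g.1 (e k) = g'.1 (e k)) : g = g' :=
  oG_ext' fun x => by
    have hx : x = ∑ k, x k • (e k : ι → F) := by funext l; simp [Finset.sum_apply, e_apply]
    rw [hx, map_sum, map_sum]
    simp [map_smul, h]

theorem coord_inj {c d : F} (hc : c ≠ 0) {x y : ι} (h : c • (e x : ι → F) = d • e y) : x = y := by
  by_contra hne
  have := congrFun h x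
  simp [hne] at this
  exact hc this

theorem mono_inj (h2 : (2 : F) ≠ 0) {g : oG (sq F ι)} {x y p : ι} {c d : F} (hx : g.1 (e x) = c • e p)
    (hy : g.1 (e y) = d • e p) : x = y := by
  by_contra hne
  have := dot_oG g h2 (e x) (e y)
  rw [hx, hy, smul_dotProduct, dotProduct_smul, e_self, dot_e, e_apply, if_neg (Ne.symm hne), smul_eq_mul,
    smul_eq_mul, mul_one] at this
  exact mul_ne_zero (mul_self_ne h2 (Mono.unit h2 hx)) (mul_self_ne h2 (Mono.unit h2 hy)) this

theorem conj_ee (h2 : (2 : F) ≠ 0) {g : oG (sq F ι)} {a b a' b' : ι} {α β : F} (ha : g.1 (e a) = α • e a')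
    (hb : g.1 (e b) = β • e b') : g * (R (e a : ι → F) * R (e b : ι → F)) * g⁻¹ = R (e a') * R (e b') := by
  rw [conj_RR, ha, hb, R_smul (mul_self_ne h2 (Mono.unit h2 ha)), R_smul (mul_self_ne h2 (Mono.unit h2 hb))]

theorem ee_symm (h2 : (2 : F) ≠ 0) {a b : ι} (hab : a ≠ b) :
    R (e a : ι → F) * R (e b : ι → F) = R (e b) * R (e a) :=
  RR_comm h2 (by rw [e_self]; exact one_ne_zero) (by rw [dot_e, e_apply, if_neg (Ne.symm hab)])

theorem R_e_e (h2 : (2 : F) ≠ 0) (a k : ι) :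
    (R (e a : ι → F)).1 (e k) = (if k = a then (-1 : F) else 1) • e k := by
  rw [R_e_apply h2]
  funext l
  by_cases hl : l = a
  · subst hl
    by_cases hkl : k = l <;> simp [hkl, eq_comm]
  · by_cases hka : k = a
    · subst hka; simp [hl]
    · simp [hl, hka]

theorem ee_e (h2 : (2 : F) ≠ 0) (a b k : ι) :
    (R (e a : ι → F) * R (e b : ι → F)).1 (e k) =
      ((if k = a then (-1 : F) else 1) * (if k = b then (-1 : F) else 1)) • e k := by
  rw [oG_mul_apply, R_e_e h2, map_smul, R_e_e h2, smul_smul, mul_comm]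

theorem negI_comm (g : oG (sq F ι)) : negI F ι * g = g * negI F ι :=
  oG_ext' fun x => by simp [oG_mul_apply, negI_apply]

theorem mono_negI : Mono (negI F ι) := fun k => ⟨k, -1, by rw [negI_apply, neg_one_smul]⟩

theorem four_eq (h2 : (2 : F) ≠ 0) {a b c d u v : ι} (hac : a ≠ c) (had : a ≠ d) (hbc : b ≠ c) (hbd : b ≠ d)
    (huc : u ≠ c) (hud : u ≠ d) (hvc : v ≠ c) (hvd : v ≠ d) (hau : a ≠ u) (hav : a ≠ v) (hbu : b ≠ u) (hbv : b ≠ v)
    (hab : a ≠ b) (hcd : c ≠ d) (huv : u ≠ v) (hall : ∀ x, x = a ∨ x = b ∨ x = c ∨ x = d ∨ x = u ∨ x = v) :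
    R (e u : ι → F) * R (e v : ι → F) * (R (e a) * R (e b)) = negI F ι * (R (e c) * R (e d)) :=
  ext_e fun k => by
    rw [oG_mul_apply, ee_e h2, map_smul, ee_e h2, oG_mul_apply (negI F ι), ee_e h2, negI_apply, ← neg_smul, smul_smul]
    congr 1
    rcases hall k with rfl | rfl | rfl | rfl | rfl | rfl <;>
      simp [hac, had, hbc, hbd, huc, hud, hvc, hvd, hau, hav, hbu, hbv, hab, hcd, huv, Ne.symm hac, Ne.symm had,
        Ne.symm hbc, Ne.symm hbd, Ne.symm huc, Ne.symm hud, Ne.symm hvc, Ne.symm hvd, Ne.symm hau, Ne.symm hav,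
        Ne.symm hbu, Ne.symm hbv, Ne.symm hab, Ne.symm hcd, Ne.symm huv]

/-- four signs fix a single frame as well -/
theorem lone_neg_pair (hH : Over H) (h6 : Fintype.card ι = 6) {h : oG (sq F ι)} (hh : h ∈ H) {i j : ι} (hij : i ≠ j)
    (hm : Mono (h⁻¹ * (negI F ι * (R (e i : ι → F) * R (e j : ι → F))) * h)) : Mono h := by
  refine lone_pair hH h6 hh hij ?_
  have e1 : h⁻¹ * (R (e i : ι → F) * R (e j : ι → F)) * h =
      negI F ι * (h⁻¹ * (negI F ι * (R (e i : ι → F) * R (e j : ι → F))) * h) := by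
    have hn : negI F ι * negI F ι = 1 := oG_ext' fun x => by simp [oG_mul_apply, negI_apply]
    calc h⁻¹ * (R (e i : ι → F) * R (e j : ι → F)) * h
        = negI F ι * negI F ι * (h⁻¹ * (R (e i : ι → F) * R (e j : ι → F)) * h) := by rw [hn, one_mul]
      _ = negI F ι * (negI F ι * h⁻¹ * (R (e i : ι → F) * R (e j : ι → F)) * h) := by simp only [mul_assoc]
      _ = _ := by rw [negI_comm h⁻¹]; simp only [mul_assoc]
  rw [e1]
  exact mono_negI.mul hm

/-- a double transposition fixes a single frame -/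
theorem lone_double (hH : Over H) (h6 : Fintype.card ι = 6) {z : oG (sq F ι)} (hzz : z * z = 1)
    {a b c d u v : ι} (hac : a ≠ c) (had : a ≠ d) (hbc : b ≠ c) (hbd : b ≠ d)
    (huc : u ≠ c) (hud : u ≠ d) (hvc : v ≠ c) (hvd : v ≠ d) (hau : a ≠ u) (hav : a ≠ v) (hbu : b ≠ u) (hbv : b ≠ v)
    (hab : a ≠ b) (hcd : c ≠ d) (huv : u ≠ v) (hall : ∀ x, x = a ∨ x = b ∨ x = c ∨ x = d ∨ x = u ∨ x = v)
    {α β γ η δ ε : F} (za : z.1 (e a) = α • e b) (zb : z.1 (e b) = β • e a) (zc : z.1 (e c) = γ • e d)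
    (zd : z.1 (e d) = η • e c) (zu : z.1 (e u) = δ • e u) (zv : z.1 (e v) = ε • e v)
    {h : oG (sq F ι)} (hh : h ∈ H) (hm : Mono (h⁻¹ * z * h)) : Mono h := by
  have h2 := hH.two
  haveI := finite_oG (F := F) (ι := ι)
  let K : Subgroup (oG (sq F ι)) := Subgroup.centralizer {z} ⊓ H
  have hK : ∀ {g : oG (sq F ι)}, g ∈ H → z * g * z⁻¹ = g → g ∈ K := fun {g} hg hc =>
    ⟨Subgroup.mem_centralizer_singleton_iff.2 (by
      calc g * z = z * g * z⁻¹ * z := by rw [hc]
        _ = z * g := by group), hg⟩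
  have hr : R (e u : ι → F) * R (e v : ι → F) ∈ K := hK (hH.ee_mem u v) (conj_ee h2 zu zv)
  have hw : R (e a : ι → F) * R (e b : ι → F) ∈ K :=
    hK (hH.ee_mem a b) ((conj_ee h2 za zb).trans (ee_symm h2 (Ne.symm hab)))
  have sq1 : ∀ x y : ι, x ≠ y → R (e x : ι → F) * R (e y : ι → F) * (R (e x) * R (e y)) = 1 := fun x y hxy => by
    nth_rewrite 2 [ee_symm h2 hxy]
    rw [mul_assoc, R_mul_cancel, R_mul_self]
  have key : (monoG F ι).subgroupOf K = ⊤ := by
    refine ascent _ (r := (⟨_, hr⟩ : K)) (z := (⟨_, hw⟩ : K)) (Subtype.ext (sq1 u v huv)) (Subtype.ext (sq1 a b hab))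
      ((mono_R_e h2 u).mul (mono_R_e h2 v)) ((mono_R_e h2 a).mul (mono_R_e h2 b))
      (fun k hk => lone_pair hH h6 k.2.2 huv hk) (fun k hk => lone_pair hH h6 k.2.2 hab hk) fun g hg k hk => ?_
    obtain ⟨a', μ, ga⟩ := (show Mono g.1 from hg) a
    obtain ⟨b', ν, gb⟩ := (show Mono g.1 from hg) b
    have hμ := mul_self_ne h2 (Mono.unit h2 ga)
    have hne : a' ≠ b' := fun e' => hab (mono_inj h2 ga (e' ▸ gb))
    have hgz : z * g.1 = g.1 * z := (Subgroup.mem_centralizer_singleton_iff.1 g.2.1).symm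
    have hz' : z.1 (e a') = (μ⁻¹ * (α * ν)) • e b' := by
      have := congrArg (fun x => x.1 (e a)) hgz
      simp only [oG_mul_apply, ga, za, gb, map_smul, smul_smul] at this
      calc z.1 (e a') = μ⁻¹ • (μ • z.1 (e a')) := by rw [inv_smul_smul₀ hμ]
        _ = _ := by rw [this, smul_smul]
    have hfix : ∀ {x : ι} {δ : F}, z.1 (e x) = δ • e x → x ≠ a' := fun {x δ} hx e' => hne (by
      rw [← e', hx] at hz'
      exact e' ▸ coord_inj (mul_self_ne h2 (Mono.unit h2 hx)) hz')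
    have ab : R (e a' : ι → F) * R (e b' : ι → F) = R (e a) * R (e b) ∨
        R (e a' : ι → F) * R (e b' : ι → F) = R (e c) * R (e d) := by
      rcases hall a' with e' | e' | e' | e' | e' | e'
      · rw [e', za] at hz'; rw [e', ← coord_inj (mul_self_ne h2 (Mono.unit h2 za)) hz']; exact Or.inl rfl
      · rw [e', zb] at hz'; rw [e', ← coord_inj (mul_self_ne h2 (Mono.unit h2 zb)) hz']
        exact Or.inl (ee_symm h2 (Ne.symm hab))
      · rw [e', zc] at hz'; rw [e', ← coord_inj (mul_self_ne h2 (Mono.unit h2 zc)) hz']; exact Or.inr rfl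
      · rw [e', zd] at hz'; rw [e', ← coord_inj (mul_self_ne h2 (Mono.unit h2 zd)) hz']
        exact Or.inr (ee_symm h2 (Ne.symm hcd))
      · exact absurd e'.symm (hfix zu)
      · exact absurd e'.symm (hfix zv)
    have hk' : Mono (k.1⁻¹ * (R (e u : ι → F) * R (e v : ι → F) * (R (e a') * R (e b'))) * k.1) := by
      rw [← conj_ee h2 ga gb]
      exact hk
    rcases ab with e' | e' <;> rw [e'] at hk'
    · rw [four_eq h2 hac had hbc hbd huc hud hvc hvd hau hav hbu hbv hab hcd huv hall] at hk'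
      exact lone_neg_pair hH h6 k.2.2 hcd hk'
    · rw [four_eq h2 (Ne.symm hac) (Ne.symm hbc) (Ne.symm had) (Ne.symm hbd) (Ne.symm hau) (Ne.symm hbu)
        (Ne.symm hav) (Ne.symm hbv) (Ne.symm huc) (Ne.symm hvc) (Ne.symm hud) (Ne.symm hvd) hcd hab huv
        (fun x => by rcases hall x with h | h | h | h | h | h <;> simp [h])] at hk'
      exact lone_neg_pair hH h6 k.2.2 hab hk'
  -- a conjugate commutes with some pair
  obtain ⟨z', hz'⟩ : ∃ z', z' = h⁻¹ * z * h := ⟨_, rfl⟩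
  rw [← hz'] at hm
  have hz'2 : z' * z' = 1 := by
    calc z' * z' = h⁻¹ * (z * z) * h := by rw [hz']; group
      _ = 1 := by rw [hzz, mul_one, inv_mul_cancel]
  obtain ⟨i, j, hij, hcomm⟩ : ∃ i j, i ≠ j ∧
      z' * (R (e i : ι → F) * R (e j : ι → F)) * z'⁻¹ = R (e i) * R (e j) := by
    by_cases hd' : ∀ x, ∃ c : F, z'.1 (e x) = c • e x
    · obtain ⟨ca, ha'⟩ := hd' a
      obtain ⟨cb, hb'⟩ := hd' b
      exact ⟨a, b, hab, conj_ee h2 ha' hb'⟩
    push Not at hd'
    obtain ⟨i, hi⟩ := hd'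
    obtain ⟨j, s, hij'⟩ := hm i
    have hne : i ≠ j := fun e' => hi s (by rw [hij', e'])
    have hji : z'.1 (e j) = s • e i := by
      have h9 : z'.1 (z'.1 (e i)) = e i := by rw [← oG_mul_apply, hz'2]; rfl
      rw [hij', map_smul] at h9
      calc z'.1 (e j) = (s * s) • z'.1 (e j) := by rw [Mono.unit h2 hij', one_smul]
        _ = _ := by rw [← smul_smul, h9]
    exact ⟨i, j, hne, (conj_ee h2 hij' hji).trans (ee_symm h2 (Ne.symm hne))⟩
  have hx : h * (R (e i : ι → F) * R (e j : ι → F)) * h⁻¹ ∈ K :=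
    hK (mul_mem (mul_mem hh (hH.ee_mem i j)) (inv_mem hh)) (by
      calc z * (h * (R (e i : ι → F) * R (e j : ι → F)) * h⁻¹) * z⁻¹
          = h * (z' * (R (e i : ι → F) * R (e j : ι → F)) * z'⁻¹) * h⁻¹ := by rw [hz']; group
        _ = _ := by rw [hcomm])
  have hmx : (⟨_, hx⟩ : K) ∈ (monoG F ι).subgroupOf K := by rw [key]; trivial
  have hinv : Mono h⁻¹ := lone_pair hH h6 (inv_mem hh) hij (by rw [inv_inv]; exact hmx)
  simpa using hinv.inv

/-- in six dimensions the overgroup consists of monomial elements -/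
theorem all_mono_six (hH : Over H) (h6 : Fintype.card ι = 6) {h : oG (sq F ι)} (hh : h ∈ H) : Mono h := by
  have h2 := hH.two
  haveI := finite_oG (F := F) (ι := ι)
  obtain ⟨a, b, hab, -, -⟩ := hH.two_fresh ∅ (by simp)
  obtain ⟨c, d, hcd, hc, hd⟩ := hH.two_fresh {a, b} (le_trans Finset.card_le_two (by norm_num))
  simp only [Finset.mem_insert, Finset.mem_singleton, not_or] at hc hd
  obtain ⟨u, v, huv, ua, ub, uc, ud, va, vb, vc, vd, hall⟩ :=
    six_last h6 hab (Ne.symm hc.1) (Ne.symm hd.1) (Ne.symm hc.2) (Ne.symm hd.2) hcd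
  obtain ⟨z, hz⟩ : ∃ z : oG (sq F ι), z = sw a b * sw c d := ⟨_, rfl⟩
  have hzH : z ∈ H := hz ▸ hH.pp_mem hab hcd
  have zapp : ∀ k, z.1 (e k) = e (Equiv.swap a b (Equiv.swap c d k)) := fun k => by
    rw [hz, oG_mul_apply, sw_e h2 hcd, sw_e h2 hab]
  have za : z.1 (e a) = e b := by
    rw [zapp, Equiv.swap_apply_of_ne_of_ne (Ne.symm hc.1) (Ne.symm hd.1), Equiv.swap_apply_left]
  have zb : z.1 (e b) = e a := by
    rw [zapp, Equiv.swap_apply_of_ne_of_ne (Ne.symm hc.2) (Ne.symm hd.2), Equiv.swap_apply_right]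
  have zc : z.1 (e c) = e d := by
    rw [zapp, Equiv.swap_apply_left, Equiv.swap_apply_of_ne_of_ne hd.1 hd.2]
  have zd : z.1 (e d) = e c := by
    rw [zapp, Equiv.swap_apply_right, Equiv.swap_apply_of_ne_of_ne hc.1 hc.2]
  have zu : z.1 (e u) = e u := by
    rw [zapp, Equiv.swap_apply_of_ne_of_ne uc ud, Equiv.swap_apply_of_ne_of_ne ua ub]
  have zv : z.1 (e v) = e v := by
    rw [zapp, Equiv.swap_apply_of_ne_of_ne vc vd, Equiv.swap_apply_of_ne_of_ne va vb]
  have hz2 : z * z = 1 := ext_e fun k => by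
    rw [oG_mul_apply]
    rcases hall k with rfl | rfl | rfl | rfl | rfl | rfl <;>
      simp only [za, zb, zc, zd, zu, zv] <;> rfl
  have hr2 : R (e a : ι → F) * R (e b : ι → F) * (R (e a) * R (e b)) = 1 := by
    nth_rewrite 2 [ee_symm h2 hab]
    rw [mul_assoc, R_mul_cancel, R_mul_self]
  have key : (monoG F ι).subgroupOf H = ⊤ := by
    refine ascent _ (r := (⟨_, hH.ee_mem a b⟩ : H)) (z := (⟨z, hzH⟩ : H)) (Subtype.ext hr2) (Subtype.ext hz2)
      ((mono_R_e h2 a).mul (mono_R_e h2 b)) ?_ (fun k hk => lone_pair hH h6 k.2 hab hk)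
      (fun k hk => lone_double hH h6 hz2 (Ne.symm hc.1) (Ne.symm hd.1) (Ne.symm hc.2) (Ne.symm hd.2) uc ud vc vd
        (Ne.symm ua) (Ne.symm va) (Ne.symm ub) (Ne.symm vb) hab hcd huv hall
        (α := 1) (β := 1) (γ := 1) (η := 1) (δ := 1) (ε := 1) (by rw [za, one_smul]) (by rw [zb, one_smul])
        (by rw [zc, one_smul]) (by rw [zd, one_smul]) (by rw [zu, one_smul]) (by rw [zv, one_smul]) k.2 hk) ?_
    · show Mono z
      rw [hz]
      exact (mono_sw h2 hab).mul (mono_sw h2 hcd)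
    intro g hg
    choose π μ hπ using (show Mono g.1 from hg)
    have hinj : Function.Injective π := fun x y hxy => mono_inj h2 (hπ x) (hxy ▸ hπ y)
    have hsurj := Finite.injective_iff_surjective.1 hinj
    have hall' : ∀ x, x = π a ∨ x = π b ∨ x = π c ∨ x = π d ∨ x = π u ∨ x = π v := fun x => by
      obtain ⟨y, rfl⟩ := hsurj x
      rcases hall y with rfl | rfl | rfl | rfl | rfl | rfl <;> simp
    obtain ⟨P, hP⟩ : ∃ P : oG (sq F ι), P = R (e a : ι → F) * R (e b : ι → F) * (g.1 * z * g.1⁻¹) := ⟨_, rfl⟩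
    have hPx : ∀ x y, z.1 (e x) = e y → ∃ s : F, P.1 (e (π x)) = s • e (π y) := by
      intro x y hxy
      have e1 : (g.1⁻¹).1 (e (π x)) = (μ x)⁻¹ • e x := by
        have h1 := congrArg (g.1⁻¹).1 (hπ x)
        rw [oG_inv_apply, map_smul] at h1
        calc (g.1⁻¹).1 (e (π x)) = (μ x)⁻¹ • (μ x • (g.1⁻¹).1 (e (π x))) := by
              rw [inv_smul_smul₀ (mul_self_ne h2 (Mono.unit h2 (hπ x)))]
          _ = _ := by rw [← h1]
      refine ⟨(μ x)⁻¹ * (μ y * ((if π y = a then (-1 : F) else 1) * (if π y = b then (-1 : F) else 1))), ?_⟩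
      rw [hP, oG_mul_apply, oG_mul_apply (g.1 * z), oG_mul_apply g.1, e1, map_smul, map_smul, map_smul, hxy, hπ y,
        map_smul, ee_e h2, smul_smul, smul_smul, mul_assoc]
    obtain ⟨α, pa⟩ := hPx a b za
    obtain ⟨β, pb⟩ := hPx b a zb
    obtain ⟨γ, pc⟩ := hPx c d zc
    obtain ⟨η, pd⟩ := hPx d c zd
    obtain ⟨δ, pu⟩ := hPx u u zu
    obtain ⟨ε, pv⟩ := hPx v v zv
    have ne : ∀ {x y : ι}, x ≠ y → π x ≠ π y := fun hxy e' => hxy (hinj e')
    have hac := ne (Ne.symm hc.1)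
    have had := ne (Ne.symm hd.1)
    have hbc := ne (Ne.symm hc.2)
    have hbd := ne (Ne.symm hd.2)
    have hau := ne (Ne.symm ua)
    have hav := ne (Ne.symm va)
    have hbu := ne (Ne.symm ub)
    have hbv := ne (Ne.symm vb)
    have hsq : ∀ k, (P * P).1 (e k) = (if k = π a ∨ k = π b then α * β else if k = π c ∨ k = π d then γ * η else 1) • e k := by
      intro k
      rw [oG_mul_apply]
      rcases hall' k with rfl | rfl | rfl | rfl | rfl | rfl
      · rw [pa, map_smul, pb, smul_smul, if_pos (Or.inl rfl)]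
      · rw [pb, map_smul, pa, smul_smul, if_pos (Or.inr rfl), mul_comm]
      · rw [pc, map_smul, pd, smul_smul, if_neg (not_or.2 ⟨Ne.symm hac, Ne.symm hbc⟩), if_pos (Or.inl rfl)]
      · rw [pd, map_smul, pc, smul_smul, if_neg (not_or.2 ⟨Ne.symm had, Ne.symm hbd⟩), if_pos (Or.inr rfl), mul_comm]
      · rw [pu, map_smul, pu, smul_smul, Mono.unit h2 pu, if_neg (not_or.2 ⟨Ne.symm hau, Ne.symm hbu⟩),
          if_neg (not_or.2 ⟨ne uc, ne ud⟩)]
      · rw [pv, map_smul, pv, smul_smul, Mono.unit h2 pv, if_neg (not_or.2 ⟨Ne.symm hav, Ne.symm hbv⟩),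
          if_neg (not_or.2 ⟨ne vc, ne vd⟩)]
    intro k hk
    have hk' : Mono (k.1⁻¹ * P * k.1) := by rw [hP]; exact hk
    show Mono k.1
    have hab' := ne hab
    have hcd' := ne hcd
    have huv' := ne huv
    rcases mul_self_eq_one_iff.1 (show α * β * (α * β) = 1 by
        linear_combination (β * β) * Mono.unit h2 pa + Mono.unit h2 pb) with e1 | e1 <;>
      rcases mul_self_eq_one_iff.1 (show γ * η * (γ * η) = 1 by
        linear_combination (η * η) * Mono.unit h2 pc + Mono.unit h2 pd) with e2 | e2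
    · have hPP : P * P = 1 := ext_e fun x => by
        rw [hsq, e1, e2]
        simp
      exact lone_double hH h6 hPP hac had hbc hbd (ne uc) (ne ud) (ne vc) (ne vd) hau hav hbu hbv hab' hcd' huv'
        hall' pa pb pc pd pu pv k.2 hk'
    all_goals
      have hsq' : Mono (k.1⁻¹ * (P * P) * k.1) := by
        have := hk'.mul hk'
        rwa [show k.1⁻¹ * P * k.1 * (k.1⁻¹ * P * k.1) = k.1⁻¹ * (P * P) * k.1 by group] at this
    · have hPP : P * P = R (e (π c) : ι → F) * R (e (π d) : ι → F) := ext_e fun x => by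
        rw [hsq, e1, e2, ee_e h2]
        congr 1
        by_cases x1 : x = π c
        · subst x1; simp [Ne.symm hac, Ne.symm hbc, hcd']
        by_cases x2 : x = π d
        · subst x2; simp [Ne.symm had, Ne.symm hbd, Ne.symm hcd']
        simp [x1, x2]
      exact lone_pair hH h6 k.2 hcd' (hPP ▸ hsq')
    · have hPP : P * P = R (e (π a) : ι → F) * R (e (π b) : ι → F) := ext_e fun x => by
        rw [hsq, e1, e2, ee_e h2]
        congr 1
        by_cases x1 : x = π a
        · subst x1; simp [hab']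
        by_cases x2 : x = π b
        · subst x2; simp [Ne.symm hab']
        simp [x1, x2]
      exact lone_pair hH h6 k.2 hab' (hPP ▸ hsq')
    · have hPP : P * P = negI F ι * (R (e (π u) : ι → F) * R (e (π v) : ι → F)) := ext_e fun x => by
        rw [hsq, e1, e2, oG_mul_apply (negI F ι), ee_e h2, negI_apply, ← neg_smul]
        congr 1
        rcases hall' x with rfl | rfl | rfl | rfl | rfl | rfl <;>
          simp [hau, hav, hbu, hbv, Ne.symm hau, Ne.symm hav, Ne.symm hbu, Ne.symm hbv, Ne.symm hac, Ne.symm hbc,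
            Ne.symm had, Ne.symm hbd, ne uc, ne ud, ne vc, ne vd, Ne.symm (ne uc), Ne.symm (ne ud), Ne.symm (ne vc),
            Ne.symm (ne vd), huv', Ne.symm huv']
      exact lone_neg_pair hH h6 k.2 huv' (hPP ▸ hsq')
  have : (⟨h, hh⟩ : H) ∈ (monoG F ι).subgroupOf H := by rw [key]; trivial
  exact this

end Cfsg.Agent.ClassicalMax.OrthMono
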