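import Cfsg.Agent.ClassicalMax.OrthMono.Criterion

/-!
Five coordinates: a proper overgroup of the monomial elements consists of monomial elements, since minus a coordinate
reflection lies in it, so it permutes the members, and the members are roots.
-/

set_option autoImplicit false
set_option linter.unusedSectionVars false
set_option linter.style.haveILetI false

namespace Cfsg.Agent.ClassicalMax.OrthMono

open Module QuadraticMap Cfsg.Agent.Classical Cfsg.Agent.Classical.Quad Matrix

variable {F ι : Type*} [Field F] [Fintype ι] [DecidableEq ι]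

variable (F ι) in
/-- minus the identity -/
noncomputable def negI : oG (sq F ι) := ⟨LinearEquiv.neg F, fun x => by
  show sq F ι (-x) = sq F ι x
  rw [QuadraticMap.map_neg]⟩

theorem negI_apply (x : ι → F) : (negI F ι).1 x = -x := rfl

variable [Finite F] {H : Subgroup (oG (sq F ι))}

/-- minus a coordinate reflection -/
theorem neg_R_mem (hH : Over H) (h5 : Fintype.card ι = 5) (a : ι) : R (e a) * negI F ι ∈ H := by
  classical
  obtain ⟨b, hb⟩ := hH.fresh {a} (by simp)
  obtain ⟨c, hc⟩ := hH.fresh {a, b} (le_trans Finset.card_le_two (by norm_num))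
  obtain ⟨d, hd⟩ := hH.fresh {a, b, c} (le_trans Finset.card_le_three (by norm_num))
  obtain ⟨f, hf⟩ := hH.fresh {a, b, c, d} Finset.card_le_four
  simp only [Finset.mem_singleton, Finset.mem_insert, not_or] at hb hc hd hf
  have hall : ∀ i, i = a ∨ i = b ∨ i = c ∨ i = d ∨ i = f := by
    intro i
    by_contra hi
    simp only [not_or] at hi
    have := Finset.card_le_univ ({i, a, b, c, d, f} : Finset ι)
    rw [h5, Finset.card_insert_of_notMem (by simp [hi]), Finset.card_insert_of_notMem (by simp [Ne.symm hb, Ne.symm hc.1, Ne.symm hd.1, Ne.symm hf.1]),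
      Finset.card_insert_of_notMem (by simp [Ne.symm hc.2, Ne.symm hd.2.1, Ne.symm hf.2.1]),
      Finset.card_insert_of_notMem (by simp [Ne.symm hd.2.2, Ne.symm hf.2.2.1]),
      Finset.card_pair (Ne.symm hf.2.2.2)] at this
    omega
  have e1 : R (e a) * negI F ι = R (e b) * R (e c) * (R (e d) * R (e f)) := ext_oG fun x => funext fun i => by
    simp only [oG_mul_apply, negI_apply, R_e_apply hH.two, Function.update_apply, Pi.neg_apply]
    rcases hall i with rfl | rfl | rfl | rfl | rfl <;>
      simp [hb, hc.1, hc.2, hd.1, hd.2.1, hd.2.2, hf.1, hf.2.1, hf.2.2.1, hf.2.2.2, Ne.symm hb, Ne.symm hc.1,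
        Ne.symm hc.2, Ne.symm hd.1, Ne.symm hd.2.1, Ne.symm hd.2.2, Ne.symm hf.1, Ne.symm hf.2.1, Ne.symm hf.2.2.1,
        Ne.symm hf.2.2.2]
  rw [e1]
  exact mul_mem (hH.ee_mem b c) (hH.ee_mem d f)

/-- the images of the coordinate vectors are members -/
theorem T.col (hH : Over H) (h5 : Fintype.card ι = 5) {h : oG (sq F ι)} (hh : h ∈ H) (a : ι) : T H (h.1 (e a)) := by
  refine T.of_one hH (by rw [dot_oG _ hH.two, e_self]) (j := a) ?_
  have hn := neg_R_mem hH h5 a
  have h1 := mul_mem (mul_mem (mul_mem hh hn) (inv_mem hh)) hn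
  have e1 : h * (R (e a) * negI F ι) * h⁻¹ * (R (e a) * negI F ι) = R (h.1 (e a)) * R (e a) := by
    rw [← conj_R]
    refine ext_oG fun x => ?_
    simp only [oG_mul_apply, negI_apply, map_neg, neg_neg]
  rwa [e1] at h1

/-- the overgroup permutes the members -/
theorem T.map (hH : Over H) (h5 : Fintype.card ι = 5) {h : oG (sq F ι)} (hh : h ∈ H) {v : ι → F} (hv : T H v) :
    T H (h.1 v) := by
  haveI := hH.nontriv_idx
  obtain ⟨a⟩ := hH.nontriv_idx
  refine T.of_one hH (by rw [dot_oG _ hH.two]; exact hv.1) (j := a) ?_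
  have h1 := mul_mem (mul_mem (mul_mem hh (hv.2 a)) (inv_mem hh)) ((T.col hH h5 hh a).2 a)
  have e1 : h * (R v * R (e a)) * h⁻¹ * (R (h.1 (e a)) * R (e a)) = R (h.1 v) * R (e a) := by
    have e2 : h * (R v * R (e a)) * h⁻¹ = R (h.1 v) * R (h.1 (e a)) := by rw [← conj_R, ← conj_R]; group
    rw [e2, mul_assoc, R_mul_cancel]
  rwa [e1] at h1

open scoped _root_.Classical in
/-- in five dimensions the overgroup consists of monomial elements -/
theorem all_mono_five (hH : Over H) (h5 : Fintype.card ι = 5) {h : oG (sq F ι)} (hh : h ∈ H) : Mono h := by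
  have h2 := hH.two
  have hroot : ∀ a, Root (h.1 (e a)) := fun a => roots_only hH (T.col hH h5 hh a)
  have hunit : ∀ a, h.1 (e a) ⬝ᵥ h.1 (e a) = 1 := fun a => by rw [dot_oG _ h2, e_self]
  intro a
  by_contra hno
  push Not at hno
  rcases hroot a with ⟨p, hp⟩ | ⟨p, q, hpq, hsq, hz⟩
  · exact hno p (h.1 (e a) p) (funext fun i => by
      rcases eq_or_ne i p with rfl | hi
      · simp
      · simp [hp i hi, hi])
  set u := h.1 (e a) with hu
  have hsum : u p * u p + u q * u q = 1 := by rw [← sum_two hpq hz]; exact hunit a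
  have hp0 : u p ≠ 0 := fun h0 => h2 (by
    have : (1 : F) = 0 := by rw [← hsum, ← hsq, h0]; ring
    linear_combination 2 * this)
  have hq0 : u q ≠ 0 := fun h0 => hp0 (mul_self_eq_zero.1 (by rw [hsq, h0, mul_zero]))
  -- a column on the same pair is determined up to a scalar
  have pair : ∀ b, b ≠ a → (h.1 (e b) p ≠ 0 ∨ h.1 (e b) q ≠ 0) →
      h.1 (e b) p ≠ 0 ∧ h.1 (e b) q * u q = -(h.1 (e b) p * u p) ∧ ∀ i, i ≠ p → i ≠ q → h.1 (e b) i = 0 := by
    intro b hb hpq'
    set w := h.1 (e b) with hw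
    have horth : w p * u p + w q * u q = 0 := by
      have h1 : w ⬝ᵥ u = 0 := by rw [dot_oG _ h2, dot_e, e_apply, if_neg (Ne.symm hb)]
      rw [← h1, dotProduct, ← Finset.sum_subset (Finset.subset_univ {p, q}) (fun i _ hi => by
        simp only [Finset.mem_insert, Finset.mem_singleton, not_or] at hi
        rw [hz i hi.1 hi.2, mul_zero]), Finset.sum_pair hpq]
    have hwp : w p ≠ 0 := fun h0 => by
      rw [h0, zero_mul, zero_add] at horth
      exact hpq'.elim (fun h => h h0) (fun h => h ((mul_eq_zero.1 horth).resolve_right hq0))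
    have hwq : w q ≠ 0 := fun h0 => by
      rw [h0, zero_mul, add_zero] at horth
      exact mul_ne_zero hwp hp0 horth
    refine ⟨hwp, by linear_combination horth, fun i hip hiq => ?_⟩
    rcases hroot b with ⟨r, hr⟩ | ⟨r, s, -, -, hrs⟩
    · rcases eq_or_ne p r with rfl | hpr
      · exact hr i hip
      · exact absurd (hr p hpr) hwp
    · by_contra hi
      have m : ∀ j, w j ≠ 0 → j = r ∨ j = s := fun j hj => by
        by_contra hn
        rw [not_or] at hn
        exact hj (hrs j hn.1 hn.2)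
      rcases m i hi with rfl | rfl <;> rcases m p hwp with rfl | rfl <;> rcases m q hwq with rfl | rfl <;>
        first | exact hip rfl | exact hiq rfl | exact hpq rfl
  -- some column avoids the pair
  obtain ⟨b, hb, hbp, hbq⟩ : ∃ b, b ≠ a ∧ h.1 (e b) p = 0 ∧ h.1 (e b) q = 0 := by
    obtain ⟨b1, hb1⟩ := hH.fresh {a} (by simp)
    obtain ⟨b2, hb2⟩ := hH.fresh {a, b1} (le_trans Finset.card_le_two (by norm_num))
    simp only [Finset.mem_singleton, Finset.mem_insert, not_or] at hb1 hb2
    by_contra! hc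
    have or' : ∀ b, b ≠ a → h.1 (e b) p ≠ 0 ∨ h.1 (e b) q ≠ 0 := fun b hb => by
      by_cases h0 : h.1 (e b) p = 0
      · exact Or.inr (hc b hb h0)
      · exact Or.inl h0
    obtain ⟨x1, y1, z1⟩ := pair b1 hb1 (or' b1 hb1)
    obtain ⟨x2, y2, -⟩ := pair b2 hb2.1 (or' b2 hb2.1)
    have h1 : h.1 (e b1) ⬝ᵥ h.1 (e b2) = 0 := by rw [dot_oG _ h2, dot_e, e_apply, if_neg hb2.2]
    rw [dotProduct, ← Finset.sum_subset (Finset.subset_univ {p, q}) (fun i _ hi => by
      simp only [Finset.mem_insert, Finset.mem_singleton, not_or] at hi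
      rw [z1 i hi.1 hi.2, zero_mul]), Finset.sum_pair hpq] at h1
    refine mul_ne_zero (mul_ne_zero h2 (mul_ne_zero x1 x2)) (mul_ne_zero hp0 hp0) ?_
    linear_combination (u q * u q) * h1 + (h.1 (e b1) p * h.1 (e b2) p) * hsq -
      (h.1 (e b2) q * u q) * y1 + (h.1 (e b1) p * u p) * y2
  obtain ⟨r, hr⟩ : ∃ r, h.1 (e b) r ≠ 0 := by
    by_contra! h0
    have := hunit b
    rw [show h.1 (e b) = 0 from funext h0, zero_dotProduct] at this
    exact zero_ne_one this
  have hrp : r ≠ p := fun e' => hr (e' ▸ hbp)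
  have hrq : r ≠ q := fun e' => hr (e' ▸ hbq)
  have hm := roots_only hH (T.map hH h5 hh (T.root hH (Ne.symm hb) (t := u p) (by linear_combination hsum + hsq)))
  have val : ∀ i, h.1 (u p • (e a + e b)) i = u p * (u i + h.1 (e b) i) := fun i => by
    rw [map_smul, map_add]; rfl
  have n1 : h.1 (u p • (e a + e b)) p ≠ 0 := by rw [val, hbp, add_zero]; exact mul_ne_zero hp0 hp0
  have n2 : h.1 (u p • (e a + e b)) q ≠ 0 := by rw [val, hbq, add_zero]; exact mul_ne_zero hp0 hq0
  have n3 : h.1 (u p • (e a + e b)) r ≠ 0 := by rw [val, hz r hrp hrq, zero_add]; exact mul_ne_zero hp0 hr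
  rcases hm with ⟨s, hs⟩ | ⟨s, s', -, -, hs⟩
  · rcases eq_or_ne p s with rfl | hps
    · exact n2 (hs q (Ne.symm hpq))
    · exact n1 (hs p hps)
  · have m : ∀ j, h.1 (u p • (e a + e b)) j ≠ 0 → j = s ∨ j = s' := fun j hj => by
      by_contra hn
      rw [not_or] at hn
      exact hj (hs j hn.1 hn.2)
    rcases m p n1 with rfl | rfl <;> rcases m q n2 with rfl | rfl <;> rcases m r n3 with rfl | rfl <;>
      first | exact hpq rfl | exact hrp rfl | exact hrq rfl

end Cfsg.Agent.ClassicalMax.OrthMono
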