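import Cfsg.Agent.ClassicalMax.OrthMono.Main
import Cfsg.Agent.ClassicalMax.OrthMono.Small
import Cfsg.Agent.ClassicalMax.OrthMono.SixMain

/-!
Maximality of the stabiliser of a frame in the commutator subgroup of the isometry group.
-/

set_option autoImplicit false
set_option linter.unusedSectionVars false
set_option linter.style.haveILetI false

namespace Cfsg.Agent.ClassicalMax.OrthMono

open Module QuadraticMap Cfsg.Agent.Classical Cfsg.Agent.Classical.Quad Matrix

section Iso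

variable {F : Type*} [Field F] {V W : Type*} [AddCommGroup V] [Module F V] [AddCommGroup W] [Module F W]
  {Q : QuadraticForm F V} {Q' : QuadraticForm F W}

/-- transport of isometries along a similitude -/
def simHom (ψ : V ≃ₗ[F] W) {c : F} (hc : c ≠ 0) (h : ∀ x, Q' (ψ x) = c * Q x) : oG Q →* oG Q' where
  toFun g := ⟨(ψ.symm.trans g.1).trans ψ, fun x => by
    show Q' (ψ (g.1 (ψ.symm x))) = Q' x
    rw [h, g.2, ← h, ψ.apply_symm_apply]⟩
  map_one' := ext_oG fun x => ψ.apply_symm_apply x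
  map_mul' g k := ext_oG fun x => by
    show ψ ((g * k).1 (ψ.symm x)) = ψ (g.1 (ψ.symm (ψ (k.1 (ψ.symm x)))))
    rw [ψ.symm_apply_apply, oG_mul_apply]

theorem simHom_apply (ψ : V ≃ₗ[F] W) {c : F} (hc : c ≠ 0) (h : ∀ x, Q' (ψ x) = c * Q x) (g : oG Q) (x : V) :
    (simHom ψ hc h g).1 (ψ x) = ψ (g.1 x) := by
  show ψ (g.1 (ψ.symm (ψ x))) = _
  rw [ψ.symm_apply_apply]

theorem simHom_bijective (ψ : V ≃ₗ[F] W) {c : F} (hc : c ≠ 0) (h : ∀ x, Q' (ψ x) = c * Q x) :
    Function.Bijective (simHom ψ hc h) := by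
  have h' : ∀ x, Q (ψ.symm x) = c⁻¹ * Q' x := fun x => by
    have := h (ψ.symm x)
    rw [ψ.apply_symm_apply] at this
    rw [this, inv_mul_cancel_left₀ hc]
  refine ⟨fun g k e' => ext_oG fun x => ψ.injective ?_, fun g => ⟨simHom ψ.symm (inv_ne_zero hc) h' g,
    ext_oG fun x => ?_⟩⟩
  · rw [← simHom_apply ψ hc h g, ← simHom_apply ψ hc h k, e']
  · show ψ (ψ.symm (g.1 (ψ.symm.symm (ψ.symm x)))) = _
    rw [LinearEquiv.symm_symm, ψ.apply_symm_apply, ψ.apply_symm_apply]

end Iso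

variable {F : Type*} [Field F] [Fintype F]

theorem exists_not_mono {κ : Type*} [Fintype κ] [DecidableEq κ] (h2 : (2 : F) ≠ 0) (hn : 5 ≤ Fintype.card κ) :
    ∃ g ∈ commutator (oG (sq F κ)), ¬ Mono g := by
  classical
  obtain ⟨e0⟩ : Nonempty (Fin 5 ↪ κ) := Function.Embedding.nonempty_of_card_le (by simpa using hn)
  set a := e0 0
  set b := e0 1
  set d := e0 2
  set k := e0 3
  have hab : a ≠ b := e0.injective.ne (by decide)
  have had : a ≠ d := e0.injective.ne (by decide)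
  have hak : a ≠ k := e0.injective.ne (by decide)
  have hbd : b ≠ d := e0.injective.ne (by decide)
  have hbk : b ≠ k := e0.injective.ne (by decide)
  have hdk : d ≠ k := e0.injective.ne (by decide)
  obtain ⟨u, huu, ha, hb, hd⟩ : ∃ u : κ → F, u ⬝ᵥ u = 1 ∧ u a ≠ 0 ∧ u b ≠ 0 ∧ u d ≠ 0 := by
    by_cases h3 : (3 : F) = 0
    · refine ⟨e a + e b + e d + e k, ?_, ?_, ?_, ?_⟩
      · simp [dotProduct_add, hab, had, hak, hbd, hbk, hdk, Ne.symm hab, Ne.symm had, Ne.symm hak, Ne.symm hbd,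
          Ne.symm hbk, Ne.symm hdk]
        linear_combination h3
      · simp [hab, had, hak]
      · simp [Ne.symm hab, hbd, hbk]
      · simp [Ne.symm had, Ne.symm hbd, hdk]
    · have h9 : (9 : F) ≠ 0 := by rw [show (9 : F) = 3 * 3 by norm_num]; exact mul_ne_zero h3 h3
      refine ⟨(1 / 3 : F) • e a + (2 / 3 : F) • e b + (2 / 3 : F) • e d, ?_, ?_, ?_, ?_⟩
      · simp [dotProduct_add, hab, had, hbd, Ne.symm hab, Ne.symm had, Ne.symm hbd]
        field_simp
        ring
      · simp [hab, had, h3]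
      · simp [Ne.symm hab, hbd, h2, h3]
      · simp [Ne.symm had, Ne.symm hbd, h2, h3]
  set g : oG (sq F κ) := R u * R (e k) with hg
  refine ⟨g, ?_, fun hm => ?_⟩
  · rw [hg, R_eq (by rw [sq_apply, huu]; exact one_ne_zero), R_eq (by rw [sq_apply, e_self]; exact one_ne_zero)]
    exact rO_mul_mem_commutator (sq_nondeg h2) _ _ (t := 1) (by rw [sq_apply, sq_apply, huu, e_self]; ring)
  · have h1 : ∀ l, l ≠ a → g.1 (e a) l = -(2 * (u a * u l)) := fun l hl => by
      rw [hg, oG_mul_apply, R_apply h2 (e_self k), e_dot, R_apply h2 huu]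
      simp [hak, hl]
      ring
    refine hbd (hm.col (j := a) ?_ ?_)
    · rw [h1 b (Ne.symm hab)]; exact neg_ne_zero.2 (mul_ne_zero h2 (mul_ne_zero ha hb))
    · rw [h1 d (Ne.symm had)]; exact neg_ne_zero.2 (mul_ne_zero h2 (mul_ne_zero ha hd))

variable {ι : Type} [Fintype ι] [DecidableEq ι]

/-- the elements permuting the lines of a frame form a maximal subgroup, in dimension five and from seven on -/
theorem isMaximalIn_frame_gen (Q : QuadraticForm F (ι → F)) (hQ : (polarBilin Q).Nondegenerate) (h2 : (2 : F) ≠ 0)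
    (hp : (Fintype.card F).Prime)
    (hok : (7 ≤ Fintype.card ι ∧ (10 ≤ Fintype.card ι ∨ Odd (Fintype.card ι))) ∨ Fintype.card ι = 5 ∨
      Fintype.card ι = 6) {t : ℕ} (D : Fin t → Submodule F (ι → F))
    (hD : Cfsg.Geo.IsOrthogonalMDecomposition (⇑Q) 1 D) :
    Cfsg.Geo.IsMaximalIn (Cfsg.Geo.omegaGL ⇑Q) (Cfsg.Geo.decompositionStabilizer D ⊓ Cfsg.Geo.omegaGL ⇑Q) := by
  classical
  have hn : 5 ≤ Fintype.card ι := by omega
  obtain ⟨⟨hM, hnd, horth⟩, hiso⟩ := hD
  have h0t : 0 < t := by have := hM.two_le; omega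
  obtain ⟨v0, hv0, hv0ne⟩ := (Submodule.ne_bot_iff (D ⟨0, h0t⟩)).1 fun h => by
    have := hM.finrank_eq ⟨0, h0t⟩
    rw [h, finrank_bot] at this
    omega
  choose f hf using fun i => hiso ⟨0, h0t⟩ i
  let b : Fin t → ι → F := fun i => (f i ⟨v0, hv0⟩ : D i)
  have hbD : ∀ i, b i ∈ D i := fun i => (f i ⟨v0, hv0⟩).2
  have hbne : ∀ i, b i ≠ 0 := fun i h => hv0ne (by
    have h' : f i ⟨v0, hv0⟩ = 0 := Subtype.ext h
    exact congrArg Subtype.val ((f i).map_eq_zero_iff.1 h'))
  set μ := Q v0 with hμdef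
  have hbQ : ∀ i, Q (b i) = μ := fun i => hf i ⟨v0, hv0⟩
  have hspan : ∀ i, D i = Submodule.span F {b i} := fun i => (Submodule.eq_of_le_of_finrank_eq
    ((Submodule.span_singleton_le_iff_mem _ _).2 (hbD i))
    (by rw [finrank_span_singleton (hbne i), hM.finrank_eq])).symm
  have hμ : μ ≠ 0 := fun h => by
    obtain ⟨-, y, hy, hy'⟩ := hnd ⟨0, h0t⟩ (b ⟨0, h0t⟩) (hbD _) (hbne _)
    rw [hspan] at hy
    obtain ⟨r, rfl⟩ := Submodule.mem_span_singleton.1 hy
    apply hy'
    rw [polar_smul_right, polar_self', hbQ, h]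
    simp
  have hpol : ∀ i j, polar Q (b i) (b j) = if i = j then 2 * μ else 0 := fun i j => by
    split_ifs with h
    · subst h
      rw [polar_self', hbQ]
    · exact horth i j h _ (hbD i) _ (hbD j)
  have hsumQ : ∀ x : Fin t → F, polar Q (∑ i, x i • b i) = fun y => ∑ i, x i * polar Q (b i) y := fun x => by
    funext y
    show polarBilin Q (∑ i, x i • b i) y = _
    simp [map_sum, LinearMap.sum_apply]
  have hli : LinearIndependent F b := by
    rw [Fintype.linearIndependent_iff]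
    intro g hg i
    have := congrFun (hsumQ g) (b i)
    rw [hg, polar_comm, show polar Q (b i) 0 = 0 by simp [polar]] at this
    simp only [hpol, mul_ite, mul_zero, Finset.sum_ite_eq', Finset.mem_univ, if_true] at this
    exact (mul_eq_zero.1 this.symm).resolve_right (mul_ne_zero h2 hμ)
  have htop : ⊤ ≤ Submodule.span F (Set.range b) := by
    rw [← hM.iSup_eq_top]
    exact iSup_le fun i => by rw [hspan]; exact Submodule.span_mono (Set.singleton_subset_iff.2 ⟨i, rfl⟩)
  let B : Basis (Fin t) F (ι → F) := Basis.mk hli htop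
  let ψ : (Fin t → F) ≃ₗ[F] (ι → F) := B.equivFun.symm
  have hψ : ∀ x, ψ x = ∑ i, x i • b i := fun x => by
    simp [ψ, B, Basis.equivFun_symm_apply]
  have hψe : ∀ i, ψ (e i) = b i := fun i => by
    rw [hψ]; simp [Pi.single_apply]
  have hsim : ∀ x, Q (ψ x) = μ * sq F (Fin t) x := fun x => by
    apply mul_left_cancel₀ h2
    have h1 := congrFun (hsumQ x) (∑ i, x i • b i)
    rw [polar_self'] at h1
    have h3 : ∀ i, polar Q (b i) (∑ j, x j • b j) = 2 * μ * x i := fun i => by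
      rw [polar_comm, congrFun (hsumQ x) (b i)]
      simp only [hpol, mul_ite, mul_zero, Finset.sum_ite_eq', Finset.mem_univ, if_true]
      ring
    simp only [h3] at h1
    rw [hψ, sq_apply, dotProduct]
    rw [Finset.mul_sum, Finset.mul_sum]
    simp only [two_mul, two_nsmul] at h1 ⊢
    rw [h1]
    exact Finset.sum_congr rfl fun i _ => by ring
  have ht : Fintype.card ι = t := by
    have := B.equivFun.finrank_eq
    simpa using this
  let φ : oG (sq F (Fin t)) →* oG Q := simHom ψ hμ hsim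
  have hφ : Function.Bijective φ := simHom_bijective ψ hμ hsim
  have hφe : ∀ g i, (φ g).1 (b i) = ψ (g.1 (e i)) := fun g i => by rw [← hψe, simHom_apply]
  have hcomm : (commutator (oG (sq F (Fin t)))).map φ = commutator (oG Q) := by
    rw [commutator_def, commutator_def, Subgroup.map_commutator, Subgroup.map_top_of_surjective _ hφ.2]
  have hS : ∀ g : oG (sq F (Fin t)), (glEquiv ι F).symm (φ g).1 ∈ Cfsg.Geo.decompositionStabilizer D ↔ Mono g := by
    intro g
    have e0 : Matrix.toLin' ((((glEquiv ι F).symm (φ g).1 : GL ι F)) : Matrix ι ι F) = (φ g).1.toLinearMap :=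
      LinearMap.ext fun x => by
        conv_rhs => rw [← (glEquiv ι F).apply_symm_apply (φ g).1]
        rw [LinearEquiv.coe_coe, glEquiv_apply, Matrix.toLin'_apply]
    show (∃ σ : Equiv.Perm (Fin t), ∀ i, _) ↔ _
    rw [e0]
    constructor
    · rintro ⟨σ, hσ⟩ i
      have h1 : (φ g).1 (b i) ∈ D (σ i) := hσ i ▸ Submodule.mem_map_of_mem (hbD i)
      rw [hφe, hspan] at h1
      obtain ⟨r, hr⟩ := Submodule.mem_span_singleton.1 h1
      exact ⟨σ i, r, ψ.injective (by rw [map_smul, hψe, hr])⟩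
    · intro hm
      choose σ c hσ using hm
      have hc : ∀ i, c i ≠ 0 := fun i h => by
        have := dot_oG g h2 (e i) (e i)
        rw [hσ, h, zero_smul, zero_dotProduct, e_self] at this
        exact zero_ne_one this
      have hinj : Function.Injective σ := fun i j hij => by
        by_contra hne
        have := dot_oG g h2 (e i) (e j)
        rw [hσ, hσ, hij, smul_dotProduct, dotProduct_smul, e_self, dot_e, e_apply, if_neg (Ne.symm hne)] at this
        exact mul_ne_zero (hc i) (hc j) (by simpa using this)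
      refine ⟨Equiv.ofBijective σ (Finite.injective_iff_bijective.1 hinj), fun i => ?_⟩
      rw [Equiv.ofBijective_apply, hspan, hspan, Submodule.map_span, Set.image_singleton, LinearEquiv.coe_coe, hφe,
        hσ, map_smul, hψe]
      exact Submodule.span_singleton_smul_eq (Ne.isUnit (hc i)) _
  constructor
  · obtain ⟨g, hg, hgm⟩ := exists_not_mono (κ := Fin t) h2 (by rw [Fintype.card_fin, ← ht]; omega)
    refine lt_of_le_of_ne inf_le_right fun heq => hgm ((hS g).1 ?_)
    exact (heq.ge ((Subfield.RootOrth.mem_omegaGL Q (φ g)).2 (hcomm ▸ Subgroup.mem_map_of_mem φ hg))).1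
  intro M hM1 hM2
  by_cases hle : M ≤ Cfsg.Geo.decompositionStabilizer D
  · exact Or.inl (le_antisymm (le_inf hle hM2) hM1)
  let χ : oG Q →* GL ι F := (glEquiv ι F).symm.toMonoidHom.comp (oG Q).subtype
  let H : Subgroup (oG (sq F (Fin t))) := M.comap (χ.comp φ)
  by_cases hno : commutator (oG (sq F (Fin t))) ≤ H
  · refine Or.inr (le_antisymm hM2 fun k hk => ?_)
    obtain ⟨k', hk', hkk⟩ := Subfield.RootOrth.exists_oG_of_omega Q hk
    rw [← hcomm] at hk'
    obtain ⟨g, hg, rfl⟩ := Subgroup.mem_map.1 hk'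
    have h' : (glEquiv ι F).symm (φ g).1 ∈ M := hno hg
    rwa [hkk, MulEquiv.symm_apply_apply] at h'
  exfalso
  have hO : Over H :=
    { prime := by rwa [Nat.card_eq_fintype_card]
      two := h2
      big := by rw [Fintype.card_fin, ← ht]; exact hn
      le := fun g hg => by
        have h1 : φ g ∈ commutator (oG Q) := (Subfield.RootOrth.mem_omegaGL Q _).1 (hM2 hg)
        rw [← hcomm] at h1
        obtain ⟨g', hg', e'⟩ := Subgroup.mem_map.1 h1
        exact hφ.1 e' ▸ hg'
      mono := fun g hg hm => hM1 ⟨(hS g).2 hm, (Subfield.RootOrth.mem_omegaGL Q _).2 (hcomm ▸ Subgroup.mem_map_of_mem φ hg)⟩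
      no := hno }
  obtain ⟨x, hxM, hxS⟩ := SetLike.not_le_iff_exists.1 hle
  obtain ⟨k', -, hkk⟩ := Subfield.RootOrth.exists_oG_of_omega Q (hM2 hxM)
  have hkx : (glEquiv ι F).symm k'.1 = x := by rw [hkk, MulEquiv.symm_apply_apply]
  obtain ⟨g, rfl⟩ := hφ.2 k'
  have hgH : g ∈ H := by
    show (glEquiv ι F).symm (φ g).1 ∈ M
    rw [hkx]; exact hxM
  refine hxS (hkx ▸ (hS g).2 ?_)
  rcases hok with ⟨h7, hdim⟩ | h5 | h6
  · exact all_mono hO (by rwa [Fintype.card_fin, ← ht]) (by rwa [Fintype.card_fin, ← ht]) hgH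
  · exact all_mono_five hO (by rwa [Fintype.card_fin, ← ht]) hgH
  · exact all_mono_six hO (by rwa [Fintype.card_fin, ← ht]) hgH

/-- the same without six coordinates -/
theorem isMaximalIn_frame0 (Q : QuadraticForm F (ι → F)) (hQ : (polarBilin Q).Nondegenerate) (h2 : (2 : F) ≠ 0)
    (hp : (Fintype.card F).Prime)
    (hok : (7 ≤ Fintype.card ι ∧ (10 ≤ Fintype.card ι ∨ Odd (Fintype.card ι))) ∨ Fintype.card ι = 5) {t : ℕ}
    (D : Fin t → Submodule F (ι → F)) (hD : Cfsg.Geo.IsOrthogonalMDecomposition (⇑Q) 1 D) :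
    Cfsg.Geo.IsMaximalIn (Cfsg.Geo.omegaGL ⇑Q) (Cfsg.Geo.decompositionStabilizer D ⊓ Cfsg.Geo.omegaGL ⇑Q) :=
  isMaximalIn_frame_gen Q hQ h2 hp (hok.imp_right Or.inl) D hD

/-- the elements permuting the lines of a frame form a maximal subgroup, also in odd dimension from seven on -/
theorem isMaximalIn_frame' (Q : QuadraticForm F (ι → F)) (hQ : (polarBilin Q).Nondegenerate) (h2 : (2 : F) ≠ 0)
    (hp : (Fintype.card F).Prime) (hn : 7 ≤ Fintype.card ι)
    (hok : 10 ≤ Fintype.card ι ∨ Odd (Fintype.card ι)) {t : ℕ} (D : Fin t → Submodule F (ι → F))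
    (hD : Cfsg.Geo.IsOrthogonalMDecomposition (⇑Q) 1 D) :
    Cfsg.Geo.IsMaximalIn (Cfsg.Geo.omegaGL ⇑Q) (Cfsg.Geo.decompositionStabilizer D ⊓ Cfsg.Geo.omegaGL ⇑Q) :=
  isMaximalIn_frame0 Q hQ h2 hp (Or.inl ⟨hn, hok⟩) D hD

/-- the same in dimension at least nine -/
theorem isMaximalIn_frame (Q : QuadraticForm F (ι → F)) (hQ : (polarBilin Q).Nondegenerate) (h2 : (2 : F) ≠ 0)
    (hp : (Fintype.card F).Prime) (hn : 9 ≤ Fintype.card ι) {t : ℕ} (D : Fin t → Submodule F (ι → F))
    (hD : Cfsg.Geo.IsOrthogonalMDecomposition (⇑Q) 1 D) :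
    Cfsg.Geo.IsMaximalIn (Cfsg.Geo.omegaGL ⇑Q) (Cfsg.Geo.decompositionStabilizer D ⊓ Cfsg.Geo.omegaGL ⇑Q) :=
  isMaximalIn_frame' Q hQ h2 hp (le_trans (by norm_num) hn) ((eq_or_lt_of_le hn).elim (fun h => Or.inr (h ▸ ⟨4, rfl⟩)) Or.inl) D hD

end Cfsg.Agent.ClassicalMax.OrthMono
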