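import Mathlib

/-!
Counting rotation axes: if a finite group acts on axes, every non-trivial element having exactly one, and some axis
has at least six rotations, then that axis is fixed by the whole group.
-/

set_option autoImplicit false

namespace Cfsg.Agent.ClassicalMax.OrthMono

open MulAction

section arith

variable {N k0 k1 k2 k3 e0 e1 e2 e3 t0 t1 t2 t3 : ℕ}

private theorem count_one (he0 : e0 = 1 ∨ e0 = 2) (hk : 1 ≤ k0) (h0 : k0 * (e0 * (t0 + 6)) = N)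
    (hs : k0 * (t0 + 5) + 1 = N) : k0 = 1 := by
  have := Nat.zero_le (k0 * t0)
  rcases he0 with rfl | rfl <;> ring_nf at h0 hs <;> omega

private theorem count_two (he0 : e0 = 1 ∨ e0 = 2) (he1 : e1 = 1 ∨ e1 = 2) (hk : 1 ≤ k0)
    (h0 : k0 * (e0 * (t0 + 6)) = N) (h1 : k1 * (e1 * (t1 + 2)) = N)
    (hs : k0 * (t0 + 5) + k1 * (t1 + 1) + 1 = N) : k0 = 1 := by
  rcases Nat.eq_zero_or_pos t1 with rfl | ht1
  · rcases he0 with rfl | rfl <;> rcases he1 with rfl | rfl <;> ring_nf at h0 h1 hs <;> omega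
  · have := Nat.le_mul_of_pos_right k1 ht1
    rcases he0 with rfl | rfl <;> rcases he1 with rfl | rfl <;> ring_nf at h0 h1 hs this <;> omega

private theorem count_three (he0 : e0 = 1 ∨ e0 = 2) (he1 : e1 = 1 ∨ e1 = 2) (he2 : e2 = 1 ∨ e2 = 2) (hk : 1 ≤ k0)
    (h0 : k0 * (e0 * (t0 + 6)) = N) (h1 : k1 * (e1 * (t1 + 2)) = N) (h2 : k2 * (e2 * (t2 + 2)) = N)
    (hs : k0 * (t0 + 5) + k1 * (t1 + 1) + k2 * (t2 + 1) + 1 = N) : k0 = 1 := by
  rcases Nat.eq_zero_or_pos t1 with rfl | ht1 <;> rcases Nat.eq_zero_or_pos t2 with rfl | ht2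
  · rcases he0 with rfl | rfl <;> rcases he1 with rfl | rfl <;> rcases he2 with rfl | rfl <;>
      ring_nf at h0 h1 h2 hs <;> omega
  · have := Nat.le_mul_of_pos_right k2 ht2
    rcases he0 with rfl | rfl <;> rcases he1 with rfl | rfl <;> rcases he2 with rfl | rfl <;>
      ring_nf at h0 h1 h2 hs this <;> omega
  · have := Nat.le_mul_of_pos_right k1 ht1
    rcases he0 with rfl | rfl <;> rcases he1 with rfl | rfl <;> rcases he2 with rfl | rfl <;>
      ring_nf at h0 h1 h2 hs this <;> omega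
  · have := Nat.le_mul_of_pos_right k1 ht1
    have := Nat.le_mul_of_pos_right k2 ht2
    rcases he0 with rfl | rfl <;> rcases he1 with rfl | rfl <;> rcases he2 with rfl | rfl <;>
      ring_nf at * <;> omega

private theorem count_four (he0 : e0 = 1 ∨ e0 = 2) (he1 : e1 = 1 ∨ e1 = 2) (he2 : e2 = 1 ∨ e2 = 2)
    (he3 : e3 = 1 ∨ e3 = 2)
    (h0 : k0 * (e0 * (t0 + 6)) = N) (h1 : k1 * (e1 * (t1 + 2)) = N) (h2 : k2 * (e2 * (t2 + 2)) = N)
    (h3 : k3 * (e3 * (t3 + 2)) = N)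
    (hs : k0 * (t0 + 5) + k1 * (t1 + 1) + k2 * (t2 + 1) + k3 * (t3 + 1) + 1 ≤ N) : False := by
  have a0 : 5 * N ≤ 12 * (k0 * (t0 + 5)) := by rcases he0 with rfl | rfl <;> nlinarith
  have a1 : N ≤ 4 * (k1 * (t1 + 1)) := by rcases he1 with rfl | rfl <;> nlinarith
  have a2 : N ≤ 4 * (k2 * (t2 + 1)) := by rcases he2 with rfl | rfl <;> nlinarith
  have a3 : N ≤ 4 * (k3 * (t3 + 1)) := by rcases he3 with rfl | rfl <;> nlinarith
  omega

end arith

theorem axis_fixed {G Y : Type*} [Group G] [Finite G] [MulAction G Y] (ax : G → Y) (C : Y → Subgroup G)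
    (hC : ∀ h : G, h ≠ 1 → ∀ y, h ∈ C y ↔ ax h = y)
    (hconj : ∀ g h : G, h ≠ 1 → ax (g * h * g⁻¹) = g • ax h)
    (hN : ∀ h : G, h ≠ 1 → Nat.card (stabilizer G (ax h)) = Nat.card (C (ax h)) ∨
      Nat.card (stabilizer G (ax h)) = 2 * Nat.card (C (ax h)))
    {g0 : G} (hg0 : g0 ≠ 1) (h6 : 6 ≤ Nat.card (C (ax g0))) (g : G) : g • ax g0 = ax g0 := by
  classical
  haveI := Fintype.ofFinite G
  let P : Finset G := Finset.univ.filter fun h => h ≠ 1
  let X : Finset Y := P.image ax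
  let orb : Y → Finset Y := fun y => Finset.univ.image fun h : G => h • y
  let w : Y → ℕ := fun y => Nat.card (C y) - 1
  have hP : P.card + 1 = Fintype.card G := by
    have : P = Finset.univ.erase 1 := by ext; simp [P]
    rw [this, Finset.card_erase_add_one (Finset.mem_univ _), Finset.card_univ]
  have hfib : ∀ y, (P.filter fun h => ax h = y).card = w y := fun y => by
    have : P.filter (fun h => ax h = y) = ((Finset.univ.filter fun h => h ∈ C y).erase 1) := by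
      ext h
      simp only [P, Finset.mem_filter, Finset.mem_univ, true_and, Finset.mem_erase]
      exact ⟨fun ⟨h1, h2⟩ => ⟨h1, (hC h h1 y).2 h2⟩, fun ⟨h1, h2⟩ => ⟨h1, (hC h h1 y).1 h2⟩⟩
    rw [this, Finset.card_erase_of_mem (by simp [(C y).one_mem])]
    show _ = Nat.card (C y) - 1
    rw [Nat.card_eq_fintype_card, Fintype.card_subtype]
  have hsum : ∑ y ∈ X, w y = P.card := by
    rw [Finset.card_eq_sum_card_fiberwise (f := ax) (t := X) fun h hh => Finset.mem_image_of_mem _ hh]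
    exact Finset.sum_congr rfl fun y _ => (hfib y).symm
  -- orbits of axes
  have hX : ∀ y ∈ X, orb y ⊆ X := fun y hy z hz => by
    obtain ⟨h, hh, rfl⟩ := Finset.mem_image.1 hy
    obtain ⟨k, -, rfl⟩ := Finset.mem_image.1 hz
    have hh1 : h ≠ 1 := (Finset.mem_filter.1 hh).2
    exact Finset.mem_image.2 ⟨k * h * k⁻¹, Finset.mem_filter.2 ⟨Finset.mem_univ _, by
      simpa [conj_eq_one_iff] using hh1⟩, hconj k h hh1⟩
  have horb : ∀ y, (orb y).card * Nat.card (stabilizer G y) = Fintype.card G := fun y => by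
    rw [← Finset.card_univ, Finset.card_eq_sum_card_fiberwise (f := fun h : G => h • y) (t := orb y)
      fun h _ => Finset.mem_image_of_mem _ (Finset.mem_univ _)]
    rw [Finset.sum_const_nat (m := Nat.card (stabilizer G y)) fun z hz => ?_]
    obtain ⟨k, -, rfl⟩ := Finset.mem_image.1 hz
    rw [Nat.card_eq_fintype_card, Fintype.card_subtype]
    refine Finset.card_bij' (fun h _ => k⁻¹ * h) (fun h _ => k * h) ?_ ?_ ?_ ?_
    · intro h hh
      simp only [Finset.mem_filter, Finset.mem_univ, true_and] at hh ⊢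
      rw [mem_stabilizer_iff, mul_smul, hh, inv_smul_smul]
    · intro h hh
      simp only [Finset.mem_filter, Finset.mem_univ, true_and, mem_stabilizer_iff] at hh ⊢
      rw [mul_smul, hh]
    · intro h _; simp
    · intro h _; simp
  have hsym : ∀ y z, z ∈ orb y → orb z = orb y := fun y z hz => by
    obtain ⟨k, -, rfl⟩ := Finset.mem_image.1 hz
    ext x
    simp only [orb, Finset.mem_image, Finset.mem_univ, true_and]
    exact ⟨fun ⟨h, e⟩ => ⟨h * k, by rw [mul_smul, e]⟩, fun ⟨h, e⟩ => ⟨h * k⁻¹, by rw [mul_smul, inv_smul_smul, e]⟩⟩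
  -- the contribution of one orbit
  have hterm : ∀ y ∈ X, ∃ e m, (e = 1 ∨ e = 2) ∧ 2 ≤ m ∧ m = Nat.card (C y) ∧
      (orb y).card * (e * m) = Fintype.card G ∧ ∑ z ∈ orb y, w z = (orb y).card * (m - 1) := by
    intro y hy
    obtain ⟨h, hh, rfl⟩ := Finset.mem_image.1 hy
    have hh1 : h ≠ 1 := (Finset.mem_filter.1 hh).2
    have hm : 2 ≤ Nat.card (C (ax h)) := by
      have : Nontrivial (C (ax h)) := ⟨⟨1, ⟨h, (hC h hh1 _).2 rfl⟩, fun e => hh1 (congrArg Subtype.val e).symm⟩⟩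
      exact Finite.one_lt_card
    have hconst : ∀ z ∈ orb (ax h), w z = Nat.card (C (ax h)) - 1 := by
      intro z hz
      obtain ⟨k, -, rfl⟩ := Finset.mem_image.1 hz
      show _ = _
      rw [← hfib, show Nat.card (C (ax h)) - 1 = w (ax h) from rfl, ← hfib]
      refine Finset.card_bij' (fun j _ => k⁻¹ * j * k) (fun j _ => k * j * k⁻¹) ?_ ?_ ?_ ?_
      · intro j hj
        simp only [P, Finset.mem_filter, Finset.mem_univ, true_and] at hj ⊢
        refine ⟨fun e => hj.1 ?_, ?_⟩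
        · calc j = k * (k⁻¹ * j * k) * k⁻¹ := by group
            _ = 1 := by rw [e]; group
        · have := hconj k⁻¹ j hj.1
          rw [inv_inv] at this
          rw [this, hj.2, inv_smul_smul]
      · intro j hj
        simp only [P, Finset.mem_filter, Finset.mem_univ, true_and] at hj ⊢
        exact ⟨by simpa [conj_eq_one_iff] using hj.1, by rw [hconj k j hj.1, hj.2]⟩
      · intro j _; group
      · intro j _; group
    have ho := horb (ax h)
    rcases hN h hh1 with e | e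
    · exact ⟨1, _, Or.inl rfl, hm, rfl, by rw [one_mul, ← e, ho], Finset.sum_const_nat hconst⟩
    · exact ⟨2, _, Or.inr rfl, hm, rfl, by rw [← e, ho], Finset.sum_const_nat hconst⟩
  -- splitting off orbits
  have hsplit : ∀ (S : Finset Y) (y : Y), y ∈ S → (∀ z ∈ S, orb z ⊆ S) →
      ∑ z ∈ S, w z = ∑ z ∈ orb y, w z + ∑ z ∈ S \ orb y, w z ∧ ∀ z ∈ S \ orb y, orb z ⊆ S \ orb y := by
    intro S y hy hS
    refine ⟨by rw [add_comm, Finset.sum_sdiff (hS y hy)], fun z hz x hx => ?_⟩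
    rw [Finset.mem_sdiff] at hz ⊢
    refine ⟨hS z hz.1 hx, fun hxy => hz.2 ?_⟩
    rw [← hsym y x hxy, hsym z x hx]
    exact Finset.mem_image.2 ⟨1, Finset.mem_univ _, one_smul _ _⟩
  have hy0 : ax g0 ∈ X := Finset.mem_image_of_mem _ (Finset.mem_filter.2 ⟨Finset.mem_univ _, hg0⟩)
  suffices (orb (ax g0)).card = 1 by
    obtain ⟨z, hz⟩ := Finset.card_eq_one.1 this
    have h1 : g • ax g0 ∈ orb (ax g0) := Finset.mem_image_of_mem _ (Finset.mem_univ _)
    have h2 : (1 : G) • ax g0 ∈ orb (ax g0) := Finset.mem_image_of_mem _ (Finset.mem_univ _)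
    rw [hz, Finset.mem_singleton] at h1 h2
    rw [h1, ← h2, one_smul]
  obtain ⟨s0, hc0⟩ := hsplit X (ax g0) hy0 hX
  obtain ⟨e0, m0, he0, -, hm0, hk0, hw0⟩ := hterm _ hy0
  rw [← hm0] at h6
  rw [hsum, hw0] at s0
  set N := Fintype.card G
  set k0 := (orb (ax g0)).card with hk0'
  have hk0pos : 1 ≤ k0 := Finset.card_pos.2 ⟨_, Finset.mem_image.2 ⟨1, Finset.mem_univ _, rfl⟩⟩
  set X1 := X \ orb (ax g0) with hX1def
  obtain ⟨t0, rfl⟩ : ∃ t, m0 = t + 6 := ⟨m0 - 6, by omega⟩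
  rw [show t0 + 6 - 1 = t0 + 5 by omega] at s0
  by_cases h1 : X1 = ∅
  · rw [h1, Finset.sum_empty, add_zero] at s0
    exact count_one he0 hk0pos hk0 (by omega)
  obtain ⟨y1, hy1⟩ := Finset.nonempty_of_ne_empty h1
  obtain ⟨s1, hc1⟩ := hsplit X1 y1 hy1 hc0
  obtain ⟨e1, m1, he1, hm1, -, hk1, hw1⟩ := hterm y1 ((Finset.mem_sdiff.1 hy1).1)
  rw [hw1] at s1
  set k1 := (orb y1).card
  have hk1pos : 1 ≤ k1 := Finset.card_pos.2 ⟨_, Finset.mem_image.2 ⟨1, Finset.mem_univ _, rfl⟩⟩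
  obtain ⟨t1, rfl⟩ : ∃ t, m1 = t + 2 := ⟨m1 - 2, by omega⟩
  rw [show t1 + 2 - 1 = t1 + 1 by omega] at s1
  set X2 := X1 \ orb y1
  by_cases h2 : X2 = ∅
  · rw [h2, Finset.sum_empty, add_zero] at s1
    exact count_two he0 he1 hk0pos hk0 hk1 (by omega)
  obtain ⟨y2, hy2⟩ := Finset.nonempty_of_ne_empty h2
  obtain ⟨s2, hc2⟩ := hsplit X2 y2 hy2 hc1
  obtain ⟨e2, m2, he2, hm2, -, hk2, hw2⟩ :=
    hterm y2 ((Finset.mem_sdiff.1 (Finset.mem_sdiff.1 hy2).1).1)
  rw [hw2] at s2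
  set k2 := (orb y2).card
  have hk2pos : 1 ≤ k2 := Finset.card_pos.2 ⟨_, Finset.mem_image.2 ⟨1, Finset.mem_univ _, rfl⟩⟩
  obtain ⟨t2, rfl⟩ : ∃ t, m2 = t + 2 := ⟨m2 - 2, by omega⟩
  rw [show t2 + 2 - 1 = t2 + 1 by omega] at s2
  set X3 := X2 \ orb y2
  by_cases h3 : X3 = ∅
  · rw [h3, Finset.sum_empty, add_zero] at s2
    exact count_three he0 he1 he2 hk0pos hk0 hk1 hk2 (by omega)
  obtain ⟨y3, hy3⟩ := Finset.nonempty_of_ne_empty h3
  obtain ⟨s3, -⟩ := hsplit X3 y3 hy3 hc2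
  obtain ⟨e3, m3, he3, hm3, -, hk3, hw3⟩ :=
    hterm y3 ((Finset.mem_sdiff.1 (Finset.mem_sdiff.1 (Finset.mem_sdiff.1 hy3).1).1).1)
  rw [hw3] at s3
  set k3 := (orb y3).card
  obtain ⟨t3, rfl⟩ : ∃ t, m3 = t + 2 := ⟨m3 - 2, by omega⟩
  rw [show t3 + 2 - 1 = t3 + 1 by omega] at s3
  exact absurd (count_four he0 he1 he2 he3 hk0 hk1 hk2 hk3 (by omega)) id

end Cfsg.Agent.ClassicalMax.OrthMono
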