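import Cfsg.Agent.ClassicalMax.OrthMono.Tools

/-!
Seven elements: a member outside the roots gives a coordinate triple on which all units are members.
-/

set_option autoImplicit false
set_option linter.unusedSectionVars false
set_option linter.style.haveILetI false

namespace Cfsg.Agent.ClassicalMax.OrthMono

open Module QuadraticMap Cfsg.Agent.Classical Cfsg.Agent.Classical.Quad Matrix

variable {F ι : Type*} [Field F] [Fintype ι] [DecidableEq ι] [Finite F]
variable {H : Subgroup (oG (sq F ι))}

theorem seven_zero (hH : Over H) (h7 : Nat.card F = 7) : (7 : F) = 0 := by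
  haveI := hH.charP
  exact_mod_cast (CharP.cast_eq_zero_iff F (Nat.card F) 7).2 (by rw [h7])

theorem sq_seven (hH : Over H) (h7 : Nat.card F = 7) {x : F} (hx : x ≠ 0) :
    x * x = 1 ∨ x * x = 2 ∨ x * x = 4 := by
  haveI := Fintype.ofFinite F
  have h : x ^ 6 = 1 := by
    have := FiniteField.pow_card_sub_one_eq_one x hx
    rwa [← Nat.card_eq_fintype_card, h7] at this
  have h70 := seven_zero hH h7
  have : (x * x - 1) * ((x * x - 2) * (x * x - 4)) = 0 := by
    linear_combination h - (x * x * (x * x) - 2 * (x * x) + 1) * h70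
  rcases mul_eq_zero.1 this with h | h
  · exact Or.inl (sub_eq_zero.1 h)
  rcases mul_eq_zero.1 h with h | h
  · exact Or.inr (Or.inl (sub_eq_zero.1 h))
  · exact Or.inr (Or.inr (sub_eq_zero.1 h))

/-- two coordinates of square two and one of square four -/
def Pat7 (H : Subgroup (oG (sq F ι))) : Prop :=
  ∃ (v : ι → F) (a b c : ι), T H v ∧ a ≠ b ∧ b ≠ c ∧ a ≠ c ∧ v a * v a = 2 ∧ v b * v b = 2 ∧ v c * v c = 4 ∧
    ∀ i, i ≠ a → i ≠ b → i ≠ c → v i = 0

theorem abk_of_pat7 (hH : Over H) (h7 : Nat.card F = 7) (h : Pat7 H) : Abk H := by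
  obtain ⟨v, a, b, c, hv, hab, hbc, hac, ha, hb, hc, hz⟩ := h
  have h70 := seven_zero hH h7
  have h2 := hH.two
  have h30 : (3 : F) ≠ 0 := by exact_mod_cast hH.cast_ne_zero (k := 3) (by norm_num) (by omega)
  have h50 : (5 : F) ≠ 0 := by exact_mod_cast hH.cast_ne_zero (k := 5) (by norm_num) (by omega)
  have hvc : v c ≠ 0 := fun h => by
    rw [h, mul_zero] at hc; exact mul_ne_zero h2 h2 (by linear_combination -hc)
  have cf : Cfg H a b v := ⟨hH, hv, hab, fun h => h2 (by rw [h, mul_zero] at ha; exact ha.symm),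
    fun h => h2 (by rw [h, mul_zero] at hb; exact hb.symm), by
      rw [ha, hb]; intro h; exact h30 (by linear_combination -h)⟩
  set x : ι → F := e a + (3 : F) • e b + (5 : F) • e c with hx
  set z : ι → F := (3 : F) • e a + (3 : F) • e b + (2 : F) • e c with hzdef
  set r : ι → F := (2 : F) • (e a + e c) with hr
  have hT : T H z := T.of_squares hH hv fun i => by
    simp only [hzdef, Pi.add_apply, Pi.smul_apply, smul_eq_mul, e_apply]
    rcases eq_or_ne i a with rfl | hia
    · rw [ha]; simp [hab, hac]; linear_combination h70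
    rcases eq_or_ne i b with rfl | hib
    · rw [hb]; simp [hia, hbc]; linear_combination h70
    rcases eq_or_ne i c with rfl | hic
    · rw [hc]; simp [hia, hib]; norm_num
    · rw [hz i hia hib hic]; simp [hia, hib, hic]
  have hTr : T H r := T.root hH hac (by linear_combination h70)
  have hU : U3 a b v = U3 a b (e c) := U3_eq_coord hab hbc hac hvc hz
  have mem : ∀ u : ι → F, (∀ i, i ≠ a → i ≠ b → i ≠ c → u i = 0) → u ∈ U3 a b v := fun u hu =>
    hU ▸ mem_coord hab hbc hac hu
  have hzU := mem z fun i h1 h2 h3 => by simp [hzdef, h1, h2, h3]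
  have hxU := mem x fun i h1 h2 h3 => by simp [hx, h1, h2, h3]
  have hrU := mem r fun i h1 _ h3 => by simp [hr, h1, h3]
  obtain ⟨u1, u2, -⟩ := U3_mem a b v
  have hh := mul_mem (cf.pair_mem (T.e_mem hH a) (T.e_mem hH b) u1 u2) (cf.pair_mem hTr hT hrU hzU)
  set g : oG (sq F ι) := R (e a) * R (e b) * (R r * R z) with hg
  have happ : ∀ u i, g.1 u i = (if i = a ∨ i = b then -1 else 1) *
      (u i - 2 * (u ⬝ᵥ z) * z i - 2 * ((u ⬝ᵥ r) - 2 * (u ⬝ᵥ z) * (z ⬝ᵥ r)) * r i) := fun u i => by
    rw [hg, oG_mul_apply, oG_mul_apply, oG_mul_apply, R_apply h2 hT.1, R_apply h2 hTr.1, R_e_apply h2, R_e_apply h2]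
    simp only [sub_dotProduct, smul_dotProduct, smul_eq_mul]
    rcases eq_or_ne i a with rfl | hia
    · simp [Function.update_self, Function.update_of_ne hab]
    rcases eq_or_ne i b with rfl | hib
    · simp [Function.update_self, Function.update_of_ne hia]
    · simp [Function.update_of_ne hia, Function.update_of_ne hib, hia, hib]
  have dz : ∀ u : ι → F, u ⬝ᵥ z = 3 * u a + 3 * u b + 2 * u c := fun u => by
    simp [hzdef, dotProduct_add]
  have dr : ∀ u : ι → F, u ⬝ᵥ r = 2 * (u a + u c) := fun u => by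
    simp [hr, dotProduct_add]; ring
  have hfix : g.1 x = x := by
    funext i
    rw [happ, dz, dr, dr]
    rcases eq_or_ne i a with rfl | hia
    · simp [hx, hzdef, hr, hab, hac, Ne.symm hab, Ne.symm hac, hbc, Ne.symm hbc]
      linear_combination (norm := ring_nf) (0 : F) * h70
      grind
    rcases eq_or_ne i b with rfl | hib
    · simp [hx, hzdef, hr, hab, hac, Ne.symm hab, Ne.symm hac, hbc, Ne.symm hbc]
      grind
    rcases eq_or_ne i c with rfl | hic
    · simp [hx, hzdef, hr, hab, hac, Ne.symm hab, Ne.symm hac, hbc, Ne.symm hbc]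
      grind
    · simp [hx, hzdef, hr, hia, hib, hic]
  have hne : g ≠ 1 := fun he => by
    have h1 : g.1 (e b) a = e b a := by rw [he, oG_one_apply]
    rw [happ, dz, dr, dr] at h1
    simp [hzdef, hr, hab, hac, Ne.symm hab, Ne.symm hac, hbc, Ne.symm hbc] at h1
    grind
  have hxx : x ⬝ᵥ x = 0 := by
    simp [hx, dotProduct_add, hab, hac, Ne.symm hab, Ne.symm hac, hbc, Ne.symm hbc]
    linear_combination (5 : F) * h70
  have hx0 : x ≠ 0 := fun h => by
    have := congrFun h a; simp [hx, hab, hac] at this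
  have := full_of_fix cf hh hne hxU hx0 hxx hfix
  rw [hU] at this
  exact ⟨a, b, c, hab, hbc, hac, this⟩

open scoped _root_.Classical in
/-- two fours and a further coordinate -/
theorem pat7_of_fours (hH : Over H) (h7 : Nat.card F = 7) {u : ι → F} (hu : T H u) {a b c : ι} (hab : a ≠ b)
    (hbc : b ≠ c) (hac : a ≠ c) (ha : u a * u a = 4) (hb : u b * u b = 4) (hc : u c ≠ 0) : Pat7 H := by
  have h70 := seven_zero hH h7
  have hrest : ∑ i ∈ Finset.univ \ {a, b}, u i * u i = 0 := by
    have h := hu.1
    rw [dotProduct, ← Finset.sum_sdiff (Finset.subset_univ {a, b}), Finset.sum_pair hab, ha, hb] at h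
    linear_combination h - h70
  have hv := hu.split hH _ hrest (u c)⁻¹
  set v : ι → F := fun i => if i ∈ Finset.univ \ {a, b} then (u c)⁻¹ * u i else u i with hvdef
  have hva : v a * v a = 4 := by simpa [hvdef] using ha
  have hvb : v b * v b = 4 := by simpa [hvdef, Ne.symm hab] using hb
  have hvc : v c * v c = 1 := by simp [hvdef, Ne.symm hac, Ne.symm hbc, hc]
  have hz := T.refl_apply hH (hv.flips hH {a, b, c}) hv
  have hd : (v ⬝ᵥ fun i => if i ∈ ({a, b, c} : Finset ι) then -v i else v i) = 4 := by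
    rw [show (v ⬝ᵥ fun i => if i ∈ ({a, b, c} : Finset ι) then -v i else v i) =
      ∑ i, (v i * v i - if i ∈ ({a, b, c} : Finset ι) then 2 * (v i * v i) else 0) from Finset.sum_congr rfl fun i _ => by
        dsimp only; split_ifs <;> ring, Finset.sum_sub_distrib, ← Finset.sum_filter, Finset.filter_univ_mem,
      show ∑ i, v i * v i = v ⬝ᵥ v from rfl, hv.1, Finset.sum_insert (by simp [hab, hac]), Finset.sum_pair hbc,
      hva, hvb, hvc]
    linear_combination -(3 : F) * h70
  rw [hd] at hz
  refine ⟨_, a, b, c, hz, hab, hbc, hac, ?_, ?_, ?_, fun i h1 h2 h3 => ?_⟩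
  · simp; linear_combination (81 : F) * hva + (46 : F) * h70
  · simp; linear_combination (81 : F) * hvb + (46 : F) * h70
  · simp; linear_combination (81 : F) * hvc + (11 : F) * h70
  · simp [h1, h2, h3]; linear_combination -v i * h70

open scoped _root_.Classical in
/-- a one and two equal squares besides it -/
theorem pat7_of_equal (hH : Over H) (h7 : Nat.card F = 7) {u : ι → F} (hu : T H u) {a c d : ι} (hac : a ≠ c)
    (had : a ≠ d) (hcd : c ≠ d) (ha : u a * u a = 1) (hc : u c ≠ 0) (he : u c * u c = u d * u d) : Pat7 H := by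
  have hrest : ∑ i ∈ Finset.univ \ {a}, u i * u i = 0 := by
    have h := hu.1
    rw [dotProduct, ← Finset.sum_sdiff (Finset.subset_univ {a}), Finset.sum_singleton, ha] at h
    linear_combination h
  refine pat7_of_fours hH h7 (hu.split hH _ hrest (2 / u c)) (c := a) hcd (Ne.symm had) (Ne.symm hac) ?_ ?_ ?_
  · simp [Ne.symm hac]; field_simp; ring
  · simp [Ne.symm had]; field_simp; linear_combination -(4 : F) * he
  · simp; exact fun h => by rw [h] at ha; simp at ha

open scoped _root_.Classical in
theorem pat7_of_three (hH : Over H) (h7 : Nat.card F = 7) {w : ι → F} (hw : T H w) (h3 : 3 ≤ (supp w).card) :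
    Pat7 H := by
  have h70 := seven_zero hH h7
  have h2 := hH.two
  have h30 : (3 : F) ≠ 0 := by exact_mod_cast hH.cast_ne_zero (k := 3) (by norm_num) (by omega)
  have h50 : (5 : F) ≠ 0 := by exact_mod_cast hH.cast_ne_zero (k := 5) (by norm_num) (by omega)
  by_cases h44 : ∃ a ∈ supp w, ∃ b ∈ supp w, a ≠ b ∧ w a * w a = 4 ∧ w b * w b = 4
  · obtain ⟨a, ha, b, hb, hab, hA, hB⟩ := h44
    obtain ⟨c, hc⟩ : (((supp w).erase a).erase b).Nonempty := by
      rw [← Finset.card_pos, Finset.card_erase_of_mem (Finset.mem_erase.2 ⟨Ne.symm hab, hb⟩),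
        Finset.card_erase_of_mem ha]
      omega
    simp only [Finset.mem_erase] at hc
    exact pat7_of_fours hH h7 hw hab (Ne.symm hc.1) (Ne.symm hc.2.1) hA hB (mem_supp.1 hc.2.2)
  push Not at h44
  have hsum := sum_supp hw
  have hval : ∀ i ∈ supp w, w i * w i = 1 ∨ w i * w i = 2 ∨ w i * w i = 4 := fun i hi =>
    sq_seven hH h7 (mem_supp.1 hi)
  by_cases h1 : ∃ a ∈ supp w, w a * w a = 1
  · obtain ⟨a, ha, hA⟩ := h1
    by_cases heq : ∃ c ∈ (supp w).erase a, ∃ d ∈ (supp w).erase a, c ≠ d ∧ w c * w c = w d * w d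
    · obtain ⟨c, hc, d, hd, hcd, he⟩ := heq
      rw [Finset.mem_erase] at hc hd
      exact pat7_of_equal hH h7 hw (Ne.symm hc.1) (Ne.symm hd.1) hcd hA (mem_supp.1 hc.2) he
    push Not at heq
    set S := (supp w).erase a with hS
    have hinj : Set.InjOn (fun i => w i * w i) S := fun c hc d hd h => by
      by_contra hne; exact heq c hc d hd hne h
    have himg : S.image (fun i => w i * w i) ⊆ {1, 2, 4} := by
      intro y hy
      obtain ⟨i, hi, rfl⟩ := Finset.mem_image.1 hy
      rcases hval i (Finset.mem_erase.1 hi).2 with h | h | h <;> simp [h]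
    have hcardS : S.card + 1 = (supp w).card := Finset.card_erase_add_one ha
    have hS0 : ∑ i ∈ S, w i * w i = 0 := by
      rw [← Finset.add_sum_erase _ _ ha, hA, ← hS] at hsum
      linear_combination hsum
    have hle : S.card ≤ 3 := by
      rw [← Finset.card_image_of_injOn hinj]
      exact (Finset.card_le_card himg).trans Finset.card_le_three
    have hS3 : S.card = 3 := by
      by_contra hne
      obtain ⟨c, d, hcd, hSeq⟩ := Finset.card_eq_two.1 (show S.card = 2 by omega)
      rw [hSeq, Finset.sum_pair hcd] at hS0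
      have hc : c ∈ supp w := (Finset.mem_erase.1 (show c ∈ S by simp [hSeq])).2
      have hd : d ∈ supp w := (Finset.mem_erase.1 (show d ∈ S by simp [hSeq])).2
      have hne' := heq c (by simp [hSeq]) d (by simp [hSeq]) hcd
      rcases hval c hc with h | h | h <;> rcases hval d hd with h' | h' | h' <;> rw [h, h'] at hS0 hne'
      · exact hne' rfl
      · exact h30 (by linear_combination hS0)
      · exact h50 (by linear_combination hS0)
      · exact h30 (by linear_combination hS0)
      · exact hne' rfl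
      · exact one_ne_zero (α := F) (by linear_combination h70 - hS0)
      · exact h50 (by linear_combination hS0)
      · exact one_ne_zero (α := F) (by linear_combination h70 - hS0)
      · exact hne' rfl
    have himg' : S.image (fun i => w i * w i) = {1, 2, 4} := Finset.eq_of_subset_of_card_le himg
      (by rw [Finset.card_image_of_injOn hinj, hS3]; exact Finset.card_le_three)
    obtain ⟨c, hc, hC⟩ := Finset.mem_image.1 (show (1 : F) ∈ S.image (fun i => w i * w i) by simp [himg'])
    obtain ⟨d, hd, hD⟩ := Finset.mem_image.1 (show (2 : F) ∈ S.image (fun i => w i * w i) by simp [himg'])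
    obtain ⟨k, hk⟩ := hH.fresh (supp w) (by omega)
    rw [hS, Finset.mem_erase] at hc hd
    have hdk : d ≠ k := fun h => hk (h ▸ hd.2)
    have hak : a ≠ k := fun h => hk (h ▸ ha)
    have hck : c ≠ k := fun h => hk (h ▸ hc.2)
    rw [mem_supp, not_not] at hk
    have hv := shift hH hw hdk hk ⟨a, c, Ne.symm hc.1, hA.trans hC.symm⟩
    have hcd : c ≠ d := fun h => by rw [h, hD] at hC; exact one_ne_zero (α := F) (by linear_combination hC)
    have had : a ≠ d := Ne.symm hd.1
    refine pat7_of_equal hH h7 hv (a := k) (c := a) (d := c) (Ne.symm hak) (Ne.symm hck) (Ne.symm hc.1) ?_ ?_ ?_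
    · simp [Ne.symm hdk]
      rw [hD]
      linear_combination (4 : F) * hD + h70
    · simp only [had, hak, ↓reduceIte]
      refine mul_ne_zero (fun h => h30 ?_) (mem_supp.1 ha)
      rw [hD] at h
      linear_combination h
    · simp only [had, hak, hcd, hck, ↓reduceIte]
      linear_combination (1 - 2 * (1 - w d * w d)) * (1 - 2 * (1 - w d * w d)) * (hA - hC)
  push Not at h1
  set Q := (supp w).filter fun i => w i * w i = 2 with hQ
  set Q4 := (supp w).filter fun i => ¬ w i * w i = 2 with hQ4
  have hQ4v : ∀ i ∈ Q4, w i * w i = 4 := fun i hi => by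
    rw [hQ4, Finset.mem_filter] at hi
    rcases hval i hi.1 with h | h | h
    · exact absurd h (h1 i hi.1)
    · exact absurd h hi.2
    · exact h
  have hQv : ∀ i ∈ Q, w i * w i = 2 := fun i hi => (Finset.mem_filter.1 hi).2
  have hQ4c : Q4.card ≤ 1 := Finset.card_le_one.2 fun x hx y hy => by
    by_contra hne
    exact h44 x (Finset.mem_filter.1 hx).1 y (Finset.mem_filter.1 hy).1 hne (hQ4v x hx) (hQ4v y hy)
  have hcard : Q.card + Q4.card = (supp w).card := Finset.card_filter_add_card_filter_not _
  have hs : (Q.card : F) * 2 + (Q4.card : F) * 4 = 1 := by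
    rw [← hsum, ← Finset.sum_filter_add_sum_filter_not (supp w) (fun i => w i * w i = 2),
      Finset.sum_congr rfl hQv, Finset.sum_congr rfl hQ4v]
    simp [nsmul_eq_mul]
  haveI := hH.charP
  have hz : ∀ k : ℕ, (k : F) = 0 → 7 ∣ k := fun k hk => by
    rw [← h7]; exact (CharP.cast_eq_zero_iff F (Nat.card F) k).1 hk
  rcases Nat.lt_or_ge Q.card 6 with hlt | hge
  · have hdiv : 7 ∣ 2 * Q.card + 4 * Q4.card + 6 :=
      hz _ (by push_cast; linear_combination hs + h70)
    have hcases : (Q.card = 4 ∧ Q4.card = 0) ∨ (Q.card = 2 ∧ Q4.card = 1) := by omega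
    rcases hcases with ⟨hq, hq4⟩ | ⟨hq, hq4⟩
    · obtain ⟨d, hd⟩ := Finset.card_pos.1 (show 0 < Q.card by omega)
      obtain ⟨k, hk⟩ := hH.fresh (supp w) (by omega)
      have hdk : d ≠ k := fun h => hk (h ▸ (Finset.mem_filter.1 hd).1)
      rw [mem_supp, not_not] at hk
      obtain ⟨x', hx', y', hy', hxy'⟩ := Finset.one_lt_card.1 (show 1 < Q.card by omega)
      have hv := shift hH hw hdk hk ⟨x', y', hxy', (hQv x' hx').trans (hQv y' hy').symm⟩
      obtain ⟨x, hx, y, hy, hxy⟩ := Finset.one_lt_card.1 (show 1 < (Q.erase d).card by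
        rw [Finset.card_erase_of_mem hd]; omega)
      rw [Finset.mem_erase] at hx hy
      have hxk : x ≠ k := fun h => mem_supp.1 (Finset.mem_filter.1 hx.2).1 (h ▸ hk)
      have hyk : y ≠ k := fun h => mem_supp.1 (Finset.mem_filter.1 hy.2).1 (h ▸ hk)
      refine pat7_of_fours hH h7 hv (c := d) hxy hy.1 hx.1 ?_ ?_ ?_
      · simp only [hx.1, hxk, ↓reduceIte]
        rw [hQv d hd]
        linear_combination (9 : F) * hQv x hx.2 + (2 : F) * h70
      · simp only [hy.1, hyk, ↓reduceIte]
        rw [hQv d hd]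
        linear_combination (9 : F) * hQv y hy.2 + (2 : F) * h70
      · simpa using mem_supp.1 (Finset.mem_filter.1 hd).1
    · obtain ⟨x, y, hxy, hQe⟩ := Finset.card_eq_two.1 hq
      obtain ⟨c, hce⟩ := Finset.card_eq_one.1 hq4
      have hx : x ∈ Q := by simp [hQe]
      have hy : y ∈ Q := by simp [hQe]
      have hc : c ∈ Q4 := by simp [hce]
      have hne : ∀ i ∈ Q, i ≠ c := fun i hi h => h2 (by
        have := hQv i hi; rw [h, hQ4v c hc] at this; linear_combination this)
      refine ⟨w, x, y, c, hw, hxy, hne y hy, hne x hx, hQv x hx, hQv y hy, hQ4v c hc, fun i hix hiy hic => ?_⟩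
      by_contra hi
      by_cases hi2 : w i * w i = 2
      · have : i ∈ Q := Finset.mem_filter.2 ⟨mem_supp.2 hi, hi2⟩
        simp [hQe, hix, hiy] at this
      · have : i ∈ Q4 := Finset.mem_filter.2 ⟨mem_supp.2 hi, hi2⟩
        simp [hce, hic] at this
  · obtain ⟨S, hS, hS4⟩ := Finset.exists_subset_card_eq (show 4 ≤ Q.card by omega)
    have hrest : ∑ i ∈ Finset.univ \ S, w i * w i = 0 := by
      have h := hw.1
      rw [dotProduct, ← Finset.sum_sdiff (Finset.subset_univ S), Finset.sum_congr rfl fun i hi => hQv i (hS hi),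
        Finset.sum_const, hS4, nsmul_eq_mul] at h
      push_cast at h
      linear_combination h - h70
    obtain ⟨x, hx, y, hy, hxy⟩ := Finset.one_lt_card.1 (show 1 < (Q \ S).card by
      rw [Finset.card_sdiff_of_subset hS]; omega)
    rw [Finset.mem_sdiff] at hx hy
    obtain ⟨d, hd⟩ := Finset.card_pos.1 (show 0 < S.card by omega)
    refine pat7_of_fours hH h7 (hw.split hH _ hrest 3) (c := d) hxy (fun h => hy.2 (h ▸ hd))
      (fun h => hx.2 (h ▸ hd)) ?_ ?_ ?_
    · simp [hx.2]; linear_combination (9 : F) * hQv x hx.1 + (2 : F) * h70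
    · simp [hy.2]; linear_combination (9 : F) * hQv y hy.1 + (2 : F) * h70
    · simpa [hd] using mem_supp.1 (Finset.mem_filter.1 (hS hd)).1

theorem abk_seven (hH : Over H) (h7 : Nat.card F = 7) {w : ι → F} (hw : T H w) (hr : ¬ Root w) : Abk H := by
  classical
  rcases nonroot_cases hH hr with h | ⟨a, b, hab, ha, hb, hne, hz⟩
  · exact abk_of_pat7 hH h7 (pat7_of_three hH h7 hw h)
  · exfalso
    have := hw.1
    rw [sum_two hab hz] at this
    have h70 := seven_zero hH h7
    have h30 : (3 : F) ≠ 0 := by exact_mod_cast hH.cast_ne_zero (k := 3) (by norm_num) (by omega)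
    have h2 := hH.two
    have h50 : (5 : F) ≠ 0 := by exact_mod_cast hH.cast_ne_zero (k := 5) (by norm_num) (by omega)
    rcases sq_seven hH h7 ha with h | h | h <;> rcases sq_seven hH h7 hb with h' | h' | h' <;> rw [h, h'] at this hne
    · exact hne rfl
    · exact h2 (by linear_combination this)
    · exact mul_ne_zero h2 h2 (by linear_combination this)
    · exact h2 (by linear_combination this)
    · exact hne rfl
    · exact h50 (by linear_combination this)
    · exact mul_ne_zero h2 h2 (by linear_combination this)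
    · exact h50 (by linear_combination this)
    · exact hne rfl

end Cfsg.Agent.ClassicalMax.OrthMono
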