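import Cfsg.Agent.ClassicalMax.OrthMono.Tools

/-!
Three elements: a member outside the roots makes all units members.
-/

set_option autoImplicit false
set_option linter.unusedSectionVars false
set_option linter.style.haveILetI false

namespace Cfsg.Agent.ClassicalMax.OrthMono

open Module QuadraticMap Cfsg.Agent.Classical Cfsg.Agent.Classical.Quad Matrix

variable {F ι : Type*} [Field F] [Fintype ι] [DecidableEq ι] [Finite F]
variable {H : Subgroup (oG (sq F ι))}

theorem three_zero (hH : Over H) (h3 : Nat.card F = 3) : (3 : F) = 0 := by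
  haveI := hH.charP
  exact_mod_cast (CharP.cast_eq_zero_iff F (Nat.card F) 3).2 (by rw [h3])

theorem sq_three (h3 : Nat.card F = 3) {x : F} (hx : x ≠ 0) : x * x = 1 := by
  haveI := Fintype.ofFinite F
  have h := FiniteField.pow_card_sub_one_eq_one x hx
  rw [← Nat.card_eq_fintype_card, h3] at h
  linear_combination h

open scoped _root_.Classical in
/-- the weight of a unit is one modulo three -/
theorem weight_three (hH : Over H) (h3 : Nat.card F = 3) {u : ι → F} (hu : u ⬝ᵥ u = 1) :
    (supp u).card % 3 = 1 := by
  haveI := hH.charP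
  have h : ((supp u).card : F) = 1 := by
    rw [← hu, dotProduct, ← Finset.sum_subset (Finset.subset_univ (supp u)) (fun i _ hi => by
      rw [show u i = 0 by simpa [supp] using hi, zero_mul]),
      Finset.sum_congr rfl fun i hi => sq_three h3 (mem_supp.1 hi), Finset.sum_const, nsmul_eq_mul, mul_one]
  have h' : 3 ∣ (supp u).card + 2 := by
    rw [← h3]
    refine (CharP.cast_eq_zero_iff F (Nat.card F) _).1 ?_
    push_cast
    linear_combination h + three_zero hH h3
  omega

open scoped _root_.Classical in
theorem exists_four (hH : Over H) (h3 : Nat.card F = 3) {w : ι → F} (hw : T H w) (hge : 3 ≤ (supp w).card) :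
    ∃ v, T H v ∧ (supp v).card = 4 := by
  induction hn : (supp w).card using Nat.strong_induction_on generalizing w with
  | _ n ih =>
    have hm := weight_three hH h3 hw.1
    rcases Nat.lt_or_ge n 7 with hlt | hge7
    · exact ⟨w, hw, by omega⟩
    obtain ⟨S, hS, hS3⟩ := Finset.exists_subset_card_eq (show 3 ≤ (supp w).card by omega)
    have h0 : ∑ i ∈ S, w i * w i = 0 := by
      rw [Finset.sum_congr rfl fun i hi => sq_three h3 (mem_supp.1 (hS hi)), Finset.sum_const, hS3, nsmul_eq_mul,
        mul_one]
      exact_mod_cast three_zero hH h3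
    have hv := hw.split hH S h0 0
    have hsupp : supp (fun i => if i ∈ S then 0 * w i else w i) = supp w \ S := by
      ext i
      by_cases hi : i ∈ S <;> simp [supp, hi]
    have hcard : (supp (fun i => if i ∈ S then 0 * w i else w i)).card = n - 3 := by
      rw [hsupp, Finset.card_sdiff_of_subset hS, hS3, hn]
    exact ih (n - 3) (by omega) hv (by omega) hcard

open scoped _root_.Classical in
theorem all_three (hH : Over H) (h3 : Nat.card F = 3) {w : ι → F} (hw : T H w) (hr : ¬ Root w) {u : ι → F}
    (hu : u ⬝ᵥ u = 1) : T H u := by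
  have h30 := three_zero hH h3
  have hge : 3 ≤ (supp w).card := by
    rcases nonroot_cases hH hr with h | ⟨a, b, hab, ha, hb, hne, -⟩
    · exact h
    · exact absurd ((sq_three h3 ha).trans (sq_three h3 hb).symm) hne
  obtain ⟨v, hv, hv4⟩ := exists_four hH h3 hw hge
  induction hn : (supp u).card using Nat.strong_induction_on generalizing u with
  | _ n ih =>
    have hm := weight_three hH h3 hu
    rcases Nat.lt_or_ge n 7 with hlt | hge7
    · rcases (show n = 1 ∨ n = 4 by omega) with h1 | h4
      · obtain ⟨a, ha⟩ := Finset.card_eq_one.1 (hn.trans h1)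
        refine T.of_squares hH (T.e_mem hH a) fun i => ?_
        rcases eq_or_ne i a with rfl | hia
        · rw [sq_three h3 (mem_supp.1 (by simp [ha]))]; simp
        · rw [show u i = 0 by
            by_contra h
            exact hia (Finset.mem_singleton.1 (ha ▸ mem_supp.2 h))]
          simp [hia]
      · let σ : Equiv.Perm ι := (Finset.equivOfCardEq (show (supp u).card = (supp v).card by omega)).extendSubtype
        obtain ⟨x, hx, y, hy, hxy⟩ := Finset.one_lt_card.1 (show 1 < (supp v).card by omega)
        refine T.of_squares hH (T.rearrange hH hv ⟨x, y, hxy,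
          (sq_three h3 (mem_supp.1 hx)).trans (sq_three h3 (mem_supp.1 hy)).symm⟩ σ) fun i => ?_
        by_cases hi : i ∈ supp u
        · rw [sq_three h3 (mem_supp.1 hi), sq_three h3 (mem_supp.1 (Equiv.extendSubtype_mem _ i hi))]
        · have := Equiv.extendSubtype_not_mem (Finset.equivOfCardEq (show (supp u).card = (supp v).card by omega)) i hi
          rw [show u i = 0 by simpa [supp] using hi, show v (σ i) = 0 by simpa [σ, supp] using this]
    obtain ⟨i, hi⟩ := Finset.card_pos.1 (show 0 < (supp u).card by omega)
    obtain ⟨J, hJ, hJ3⟩ := Finset.exists_subset_card_eq (show 3 ≤ ((supp u).erase i).card by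
      rw [Finset.card_erase_of_mem hi]; omega)
    have hiJ : i ∉ J := fun h => (Finset.mem_erase.1 (hJ h)).1 rfl
    have hJu : J ⊆ supp u := hJ.trans (Finset.erase_subset _ _)
    set a : ι → F := fun j => if j ∈ J then 0 else if j = i then -u j else u j with hadef
    set b : ι → F := fun j => if j ∈ J then u j else if j = i then -u j else 0 with hbdef
    have hsa : supp a = supp u \ J := by
      ext j
      by_cases hj : j ∈ J <;> by_cases hji : j = i <;> simp_all [supp]
    have hsb : supp b = insert i J := by
      ext j
      by_cases hj : j ∈ J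
      · simp [supp, hbdef, hj, mem_supp.1 (hJu hj)]
      · by_cases hji : j = i <;> simp [supp, hbdef, hj, hji, hiJ, mem_supp.1 hi]
    have unit : ∀ x : ι → F, ((supp x).card : F) = 1 → x ⬝ᵥ x = 1 := fun x hx => by
      rw [← hx, dotProduct, ← Finset.sum_subset (Finset.subset_univ (supp x)) (fun j _ hj => by
        rw [show x j = 0 by simpa [supp] using hj, zero_mul]),
        Finset.sum_congr rfl fun j hj => sq_three h3 (mem_supp.1 hj), Finset.sum_const, nsmul_eq_mul, mul_one]
    have hca : (supp a).card = n - 3 := by rw [hsa, Finset.card_sdiff_of_subset hJu, hn, hJ3]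
    have hcb : (supp b).card = 4 := by rw [hsb, Finset.card_insert_of_notMem hiJ, hJ3]
    have h4one : ((4 : ℕ) : F) = 1 := by push_cast; linear_combination h30
    have hna : ((n - 3 : ℕ) : F) = 1 := by
      obtain ⟨q, hq⟩ : ∃ q, n = 3 * q + 4 := ⟨(n - 4) / 3, by omega⟩
      rw [show n - 3 = 3 * q + 1 by omega]
      push_cast
      linear_combination (q : F) * h30
    have ha : T H a := ih (n - 3) (by omega) (unit a (hca ▸ hna)) hca
    have hb : T H b := ih 4 (by omega) (unit b (hcb ▸ h4one)) hcb
    have hab : a ⬝ᵥ b = 1 := by
      rw [dotProduct, Finset.sum_eq_single i (fun j _ hji => by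
        by_cases hj : j ∈ J <;> simp [hadef, hbdef, hj, hji]) (fun h => absurd (Finset.mem_univ i) h)]
      simp [hadef, hbdef, hiJ]
      exact sq_three h3 (mem_supp.1 hi)
    have := T.refl_apply hH hb ha
    rw [hab] at this
    convert this using 1
    funext j
    by_cases hj : j ∈ J
    · simp [hadef, hbdef, hj]; linear_combination u j * h30
    · by_cases hji : j = i
      · subst hji; simp [hadef, hbdef, hiJ]; linear_combination (0 : F) * h30
      · simp [hadef, hbdef, hj, hji]

end Cfsg.Agent.ClassicalMax.OrthMono
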