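import Cfsg.Agent.ClassicalMax.OrthMono.Five
import Cfsg.Agent.ClassicalMax.OrthMono.Seven
import Cfsg.Agent.ClassicalMax.OrthMono.Three
import Cfsg.Agent.ClassicalMax.RootPlanes

/-!
The only members are the roots.
-/

set_option autoImplicit false
set_option linter.unusedSectionVars false
set_option linter.style.haveILetI false

namespace Cfsg.Agent.ClassicalMax.OrthMono

open Module QuadraticMap Cfsg.Agent.Classical Cfsg.Agent.Classical.Quad Matrix

variable {F ι : Type*} [Field F] [Fintype ι] [DecidableEq ι] [Finite F]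
variable {H : Subgroup (oG (sq F ι))}

/-- elements of the overgroup fixing the centre preserve the set of parameters -/
theorem tS_map {x d : ι → F} {hx : sq F ι x = 0} {h : oG (sq F ι)} (hh : h ∈ H) (hfx : h.1 x = x)
    (hd : d ∈ RootPlanes.tS H hx) : h.1 d ∈ RootPlanes.tS H hx := by
  refine ⟨by rw [← hfx, polar_oG]; exact hd.1, fun a hp => ?_⟩
  have hp' : polar (sq F ι) x (a • d) = 0 := polar_perp_smul hd.1 a
  have h1 := mul_mem (mul_mem hh (hd.2 a hp')) (inv_mem hh)
  rw [conj_sO] at h1
  convert h1 using 1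
  exact ext_oG fun v => by simp only [sO_apply, hfx, map_smul]

/-- a member orthogonal to the centre but not to a known parameter is a parameter -/
theorem tS_member (hH : Over H) {x d z : ι → F} {hx : sq F ι x = 0} (hd : d ∈ RootPlanes.tS H hx) (hz : T H z)
    (hxz : x ⬝ᵥ z = 0) {k : ι} (hxk : x k = 0) (hdk : d k = 0) (hdz : d ⬝ᵥ z ≠ 0) : z ∈ RootPlanes.tS H hx := by
  have h2 := hH.two
  have hfix : (R z * R (e k) : oG (sq F ι)).1 x = x := by
    rw [oG_mul_apply, R_apply h2 (e_self k), dot_e, hxk, mul_zero, zero_smul, sub_zero, R_apply h2 hz.1, hxz,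
      mul_zero, zero_smul, sub_zero]
  have h1 := tS_map (hz.2 k) hfix hd
  rw [oG_mul_apply, R_apply h2 (e_self k), dot_e, hdk, mul_zero, zero_smul, sub_zero, R_apply h2 hz.1] at h1
  have hsub := Submodule.sub_mem _ hd h1
  rw [sub_sub_cancel] at hsub
  have := Submodule.smul_mem _ (2 * (d ⬝ᵥ z))⁻¹ hsub
  rwa [inv_smul_smul₀ (mul_ne_zero h2 hdz)] at this

/-- one full singular vector contradicts properness -/
theorem false_of_full (hH : Over H) {x : ι → F} {c k : ι} (hc : x c ≠ 0) (hk : x k = 0)
    (hx : RootPlanes.Full H x) : False := by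
  have h2 := hH.two
  set g : oG (sq F ι) := R (e c) * R (e k) with hg
  have hck : c ≠ k := fun h => hc (h ▸ hk)
  have hx' : RootPlanes.Full H (g.1 x) := hx.conj (hH.ee_mem c k)
  have hgx : g.1 x = x - (2 * x c) • e c := by
    rw [hg, oG_mul_apply, R_apply h2 (e_self k), dot_e, hk, mul_zero, zero_smul, sub_zero, R_apply h2 (e_self c), dot_e]
  have hne : polar (sq F ι) x (g.1 x) ≠ 0 := by
    have hxx : x ⬝ᵥ x = 0 := by rw [← sq_apply]; exact hx.1
    rw [polar_sq, hgx, dotProduct_sub, dotProduct_smul, hxx, dot_e, smul_eq_mul, zero_sub]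
    exact mul_ne_zero h2 (neg_ne_zero.2 (mul_ne_zero (mul_ne_zero h2 hc) hc))
  have hn : 3 ≤ finrank F (ι → F) := by
    rw [Module.finrank_fintype_fun_eq_card]; have := hH.big; omega
  exact hH.no ((commutator_le_eo hH.nd hn).trans (RootPlanes.eo_le hH.nd hn hx hx' hne))

theorem no_root_three (hH : Over H) (h3 : Nat.card F = 3) {w : ι → F} (hw : T H w) (hr : ¬ Root w) : False := by
  classical
  have h2 := hH.two
  have h30 := three_zero hH h3
  obtain ⟨a, -⟩ := hH.fresh ∅ (by simp)
  obtain ⟨b, hb⟩ := hH.fresh {a} (by simp)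
  obtain ⟨c, hc⟩ := hH.fresh {a, b} (le_trans Finset.card_le_two (by norm_num))
  simp only [Finset.mem_singleton, Finset.mem_insert, not_or] at hb hc
  set x : ι → F := e a + e b + e c with hxdef
  have hall : ∀ u : ι → F, u ⬝ᵥ u = 1 → T H u := fun u hu => all_three hH h3 hw hr hu
  have hxx : x ⬝ᵥ x = 0 := by
    simp [hxdef, dotProduct_add, hb, hc.1, hc.2, Ne.symm hb, Ne.symm hc.1, Ne.symm hc.2]
    linear_combination h30
  have hx : sq F ι x = 0 := by rw [sq_apply, hxx]
  have hxk : ∀ i, i ≠ a → i ≠ b → i ≠ c → x i = 0 := fun i h1 h2 h3 => by simp [hxdef, h1, h2, h3]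
  -- coordinate vectors outside
  have hout : ∀ i, i ≠ a → i ≠ b → i ≠ c → (e i : ι → F) ∈ RootPlanes.tS H hx := by
    intro i hia hib hic
    have hu : (x + e i) ⬝ᵥ (x + e i) = 1 := by
      simp only [add_dotProduct, dotProduct_add, hxx, e_self, dot_e, e_dot, hxk i hia hib hic]
      simpa using hxk i hia hib hic
    have hT := hall _ hu
    refine ⟨by rw [polar_sq, dot_e, hxk i hia hib hic, mul_zero], fun q hp => ?_⟩
    obtain ⟨n, rfl⟩ := hH.natCast_surj q
    have hxe : polar (sq F ι) x (e i) = 0 := by rw [polar_sq, dot_e, hxk i hia hib hic, mul_zero]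
    have key : R (x + e i) * R (e i) = sO hx hxe := ext_oG fun v => by
      rw [oG_mul_apply, R_apply h2 (e_self i), R_apply h2 hu, sO_apply, polar_sq, polar_sq, sq_apply, e_self, dot_e]
      simp only [sub_dotProduct, smul_dotProduct, dotProduct_add, smul_eq_mul, e_self, e_dot, dot_e,
        hxk i hia hib hic, Pi.sub_apply, Pi.smul_apply, e_apply, ↓reduceIte]
      match_scalars <;> ring
    have h1 : sO hx hxe ∈ H := key ▸ hT.2 i
    have hs : ∀ m : ℕ, ∀ hp : polar (sq F ι) x ((m : F) • e i) = 0, sO hx hp ∈ H := by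
      intro m
      induction m with
      | zero =>
        intro hp
        rw [sO_congr hx hp (by simp [polar]) (by simp : ((0 : ℕ) : F) • (e i : ι → F) = 0), sO_zero]
        exact one_mem H
      | succ m ih =>
        intro hp
        rw [sO_congr hx hp (polar_perp_add (polar_perp_smul hxe (m : F)) hxe)
          (by rw [Nat.cast_succ, add_smul, one_smul]), ← sO_mul hx (polar_perp_smul hxe _) hxe]
        exact mul_mem (ih _) h1
    exact hs n hp
  -- the plane part
  set d : ι → F := e a - e b with hddef
  have hd : d ∈ RootPlanes.tS H hx := by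
    obtain ⟨i, hi⟩ := hH.fresh {a, b, c} (le_trans Finset.card_le_three (by norm_num))
    obtain ⟨j, hj⟩ := hH.fresh {a, b, c, i} (le_trans Finset.card_le_four (by norm_num))
    simp only [Finset.mem_insert, Finset.mem_singleton, not_or] at hi hj
    set z : ι → F := d + e i + e j with hzdef
    have hz : T H z := hall _ (by
      simp [hzdef, hddef, dotProduct_add, dotProduct_sub, hb, Ne.symm hb, hi, hj, Ne.symm hi.1, Ne.symm hi.2.1,
        Ne.symm hj.1, Ne.symm hj.2.1, Ne.symm hj.2.2.2]
      linear_combination h30)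
    have h1 := tS_member hH (hout i hi.1 hi.2.1 hi.2.2) hz
      (by simp [hzdef, hddef, hxdef, dotProduct_add, dotProduct_sub, hb, hi, hj, Ne.symm hb, Ne.symm hc.1,
        Ne.symm hc.2])
      (k := j) (hxk j hj.1 hj.2.1 hj.2.2.1) (by simp [hj.2.2.2])
      (by simp [hzdef, hddef, hi, Ne.symm hj.2.2.2])
    have := Submodule.sub_mem _ (Submodule.sub_mem _ h1 (hout i hi.1 hi.2.1 hi.2.2)) (hout j hj.1 hj.2.1 hj.2.2.1)
    rwa [show z - e i - e j = d by rw [hzdef]; abel] at this
  obtain ⟨m, hm⟩ := hH.fresh {a, b, c} (le_trans Finset.card_le_three (by norm_num))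
  simp only [Finset.mem_insert, Finset.mem_singleton, not_or] at hm
  refine false_of_full hH (x := x) (c := a) (by simp [hxdef, Ne.symm hb, Ne.symm hc.1])
    (hxk m hm.1 hm.2.1 hm.2.2) ?_
  refine RootPlanes.full_of_tS hx fun v hv => ?_
  rw [polar_sq] at hv
  have hv' : v a + v b + v c = 0 := by
    have := (mul_eq_zero.1 hv).resolve_left h2
    simp [hxdef] at this
    linear_combination this
  have hxm : x ∈ RootPlanes.tS H hx := by
    refine ⟨by rw [polar_sq, hxx, mul_zero], fun q hp => ?_⟩
    rw [sO_smul_self hx q hp]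
    exact one_mem H
  have hrest : (v - v a • e a - v b • e b - v c • e c) ∈ RootPlanes.tS H hx := by
    have : v - v a • e a - v b • e b - v c • e c = ∑ i ∈ Finset.univ \ {a, b, c}, v i • e i := by
      funext j
      simp only [Finset.sum_apply, Pi.sub_apply, Pi.smul_apply, smul_eq_mul, e_apply, mul_ite, mul_one, mul_zero,
        Finset.sum_ite_eq, Finset.mem_sdiff, Finset.mem_univ, true_and, Finset.mem_insert, Finset.mem_singleton]
      by_cases h1 : j = a
      · simp [h1, Ne.symm hb, Ne.symm hc.1]
      by_cases h2 : j = b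
      · simp [h2, hb, Ne.symm hc.2]
      by_cases h3 : j = c
      · simp [h3, hc.1, hc.2]
      · simp [h1, h2, h3]
    rw [this]
    refine Submodule.sum_mem _ fun i hi => Submodule.smul_mem _ _ ?_
    simp only [Finset.mem_sdiff, Finset.mem_univ, true_and, Finset.mem_insert, Finset.mem_singleton, not_or] at hi
    exact hout i hi.1 hi.2.1 hi.2.2
  have hplane : v a • e a + v b • e b + v c • e c = v c • x + (v a - v c) • d := by
    have : v b = -v a - v c := by linear_combination hv'
    rw [this, hxdef, hddef]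
    match_scalars
    · ring
    · linear_combination (-v c) * h30
    · ring
  have := Submodule.add_mem _ hrest (hplane ▸ Submodule.add_mem _ (Submodule.smul_mem _ (v c) hxm)
    (Submodule.smul_mem _ (v a - v c) hd))
  rwa [show v - v a • e a - v b • e b - v c • e c + (v a • e a + v b • e b + v c • e c) = v by abel] at this

/-- units on at most three coordinates are members -/
theorem units_three (hH : Over H) {a b k : ι} (hab : a ≠ b) (hbk : b ≠ k) (hak : a ≠ k)
    (hU : ∀ z ∈ U3 a b (e (F := F) k), z ⬝ᵥ z = 1 → T H z) {u : ι → F} (hu : u ⬝ᵥ u = 1) (S : Finset ι)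
    (hS : S.card ≤ 3) (hz : ∀ i, i ∉ S → u i = 0) : T H u := by
  classical
  obtain ⟨S', hSS', -, hS'⟩ := Finset.exists_subsuperset_card_eq (Finset.subset_univ S) hS
    (by rw [Finset.card_univ]; have := hH.big; omega)
  let e0 := Finset.equivOfCardEq (show S'.card = ({a, b, k} : Finset ι).card by
    rw [hS', Finset.card_insert_of_notMem (by simp [hab, hak]), Finset.card_pair hbk])
  let σ : Equiv.Perm ι := e0.extendSubtype
  set u' : ι → F := fun i => u (σ.symm i) with hu'
  have hz' : ∀ i, i ≠ a → i ≠ b → i ≠ k → u' i = 0 := fun i h1 h2 h3 => by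
    refine hz _ fun hmem => ?_
    have := Equiv.extendSubtype_mem e0 _ (hSS' hmem)
    rw [show e0.extendSubtype (σ.symm i) = i from σ.apply_symm_apply i] at this
    simp [h1, h2, h3] at this
  have hu1 : u' ⬝ᵥ u' = 1 := by
    rw [← hu]
    exact Equiv.sum_comp σ.symm fun i => u i * u i
  have hsupp : (supp u').card ≤ 3 := by
    refine le_trans (Finset.card_le_card (t := {a, b, k}) fun i hi => ?_) Finset.card_le_three
    by_contra h
    simp only [Finset.mem_insert, Finset.mem_singleton, not_or] at h
    exact mem_supp.1 hi (hz' i h.1 h.2.1 h.2.2)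
  have := T.rearrange hH (hU u' (mem_coord hab hbk hak hz') hu1) (Twin.of_small hH hsupp) σ
  simpa [hu'] using this

/-- from a full coordinate triple -/
theorem no_abk (hH : Over H) (h5 : 5 ≤ Nat.card F) (h : Abk H) : False := by
  classical
  obtain ⟨a, b, k, hab, hbk, hak, hU, x, hxU, d0, hd0U, hx0, hxx, hxd0, hdd0, hdat⟩ := h
  have h2 := hH.two
  have h30 : (3 : F) ≠ 0 := by exact_mod_cast hH.cast_ne_zero (k := 3) (by norm_num) (by omega)
  have h90 : (9 : F) ≠ 0 := by rw [show (9 : F) = 3 * 3 by norm_num]; exact mul_ne_zero h30 h30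
  have h40 : (4 : F) ≠ 0 := by rw [show (4 : F) = 2 * 2 by norm_num]; exact mul_ne_zero h2 h2
  have small := fun {u : ι → F} (hu : u ⬝ᵥ u = 1) (S : Finset ι) (hS : S.card ≤ 3) (hz : ∀ i, i ∉ S → u i = 0) =>
    units_three hH hab hbk hak hU hu S hS hz
  have hx : sq F ι x = 0 := by rw [sq_apply, hxx]
  have hd0 : d0 ∈ RootPlanes.tS H hx :=
    ⟨by rw [polar_sq, hxd0, mul_zero], fun q hp => hdat q hx hp⟩
  have hxout : ∀ i, i ≠ a → i ≠ b → i ≠ k → x i = 0 := fun i h1 h2 h3 => coord_of_mem hxU i h1 h2 h3
  have hdout : ∀ i, i ≠ a → i ≠ b → i ≠ k → d0 i = 0 := fun i h1 h2 h3 => coord_of_mem hd0U i h1 h2 h3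
  -- a configuration with this space
  set u : ι → F := (1 / 3 : F) • e a + (2 / 3 : F) • e b + (2 / 3 : F) • e k with hudef
  have hu : T H u := small (by
      simp [hudef, dotProduct_add, hab, hbk, hak, Ne.symm hab, Ne.symm hbk, Ne.symm hak]
      field_simp
      ring)
    {a, b, k} Finset.card_le_three (fun i hi => by
      simp only [Finset.mem_insert, Finset.mem_singleton, not_or] at hi
      simp [hudef, hi.1, hi.2.1, hi.2.2])
  have cf : Cfg H a b u := ⟨hH, hu, hab, by simp [hudef, hab, hak, h30],
    by simp [hudef, Ne.symm hab, hbk, h30, h2], by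
      simp [hudef, hab, hak, Ne.symm hab, hbk]
      field_simp
      intro h
      exact mul_ne_zero h2 h2 (by linear_combination h)⟩
  have hUeq : U3 a b u = U3 a b (e k) := U3_eq_coord hab hbk hak
    (by simp [hudef, Ne.symm hak, Ne.symm hbk, h30, h2]) fun i h1 h2 h3 => by simp [hudef, h1, h2, h3]
  obtain ⟨d, y, f⟩ := exists_frame cf (hUeq ▸ hxU) hx0 hxx
  have hxm : x ∈ RootPlanes.tS H hx := by
    refine ⟨by rw [polar_sq, hxx, mul_zero], fun q hp => ?_⟩
    rw [sO_smul_self hx q hp]
    exact one_mem H
  have hd : d ∈ RootPlanes.tS H hx := by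
    have ex := f.expand cf (hUeq ▸ hd0U)
    rw [dotProduct_comm d0 x, hxd0, zero_smul, add_zero] at ex
    have hne : d0 ⬝ᵥ d / (d ⬝ᵥ d) ≠ 0 := fun h0 => hdd0 (by
      rw [ex, h0]; simp [hxx])
    have := Submodule.smul_mem _ (d0 ⬝ᵥ d / (d ⬝ᵥ d))⁻¹
      (Submodule.sub_mem _ hd0 (Submodule.smul_mem _ (d0 ⬝ᵥ y) hxm))
    rwa [show d0 - (d0 ⬝ᵥ y) • x = (d0 ⬝ᵥ d / (d ⬝ᵥ d)) • d from sub_eq_iff_eq_add'.2 ex, inv_smul_smul₀ hne] at this
  -- plane vectors orthogonal to the centre
  have plane : ∀ v ∈ U3 a b (e (F := F) k), v ⬝ᵥ x = 0 → v ∈ RootPlanes.tS H hx := fun v hv hvx => by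
    have ex := f.expand cf (z := v) (by rw [hUeq]; exact hv)
    rw [hvx, zero_smul, add_zero] at ex
    rw [ex]
    exact Submodule.add_mem _ (Submodule.smul_mem _ _ hxm) (Submodule.smul_mem _ _ hd)
  -- coordinate vectors outside
  have hout : ∀ i, i ≠ a → i ≠ b → i ≠ k → (e i : ι → F) ∈ RootPlanes.tS H hx := by
    intro i hia hib hik
    obtain ⟨j, hj⟩ := hH.fresh {a, b, k, i} (le_trans Finset.card_le_four (by norm_num))
    simp only [Finset.mem_insert, Finset.mem_singleton, not_or] at hj
    have hxl := hxout i hia hib hik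
    have hin : ∀ j', (j' = a ∨ j' = b ∨ j' = k) → j' ≠ i ∧ j' ≠ j := fun j' h' => by
      rcases h' with rfl | rfl | rfl
      · exact ⟨Ne.symm hia, Ne.symm hj.1⟩
      · exact ⟨Ne.symm hib, Ne.symm hj.2.1⟩
      · exact ⟨Ne.symm hik, Ne.symm hj.2.2.1⟩
    by_cases h0 : ∃ q, (q = a ∨ q = b ∨ q = k) ∧ x q = 0
    · -- a coordinate vector of the triple is orthogonal to the centre
      obtain ⟨q, hq, hxq⟩ := h0
      obtain ⟨hqi, hqj⟩ := hin q hq
      have hqU : (e q : ι → F) ∈ U3 a b (e (F := F) k) := mem_coord hab hbk hak fun i' h1 h2 h3 => by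
        rw [e_apply, if_neg]; rcases hq with rfl | rfl | rfl <;> assumption
      have hqm := plane _ hqU (by rw [e_dot, hxq])
      have key : ∀ t : F, t * t = 1 / 9 →
          ((2 / 3 : F) • e q + (2 / 3 : F) • e i + t • e j : ι → F) ∈ RootPlanes.tS H hx := fun t ht => by
        refine tS_member hH hqm (k := i) (small ?_ {q, i, j} Finset.card_le_three ?_) ?_ hxl ?_ ?_
        · simp [dotProduct_add, hqi, hqj, Ne.symm hqi, Ne.symm hqj, hj.2.2.2, Ne.symm hj.2.2.2]
          linear_combination (norm := skip) ht
          field_simp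
          ring
        · intro i' hi'
          simp only [Finset.mem_insert, Finset.mem_singleton, not_or] at hi'
          simp [hi'.1, hi'.2.1, hi'.2.2]
        · simp [dotProduct_add, hxq, hxout i hia hib hik, hxout j hj.1 hj.2.1 hj.2.2.1]
        · simp [Ne.symm hqi]
        · simp [hqi, hqj, h2, h30]
      have s1 := Submodule.add_mem _ (key (1 / 3) (by field_simp; ring)) (key (-1 / 3) (by field_simp; ring))
      have s2 := Submodule.sub_mem _ (Submodule.smul_mem _ (3 / 4 : F) s1) hqm
      have h4 : (4 : F) ≠ 0 := by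
        rw [show (4 : F) = 2 * 2 by norm_num]; exact mul_ne_zero h2 h2
      convert s2 using 1
      match_scalars <;> field_simp <;> ring
    · -- all three coordinates of the centre are non-zero
      push Not at h0
      have ha := h0 a (Or.inl rfl)
      have hb := h0 b (Or.inr (Or.inl rfl))
      have hk := h0 k (Or.inr (Or.inr rfl))
      have h50 : (5 : F) ≠ 0 := by
        intro h50
        haveI := hH.charP
        have h5' : Nat.card F = 5 := by
          have : Nat.card F ∣ 5 := (CharP.cast_eq_zero_iff F (Nat.card F) 5).1 (by exact_mod_cast h50)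
          have := Nat.le_of_dvd (by norm_num) this
          omega
        have hs : x a * x a + x b * x b + x k * x k = 0 := by
          rw [← hxx, dotProduct, ← Finset.sum_subset (Finset.subset_univ {a, b, k}) (fun i _ hi => by
            simp only [Finset.mem_insert, Finset.mem_singleton, not_or] at hi
            rw [hxout i hi.1 hi.2.1 hi.2.2, zero_mul]), Finset.sum_insert (by simp [hab, hak]), Finset.sum_pair hbk]
          ring
        rcases sq_five hH h5' ha with p | p <;> rcases sq_five hH h5' hb with q | q <;>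
          rcases sq_five hH h5' hk with r | r <;> rw [p, q, r] at hs
        · exact h30 (by linear_combination hs)
        · exact one_ne_zero (α := F) (by linear_combination hs)
        · exact one_ne_zero (α := F) (by linear_combination hs)
        · exact one_ne_zero (α := F) (by linear_combination -hs)
        · exact one_ne_zero (α := F) (by linear_combination hs)
        · exact one_ne_zero (α := F) (by linear_combination -hs)
        · exact one_ne_zero (α := F) (by linear_combination -hs)
        · exact h30 (by linear_combination -hs)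
      have hd' : (-x b) • e a + x a • e b ∈ U3 a b (e (F := F) k) := mem_coord hab hbk hak fun i' h1 h2 h3 => by
        simp [h1, h2]
      have hsum : x a * x a + x b * x b = -(x k * x k) := by
        have := hxx
        rw [dotProduct, ← Finset.sum_subset (Finset.subset_univ {a, b, k}) (fun i _ hi => by
          simp only [Finset.mem_insert, Finset.mem_singleton, not_or] at hi
          rw [hxout i hi.1 hi.2.1 hi.2.2, zero_mul]), Finset.sum_insert (by simp [hab, hak]), Finset.sum_pair hbk]
          at this
        linear_combination this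
      have hdm := plane _ hd' (by simp; ring)
      set z : ι → F := (4 / (3 * x k)) • ((-x b) • e a + x a • e b) + (5 / 3 : F) • e i with hzdef
      have hzz : z ⬝ᵥ z = 1 := by
        simp [hzdef, dotProduct_add, hab, Ne.symm hab, hia, hib, Ne.symm hia, Ne.symm hib]
        field_simp
        linear_combination (norm := ring_nf) (16 : F) * hsum
      have hzm := tS_member hH hdm (small hzz {a, b, i} Finset.card_le_three fun i' hi' => by
          simp only [Finset.mem_insert, Finset.mem_singleton, not_or] at hi'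
          simp [hzdef, hi'.1, hi'.2.1, hi'.2.2])
        (by simp [hzdef, dotProduct_add, hxout i hia hib hik]; ring) (k := i) hxl
        (by simp [hia, hib]) (by
          simp [hzdef, dotProduct_add, hab, Ne.symm hab, Ne.symm hia, Ne.symm hib]
          intro h
          field_simp at h
          have : (2 : F) * 2 * (x k * x k) = 0 := by linear_combination (norm := ring_nf) -h + 4 * hsum
          exact hk (mul_self_eq_zero.1 ((mul_eq_zero.1 this).resolve_left (mul_ne_zero h2 h2))))
      have := Submodule.smul_mem _ (3 / 5 : F) (Submodule.sub_mem _ hzm (Submodule.smul_mem _ (4 / (3 * x k)) hdm))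
      convert this using 1
      rw [hzdef]
      match_scalars <;> field_simp <;> ring
  obtain ⟨c, hc⟩ := Function.ne_iff.1 hx0
  obtain ⟨m, hm⟩ := hH.fresh {a, b, k} (le_trans Finset.card_le_three (by norm_num))
  simp only [Finset.mem_insert, Finset.mem_singleton, not_or] at hm
  refine false_of_full hH hc (hxout m hm.1 hm.2.1 hm.2.2) (RootPlanes.full_of_tS hx fun v hv => ?_)
  rw [polar_sq] at hv
  have hvx := (mul_eq_zero.1 hv).resolve_left h2
  set v' : ι → F := fun i => if i = a ∨ i = b ∨ i = k then v i else 0 with hv'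
  have hv'm : v' ∈ RootPlanes.tS H hx := by
    refine plane v' (mem_coord hab hbk hak fun i h1 h2 h3 => by simp [hv', h1, h2, h3]) ?_
    rw [← hvx, dotProduct_comm x v]
    refine Finset.sum_congr rfl fun i _ => ?_
    simp only [hv']
    split_ifs with h
    · rfl
    · simp only [not_or] at h
      rw [hxout i h.1 h.2.1 h.2.2, mul_zero, mul_zero]
  have hrest : v - v' = ∑ i ∈ Finset.univ \ {a, b, k}, v i • e i := by
    funext j
    simp only [hv', Finset.sum_apply, Pi.sub_apply, Pi.smul_apply, smul_eq_mul, e_apply, mul_ite, mul_one, mul_zero,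
      Finset.sum_ite_eq, Finset.mem_sdiff, Finset.mem_univ, true_and, Finset.mem_insert, Finset.mem_singleton]
    split_ifs <;> simp
  have hrm : v - v' ∈ RootPlanes.tS H hx := by
    rw [hrest]
    refine Submodule.sum_mem _ fun i hi => Submodule.smul_mem _ _ ?_
    simp only [Finset.mem_sdiff, Finset.mem_univ, true_and, Finset.mem_insert, Finset.mem_singleton, not_or] at hi
    exact hout i hi.1 hi.2.1 hi.2.2
  have := Submodule.add_mem _ hrm hv'm
  rwa [sub_add_cancel] at this

/-- the only members are the roots -/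
theorem roots_only (hH : Over H) {w : ι → F} (hw : T H w) : Root w := by
  by_contra hr
  have hp := hH.prime
  have h2 : Nat.card F ≠ 2 := fun h => hH.two (by
    haveI := hH.charP
    exact_mod_cast (CharP.cast_eq_zero_iff F (Nat.card F) 2).2 (by rw [h]))
  have hge := hp.two_le
  rcases Nat.lt_or_ge (Nat.card F) 11 with hlt | h11
  · obtain ⟨p, hpeq⟩ : ∃ p, Nat.card F = p := ⟨_, rfl⟩
    rw [hpeq] at hp hlt h2 hge
    interval_cases p
    all_goals first
      | exact absurd rfl h2
      | exact no_root_three hH hpeq hw hr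
      | exact no_abk hH (by omega) (abk_five hH hpeq hw hr)
      | exact no_abk hH (by omega) (abk_seven hH hpeq hw hr)
      | norm_num at hp
  · exact no_abk hH (by omega) (abk_large hH h11 hw hr)

end Cfsg.Agent.ClassicalMax.OrthMono
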