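import Cfsg.Agent.ClassicalMax.OrthMono.Tools

/-!
Five elements: a member outside the roots gives a coordinate triple on which all units are members.
-/

set_option autoImplicit false
set_option linter.unusedSectionVars false
set_option linter.style.haveILetI false

namespace Cfsg.Agent.ClassicalMax.OrthMono

open Module QuadraticMap Cfsg.Agent.Classical Cfsg.Agent.Classical.Quad Matrix

variable {F ι : Type*} [Field F] [Fintype ι] [DecidableEq ι] [Finite F]
variable {H : Subgroup (oG (sq F ι))}

theorem sq_five (hH : Over H) (h5 : Nat.card F = 5) {x : F} (hx : x ≠ 0) : x * x = 1 ∨ x * x = -1 := by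
  haveI := Fintype.ofFinite F
  have h : x ^ 4 = 1 := by
    have := FiniteField.pow_card_sub_one_eq_one x hx
    rwa [← Nat.card_eq_fintype_card, h5] at this
  rcases mul_self_eq_one_iff.1 (show x * x * (x * x) = 1 by linear_combination h) with h | h
  · exact Or.inl h
  · exact Or.inr h

theorem five_zero (hH : Over H) (h5 : Nat.card F = 5) : (5 : F) = 0 := by
  haveI := hH.charP
  exact_mod_cast (CharP.cast_eq_zero_iff F (Nat.card F) 5).2 (by rw [h5])

/-- two coordinates of square one and one of square minus one -/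
def Pat5 (H : Subgroup (oG (sq F ι))) : Prop :=
  ∃ (v : ι → F) (a b c : ι), T H v ∧ a ≠ b ∧ b ≠ c ∧ a ≠ c ∧ v a * v a = 1 ∧ v b * v b = 1 ∧ v c * v c = -1 ∧
    ∀ i, i ≠ a → i ≠ b → i ≠ c → v i = 0

theorem abk_of_pat5 (hH : Over H) (h5 : Nat.card F = 5) (h : Pat5 H) : Abk H := by
  obtain ⟨v, a, b, c, hv, hab, hbc, hac, ha, hb, hc, hz⟩ := h
  have h50 := five_zero hH h5
  have h2 := hH.two
  have hca0 : v c ≠ 0 := fun h => by rw [h] at hc; simp at hc
  have cf : Cfg H a b v := ⟨hH, hv, hab, fun h => by rw [h] at ha; simp at ha, fun h => by rw [h] at hb; simp at hb,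
    by rw [ha, hb]; intro h; exact one_ne_zero (α := F) (by linear_combination -h)⟩
  set x : ι → F := e a + (2 : F) • e c with hx
  set z : ι → F := e a + e b + (2 : F) • e c with hzdef
  have hT : T H z := T.of_squares hH hv fun i => by
    simp only [hzdef, Pi.add_apply, Pi.smul_apply, smul_eq_mul, e_apply]
    rcases eq_or_ne i a with rfl | hia
    · rw [ha]; simp [hab, hac]
    rcases eq_or_ne i b with rfl | hib
    · rw [hb]; simp [hia, hbc]
    rcases eq_or_ne i c with rfl | hic
    · rw [hc]; simp [hia, hib]; linear_combination h50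
    · rw [hz i hia hib hic]; simp [hia, hib, hic]
  have hU : U3 a b v = U3 a b (e c) := U3_eq_coord hab hbc hac hca0 hz
  have hzU : z ∈ U3 a b v := hU ▸ mem_coord hab hbc hac fun i h1 h2 h3 => by simp [hzdef, h1, h2, h3]
  have hxU : x ∈ U3 a b v := hU ▸ mem_coord hab hbc hac fun i h1 h2 h3 => by simp [hx, h1, h3]
  obtain ⟨-, u2, -⟩ := U3_mem a b v
  have hh := cf.pair_mem hT (T.e_mem hH b) hzU u2
  have hxz : x ⬝ᵥ z = 0 := by
    simp [hx, hzdef, dotProduct_add, hab, hac, Ne.symm hbc, Ne.symm hac]
    linear_combination h50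
  have hxe : x ⬝ᵥ e b = 0 := by rw [dot_e]; simp [hx, Ne.symm hab, hbc]
  have hfix : (R z * R (e b) : oG (sq F ι)).1 x = x := by
    rw [oG_mul_apply, R_apply h2 (e_self b), hxe, mul_zero, zero_smul, sub_zero, R_apply h2 hT.1, hxz, mul_zero,
      zero_smul, sub_zero]
  have hne : (R z * R (e b) : oG (sq F ι)) ≠ 1 := fun he => by
    have h1 := congrArg (fun k : oG (sq F ι) => k.1 (e b) a) he
    simp only [oG_mul_apply, oG_one_apply] at h1
    rw [R_apply h2 (e_self b), R_apply h2 hT.1] at h1
    simp [hzdef, hab, Ne.symm hab, hac, Ne.symm hbc, hbc, sub_dotProduct] at h1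
    rcases h1 with h1 | h1
    · exact h2 h1
    · exact one_ne_zero (α := F) (by linear_combination -h1)
  have hxx : x ⬝ᵥ x = 0 := by
    simp [hx, dotProduct_add, hac, Ne.symm hac]
    linear_combination h50
  have hx0 : x ≠ 0 := fun h => by
    have := congrFun h a; simp [hx, hac] at this
  have := full_of_fix cf hh hne hxU hx0 hxx hfix
  rw [hU] at this
  exact ⟨a, b, c, hab, hbc, hac, this⟩

open scoped _root_.Classical in
/-- two coordinates of square one and one of minus one can be isolated -/
theorem pat5_of_two (hH : Over H) {u : ι → F} (hu : T H u) {a b c : ι} (hab : a ≠ b) (hbc : b ≠ c) (hac : a ≠ c)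
    (ha : u a * u a = 1) (hb : u b * u b = 1) (hc : u c * u c = -1) : Pat5 H := by
  have hrest : ∑ i ∈ Finset.univ \ {a, b, c}, u i * u i = 0 := by
    have h := hu.1
    rw [dotProduct, ← Finset.sum_sdiff (Finset.subset_univ {a, b, c}), Finset.sum_insert (by simp [hab, hac]),
      Finset.sum_pair hbc, ha, hb, hc] at h
    linear_combination h
  refine ⟨_, a, b, c, hu.split hH _ hrest 0, hab, hbc, hac, ?_, ?_, ?_, fun i h1 h2 h3 => by simp [h1, h2, h3]⟩ <;>
    simpa

open scoped _root_.Classical in
theorem pat5_of_three (hH : Over H) (h5 : Nat.card F = 5) {w : ι → F} (hw : T H w) (h3 : 3 ≤ (supp w).card) :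
    Pat5 H := by
  have h2 := hH.two
  have h50 := five_zero hH h5
  have mixed : ∀ u : ι → F, T H u → ∀ P : Finset ι, (∀ i ∈ P, u i * u i = 1) → 2 ≤ P.card →
      ∀ c, u c * u c = -1 → Pat5 H := by
    intro u hu P hP hcard c hc
    obtain ⟨a, ha, b, hb, hab⟩ := Finset.one_lt_card.1 hcard
    have hne : ∀ i ∈ P, i ≠ c := fun i hi he => h2 (by
      subst he; linear_combination hc - hP _ hi)
    exact pat5_of_two hH hu hab (hne b hb) (hne a ha) (hP a ha) (hP b hb) hc
  -- one plus and five minus
  have one_five : ∀ u : ι → F, T H u → ∀ a (N : Finset ι), u a * u a = 1 → (∀ i ∈ N, u i * u i = -1) →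
      N.card = 5 → (∀ i, i ≠ a → i ∉ N → u i = 0) → Pat5 H := by
    intro u hu a N ha hN hcard hz
    obtain ⟨S, hS, hS3⟩ := Finset.exists_subset_card_eq (show 3 ≤ N.card by omega)
    have hv := T.refl_apply hH (hu.flips hH S) hu
    have hd : (u ⬝ᵥ fun i => if i ∈ S then -u i else u i) = 2 := by
      rw [show (u ⬝ᵥ fun i => if i ∈ S then -u i else u i) =
        ∑ i, (u i * u i - if i ∈ S then 2 * (u i * u i) else 0) from Finset.sum_congr rfl fun i _ => by
          dsimp only; split_ifs <;> ring, Finset.sum_sub_distrib, ← Finset.sum_filter, Finset.filter_univ_mem,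
        show ∑ i, u i * u i = u ⬝ᵥ u from rfl, hu.1, Finset.sum_congr rfl fun i hi => by rw [hN i (hS hi)],
        Finset.sum_const, hS3]
      simp only [nsmul_eq_mul, Nat.cast_ofNat]
      linear_combination h50
    rw [hd] at hv
    have hsq : ∀ i, i ∉ S → (u i - 2 * 2 * (if i ∈ S then -u i else u i)) *
        (u i - 2 * 2 * (if i ∈ S then -u i else u i)) = -(u i * u i) := fun i hi => by
      rw [if_neg hi]; linear_combination (2 * (u i * u i)) * h50
    have haS : a ∉ S := fun h => h2 (by linear_combination hN a (hS h) - ha)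
    refine mixed _ hv (N \ S) (fun i hi => ?_) (by rw [Finset.card_sdiff_of_subset hS, hcard, hS3]) a
      (by rw [hsq a haS, ha])
    obtain ⟨hi1, hi2⟩ := Finset.mem_sdiff.1 hi
    rw [hsq i hi2, hN i hi1, neg_neg]
  set P := (supp w).filter fun i => w i * w i = 1 with hP
  set N := (supp w).filter fun i => ¬ w i * w i = 1 with hN
  have hNval : ∀ i ∈ N, w i * w i = -1 := fun i hi => by
    rw [hN, Finset.mem_filter] at hi
    exact (sq_five hH h5 (mem_supp.1 hi.1)).resolve_left hi.2
  have hPval : ∀ i ∈ P, w i * w i = 1 := fun i hi => (Finset.mem_filter.1 hi).2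
  have hcard : P.card + N.card = (supp w).card := Finset.card_filter_add_card_filter_not _
  have hsum : (P.card : F) - (N.card : F) = 1 := by
    rw [← sum_supp hw, ← Finset.sum_filter_add_sum_filter_not (supp w) (fun i => w i * w i = 1),
      Finset.sum_congr rfl hPval, Finset.sum_congr rfl hNval]
    simp
    ring
  have hzero : ∀ i, i ∉ P → i ∉ N → w i = 0 := fun i h1 h2 => by
    by_contra h
    rw [hP, Finset.mem_filter] at h1
    rw [hN, Finset.mem_filter] at h2
    exact h2 ⟨mem_supp.2 h, fun e => h1 ⟨mem_supp.2 h, e⟩⟩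
  haveI := hH.charP
  have hz : ∀ k : ℕ, (k : F) = 0 → 5 ∣ k := fun k hk => by
    rw [← h5]; exact (CharP.cast_eq_zero_iff F (Nat.card F) k).1 hk
  have hscale : ∀ S : Finset ι, S ⊆ supp w → S.card = 5 → ∀ s : F, (∀ i ∈ S, w i * w i = s) →
      T H (fun i => if i ∈ S then 2 * w i else w i) := fun S _ hS s hs =>
    hw.split hH S (by rw [Finset.sum_congr rfl hs, Finset.sum_const, hS, nsmul_eq_mul]; linear_combination s * h50) 2
  rcases Nat.eq_zero_or_pos N.card with hN0 | hNpos
  · -- only plus
    have h1 : 5 ∣ P.card - 1 := hz _ (by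
      rw [Nat.cast_sub (by omega), Nat.cast_one]; rw [hN0, Nat.cast_zero] at hsum; linear_combination hsum)
    obtain ⟨S, hS, hS5⟩ := Finset.exists_subset_card_eq (show 5 ≤ P.card by omega)
    have hu := hscale S (hS.trans (Finset.filter_subset _ _)) hS5 1 fun i hi => hPval i (hS hi)
    have huS : ∀ i ∈ S, (if i ∈ S then 2 * w i else w i) * (if i ∈ S then 2 * w i else w i) = -1 := fun i hi => by
      rw [if_pos hi]; linear_combination (4 : F) * hPval i (hS hi) + h50
    have huP : ∀ i ∈ P \ S, (if i ∈ S then 2 * w i else w i) * (if i ∈ S then 2 * w i else w i) = 1 := fun i hi => by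
      rw [if_neg (Finset.mem_sdiff.1 hi).2]; exact hPval i (Finset.mem_sdiff.1 hi).1
    obtain ⟨c, hc⟩ := Finset.card_pos.1 (show 0 < S.card by omega)
    rcases Nat.lt_or_ge (P \ S).card 2 with hlt | hge
    · obtain ⟨a, ha⟩ := Finset.card_eq_one.1 (show (P \ S).card = 1 by
        rw [Finset.card_sdiff_of_subset hS] at hlt ⊢; omega)
      refine one_five _ hu a S (huP a (by simp [ha])) huS hS5 fun i hia hiS => ?_
      rw [if_neg hiS]
      refine hzero i (fun hiP => hia ?_) (by rw [Finset.card_eq_zero.1 hN0]; simp)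
      exact Finset.mem_singleton.1 (ha ▸ Finset.mem_sdiff.2 ⟨hiP, hiS⟩)
    · exact mixed _ hu (P \ S) huP hge c (huS c hc)
  · obtain ⟨c, hc⟩ := Finset.card_pos.1 hNpos
    rcases Nat.lt_or_ge P.card 2 with hlt | hge
    swap
    · exact mixed w hw P hPval hge c (hNval c hc)
    rcases Nat.lt_or_ge N.card 5 with hlt5 | hge5
    · -- four minus
      have hP0 : P.card = 0 := by
        by_contra hne
        have hP1 : P.card = 1 := by omega
        rw [hP1] at hsum
        have := hz N.card (by push_cast at hsum; linear_combination -hsum)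
        omega
      rw [hP0] at hsum hcard
      have h4 : 5 ∣ N.card + 1 := hz _ (by push_cast at hsum ⊢; linear_combination -hsum)
      have hN4 : N.card = 4 := by omega
      obtain ⟨k, hk⟩ := hH.fresh (supp w) (by omega)
      have hca : c ≠ k := fun h => hk (h ▸ (Finset.mem_filter.1 hc).1)
      rw [mem_supp, not_not] at hk
      obtain ⟨x, hx, y, hy, hxy⟩ := Finset.one_lt_card.1 (show 1 < N.card by omega)
      have hv := shift hH hw hca hk ⟨x, y, hxy, (hNval x hx).trans (hNval y hy).symm⟩
      refine mixed _ hv (N.erase c) (fun i hi => ?_) (by rw [Finset.card_erase_of_mem hc, hN4]; norm_num) c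
        (by simpa using hNval c hc)
      have hi' := Finset.mem_erase.1 hi
      have hik : i ≠ k := fun h => mem_supp.1 (Finset.mem_filter.1 hi'.2).1 (h ▸ hk)
      simp only [hi'.1, hik, ↓reduceIte]
      rw [hNval c hc]
      linear_combination (9 : F) * hNval i hi'.2 - (2 : F) * h50
    · obtain ⟨S, hS, hS5⟩ := Finset.exists_subset_card_eq hge5
      have hu := hscale S (hS.trans (Finset.filter_subset _ _)) hS5 (-1) fun i hi => hNval i (hS hi)
      have huS : ∀ i ∈ S, (if i ∈ S then 2 * w i else w i) * (if i ∈ S then 2 * w i else w i) = 1 := fun i hi => by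
        rw [if_pos hi]; linear_combination (4 : F) * hNval i (hS hi) - h50
      rcases Nat.eq_zero_or_pos (N \ S).card with h0 | hpos
      · -- one plus and five minus, or nothing
        have hNS : N.card = 5 := by rw [Finset.card_sdiff_of_subset hS] at h0; omega
        have hP1 : P.card = 1 := by
          by_contra hne
          rw [hNS, show P.card = 0 by omega] at hsum
          push_cast at hsum
          exact one_ne_zero (α := F) (by linear_combination -hsum - h50)
        obtain ⟨a, ha⟩ := Finset.card_eq_one.1 hP1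
        exact one_five w hw a N (hPval a (by simp [ha])) hNval hNS fun i hia hiN =>
          hzero i (by simp [ha, hia]) hiN
      · obtain ⟨d, hd⟩ := Finset.card_pos.1 hpos
        refine mixed _ hu S huS (by omega) d ?_
        rw [if_neg (Finset.mem_sdiff.1 hd).2]
        exact hNval d (Finset.mem_sdiff.1 hd).1

theorem abk_five (hH : Over H) (h5 : Nat.card F = 5) {w : ι → F} (hw : T H w) (hr : ¬ Root w) : Abk H := by
  classical
  rcases nonroot_cases hH hr with h | ⟨a, b, hab, ha, hb, hne, hz⟩
  · exact abk_of_pat5 hH h5 (pat5_of_three hH h5 hw h)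
  · exfalso
    have := hw.1
    rw [sum_two hab hz] at this
    have h50 := five_zero hH h5
    rcases sq_five hH h5 ha with h | h <;> rcases sq_five hH h5 hb with h' | h'
    · exact hne (h.trans h'.symm)
    · exact one_ne_zero (α := F) (by linear_combination h + h' - this)
    · exact one_ne_zero (α := F) (by linear_combination h + h' - this)
    · exact hne (h.trans h'.symm)

end Cfsg.Agent.ClassicalMax.OrthMono
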