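import Cfsg.Agent.ClassicalMax.OrthMono.Stab

/-!
A product of two reflections in the overgroup against a diagonal involution with four signs.
-/

set_option autoImplicit false
set_option linter.unusedSectionVars false
set_option linter.style.haveILetI false

namespace Cfsg.Agent.ClassicalMax.OrthMono

open Module QuadraticMap Cfsg.Agent.Classical Cfsg.Agent.Classical.Quad Matrix

variable {F ι : Type*} [Field F] [Fintype ι] [DecidableEq ι] [Finite F]
variable {H : Subgroup (oG (sq F ι))}

/-- two orthogonal anisotropic vectors whose product of reflections is in the overgroup -/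
structure Pl2 (H : Subgroup (oG (sq F ι))) (u v : ι → F) : Prop where
  ov : Over H
  seven : 7 ≤ Fintype.card ι
  mem : R u * R v ∈ H
  uu : u ⬝ᵥ u ≠ 0
  vv : v ⬝ᵥ v ≠ 0
  uv : u ⬝ᵥ v = 0

/-- the span of the two vectors -/
def InP (u v x : ι → F) : Prop := ∃ α β : F, x = α • u + β • v

/-- two proportional rows -/
def Rel (u v : ι → F) (a b : ι) : Prop := ∃ c : F, c ≠ 0 ∧ u b = c * u a ∧ v b = c * v a

theorem Rel.symm {u v : ι → F} {a b : ι} (h : Rel u v a b) : Rel u v b a := by
  obtain ⟨c, hc, hu, hv⟩ := h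
  exact ⟨c⁻¹, inv_ne_zero hc, by rw [hu, inv_mul_cancel_left₀ hc], by rw [hv, inv_mul_cancel_left₀ hc]⟩

theorem Rel.trans {u v : ι → F} {a b d : ι} (h : Rel u v a b) (h' : Rel u v b d) : Rel u v a d := by
  obtain ⟨c, hc, hu, hv⟩ := h
  obtain ⟨c', hc', hu', hv'⟩ := h'
  exact ⟨c' * c, mul_ne_zero hc' hc, by rw [hu', hu, mul_assoc], by rw [hv', hv, mul_assoc]⟩

open scoped _root_.Classical in
/-- what the diagonal involution on a set of four coordinates tells about the plane -/
def Alt (u v : ι → F) (S : Finset ι) : Prop :=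
  (∀ a ∈ S, ∃ b ∈ S, b ≠ a ∧ Rel u v a b) ∨
    ∃ p : ι → F, InP u v p ∧ p ≠ 0 ∧ ((supp p).card ≤ 6 ∧ (supp p \ S).card ≤ 2) ∧
      ∀ a ∈ S, p a ≠ 0 → (∀ b ∈ S, b ≠ a → p b = 0) → Mono (R u * R v)

variable {u v : ι → F}

theorem Pl2.y_apply (c : Pl2 H u v) (x : ι → F) :
    (R u * R v).1 x = x - (2 * (x ⬝ᵥ u) / (u ⬝ᵥ u)) • u - (2 * (x ⬝ᵥ v) / (v ⬝ᵥ v)) • v :=
  RR_apply c.ov.two c.uu c.vv c.uv x

theorem Pl2.y_neg (c : Pl2 H u v) {x : ι → F} (hx : InP u v x) : (R u * R v).1 x = -x := by
  obtain ⟨α, β, rfl⟩ := hx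
  have := c.uu
  have := c.vv
  rw [c.y_apply]
  simp only [add_dotProduct, smul_dotProduct, dotProduct_comm v u, c.uv, smul_eq_mul, mul_zero, add_zero, zero_add]
  match_scalars <;> field_simp <;> ring

theorem Pl2.inP_of_neg (c : Pl2 H u v) {x : ι → F} (hx : (R u * R v).1 x = -x) : InP u v x := by
  refine ⟨(x ⬝ᵥ u) / (u ⬝ᵥ u), (x ⬝ᵥ v) / (v ⬝ᵥ v), ?_⟩
  rw [c.y_apply] at hx
  apply smul_right_injective (ι → F) c.ov.two
  show (2 : F) • x = (2 : F) • _
  linear_combination (norm := (match_scalars <;> ring)) hx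

/-- the product of the reflections is an involution -/
theorem Pl2.y_sq (c : Pl2 H u v) : (R u * R v) * (R u * R v) = 1 := ext_oG fun x => by
  obtain ⟨α, hα⟩ : ∃ α, α = 2 * (x ⬝ᵥ u) / (u ⬝ᵥ u) := ⟨_, rfl⟩
  obtain ⟨β, hβ⟩ : ∃ β, β = 2 * (x ⬝ᵥ v) / (v ⬝ᵥ v) := ⟨_, rfl⟩
  have hy : (R u * R v).1 x = x - α • u - β • v := by rw [c.y_apply, hα, hβ]
  rw [oG_mul_apply, oG_one_apply, hy, map_sub, map_sub, map_smul, map_smul, hy,
    c.y_neg ⟨1, 0, by module⟩, c.y_neg ⟨0, 1, by module⟩]
  module

/-- the elements moving every vector by a multiple of the plane plus a part on four coordinates -/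
def moveSub (u v : ι → F) (S : Finset ι) : Subgroup (oG (sq F ι)) where
  carrier := {g | ∀ q, ∃ α β : F, ∀ i ∉ S, g.1 q i - q i = α * u i + β * v i}
  one_mem' := fun q => ⟨0, 0, fun i _ => by rw [oG_one_apply]; ring⟩
  mul_mem' := fun {g h} hg hh q => by
    obtain ⟨α, β, h1⟩ := hh q
    obtain ⟨α', β', h2⟩ := hg (h.1 q)
    exact ⟨α + α', β + β', fun i hi => by rw [oG_mul_apply]; linear_combination h1 i hi + h2 i hi⟩
  inv_mem' := fun {g} hg q => by
    obtain ⟨α, β, h1⟩ := hg (g⁻¹.1 q)
    refine ⟨-α, -β, fun i hi => ?_⟩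
    have := h1 i hi
    rw [oG_apply_inv] at this
    linear_combination -this

open scoped _root_.Classical in
set_option maxHeartbeats 1600000 in
-- a long case analysis on one involution
theorem alt_of_four (c : Pl2 H u v) (h10 : 10 ≤ Fintype.card ι) (hrow : ∀ i, u i ≠ 0 ∨ v i ≠ 0) (S : Finset ι)
    (hS : S.card = 4) :
    Alt u v S := by
  have h2 := c.ov.two
  obtain ⟨y, hydef⟩ : ∃ y : oG (sq F ι), R u * R v = y := ⟨_, rfl⟩
  have hyapp : ∀ q, y.1 q = q - (2 * (q ⬝ᵥ u) / (u ⬝ᵥ u)) • u - (2 * (q ⬝ᵥ v) / (v ⬝ᵥ v)) • v :=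
    hydef ▸ c.y_apply
  have hyneg : ∀ q, InP u v q → y.1 q = -q := hydef ▸ fun q hq => c.y_neg hq
  have hyinP : ∀ q, y.1 q = -q → InP u v q := hydef ▸ fun q hq => c.inP_of_neg hq
  have hyH : y ∈ H := hydef ▸ c.mem
  obtain ⟨a, ha⟩ := Finset.card_pos.1 (show 0 < S.card by omega)
  obtain ⟨b, d, e', hbd, hbe, hde, hS3⟩ := Finset.card_eq_three.1 (show (S.erase a).card = 3 by
    rw [Finset.card_erase_of_mem ha, hS])
  have hSeq : S = {a, b, d, e'} := by rw [← Finset.insert_erase ha, hS3]
  have hb : a ≠ b ∧ a ≠ d ∧ a ≠ e' := by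
    have : a ∉ S.erase a := Finset.notMem_erase a S
    rw [hS3] at this
    simpa [not_or] using this
  obtain ⟨x, hxdef⟩ : ∃ x : oG (sq F ι), R (e a) * R (e b) * (R (e d) * R (e e')) = x := ⟨_, rfl⟩
  have hxH : x ∈ H := hxdef ▸ mul_mem (c.ov.ee_mem a b) (c.ov.ee_mem d e')
  have hx : ∀ q i, x.1 q i = if i ∈ S then -q i else q i := fun q i => by
    simp only [← hxdef, oG_mul_apply, R_e_apply h2, Function.update_apply, hSeq, Finset.mem_insert, Finset.mem_singleton]
    obtain ⟨h1, h2', h3⟩ := hb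
    split_ifs <;> simp_all
  have hxx : x * x = 1 := ext_oG fun q => funext fun i => by
    rw [oG_mul_apply, oG_one_apply, hx, hx]
    split_ifs <;> ring
  have hyy : y * y = 1 := hydef ▸ c.y_sq
  have hxi : x⁻¹ = x := inv_eq_of_mul_eq_one_right hxx
  have hyi : y⁻¹ = y := inv_eq_of_mul_eq_one_right hyy
  -- the order of the product is even
  set r : oG (sq F ι) := x * y with hr
  have hrx : ∀ n : ℕ, x * r ^ n * x = (r ^ n)⁻¹ := fun n => by
    have : x * r * x⁻¹ = r⁻¹ := by
      rw [hr, _root_.mul_inv_rev, hxi, hyi, ← mul_assoc, hxx, one_mul]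
    have h' := congrArg (· ^ n) this
    simp only [conj_pow, inv_pow] at h'
    rwa [hxi] at h'
  have heven : Even (orderOf r) := by
    rw [← Nat.not_odd_iff_even]
    rintro ⟨k, hk⟩
    have hconj : r ^ k * x * (r ^ k)⁻¹ = y := by
      have h1 : (r ^ k)⁻¹ = x * r ^ k * x := (hrx k).symm
      have h2' : r ^ (2 * k) * r = 1 := by rw [← pow_succ, ← hk, pow_orderOf_eq_one]
      calc r ^ k * x * (r ^ k)⁻¹ = r ^ k * (x * x) * r ^ k * x := by rw [h1]; group
        _ = r ^ (2 * k) * x := by rw [hxx, mul_one, ← pow_add, two_mul]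
        _ = r ^ (2 * k) * r * r⁻¹ * x := by group
        _ = r⁻¹ * x := by rw [h2', one_mul]
        _ = y := by rw [hr, _root_.mul_inv_rev, hxi, hyi, mul_assoc, hxx, mul_one]
    set g := r ^ k
    have hneg : ∀ i ∈ S, InP u v (g.1 (e i)) := fun i hi => by
      refine hyinP _ ?_
      show y.1 _ = _
      rw [← hconj, oG_mul_apply, oG_mul_apply, oG_inv_apply, ← map_neg]
      congr 1
      funext l
      rw [hx, Pi.neg_apply, e_apply]
      split_ifs <;> simp_all
    have hmem : ∀ i : S, g.1 (e i.1) ∈ Submodule.span F (Set.range ![u, v]) := fun i => by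
      obtain ⟨α, β, h'⟩ := hneg i.1 i.2
      rw [h']
      exact add_mem (Submodule.smul_mem _ _ (Submodule.subset_span ⟨0, rfl⟩))
        (Submodule.smul_mem _ _ (Submodule.subset_span ⟨1, rfl⟩))
    have hli : LinearIndependent F (fun i : S => (⟨g.1 (e i.1), hmem i⟩ : Submodule.span F (Set.range ![u, v]))) := by
      rw [Fintype.linearIndependent_iff]
      intro f hf i
      have h0 : ∑ j : S, f j • g.1 (e j.1) = 0 := by simpa using congrArg Subtype.val hf
      have h1 := congrArg (fun q => (g⁻¹).1 q) h0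
      simp only [map_sum, map_smul, oG_inv_apply, map_zero] at h1
      have := congrFun h1 i.1
      simpa [Finset.sum_apply, Pi.single_apply, Subtype.coe_inj] using this
    have h4 := hli.fintype_card_le_finrank
    have h5 : finrank F (Submodule.span F (Set.range ![u, v])) ≤ 2 :=
      le_trans (finrank_range_le_card (R := F) ![u, v]) (by simp)
    rw [Fintype.card_coe, hS] at h4
    omega
  obtain ⟨k, hk⟩ := heven
  have hpos := orderOf_pos r
  set z : oG (sq F ι) := r ^ k with hz
  have hz1 : z ≠ 1 := fun h => by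
    have := Nat.le_of_dvd (by omega) (orderOf_dvd_of_pow_eq_one h)
    omega
  have hzz : z * z = 1 := by rw [hz, ← pow_add, ← hk, pow_orderOf_eq_one]
  have hzi : z⁻¹ = z := inv_eq_of_mul_eq_one_right hzz
  have hzx : z * x = x * z := by
    have h' : x * z * x = z := by rw [hz, hrx, ← hz, hzi]
    calc z * x = x * z * x * x := by rw [h']
      _ = x * z := by rw [mul_assoc, hxx, mul_one]
  have hzy : z * y = y * z := by
    have : y = x * r := by rw [hr, ← mul_assoc, hxx, one_mul]
    rw [this, ← mul_assoc, hzx, mul_assoc, mul_assoc, hz, ← pow_succ, ← pow_succ']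
  have hzH : z ∈ H := pow_mem (mul_mem hxH hyH) k
  have hzM : z ∈ moveSub u v S := by
    refine pow_mem (mul_mem (fun q => ⟨0, 0, fun i hi => by rw [hx, if_neg hi]; ring⟩) fun q => ?_) k
    refine ⟨-(2 * (q ⬝ᵥ u) / (u ⬝ᵥ u)), -(2 * (q ⬝ᵥ v) / (v ⬝ᵥ v)), fun i _ => ?_⟩
    show y.1 q i - q i = _
    rw [hyapp]
    simp only [Pi.sub_apply, Pi.smul_apply, smul_eq_mul]
    ring
  have hzinv : ∀ q, z.1 (z.1 q) = q := fun q => by rw [← oG_mul_apply, hzz, oG_one_apply]
  -- it is monomial
  have hmono : Mono z := by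
    refine mono_of_row c.ov hzH a S (by have := c.seven; omega) fun i hi => ?_
    rw [hzi]
    have h' : x.1 (z.1 (e a)) = -(z.1 (e a)) := by
      rw [← oG_mul_apply, ← hzx, oG_mul_apply, ← map_neg]
      congr 1
      funext l
      rw [hx, Pi.neg_apply, e_apply]
      split_ifs <;> simp_all
    have := congrFun h' i
    rw [hx, if_neg hi, Pi.neg_apply] at this
    exact (mul_eq_zero.1 (by linear_combination this : 2 * z.1 (e a) i = 0)).resolve_left h2
  choose σ cc hσ using hmono
  have hcc : ∀ i, cc i * cc i = 1 := fun i => by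
    have := dot_oG z h2 (e i) (e i)
    rw [hσ, smul_dotProduct, dotProduct_smul, e_self, e_self, smul_eq_mul, smul_eq_mul, mul_one] at this
    exact this
  have hcne : ∀ i, cc i ≠ 0 := fun i h => by have := hcc i; rw [h, mul_zero] at this; exact zero_ne_one this
  have happ : ∀ p i, z.1 p (σ i) = cc i * p i := fun p i => by
    have := dot_oG z h2 p (e i)
    rw [hσ, dotProduct_smul, dot_e, dot_e, smul_eq_mul] at this
    linear_combination (cc i) * this - (z.1 p (σ i)) * hcc i
  have hσσ : ∀ i, σ (σ i) = i := fun i => by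
    have h := hzinv (e i)
    rw [hσ, map_smul, hσ, smul_smul] at h
    by_contra hne
    have := congrFun h i
    simp [Ne.symm hne] at this
  have hSσ : ∀ i, σ i ∈ S ↔ i ∈ S := fun i => by
    have h' := congrArg (fun g : oG (sq F ι) => g.1 (e i) (σ i)) hzx
    simp only [oG_mul_apply] at h'
    rw [hx, happ, hx, happ] at h'
    simp only [e_apply, ↓reduceIte, mul_one] at h'
    by_cases h1 : i ∈ S <;> by_cases h3 : σ i ∈ S <;> simp only [h1, h3, ↓reduceIte] at h' ⊢
    · exact absurd (mul_eq_zero.1 (by linear_combination -h' : 2 * cc i = 0)) (by simp [h2, hcne i])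
    · exact absurd (mul_eq_zero.1 (by linear_combination h' : 2 * cc i = 0)) (by simp [h2, hcne i])
  have hzP : ∀ p, InP u v p → InP u v (z.1 p) := fun p hp => hyinP _ (by
    rw [← oG_mul_apply, ← hzy, oG_mul_apply, hyneg p hp, map_neg])
  have huP : InP u v u := ⟨1, 0, by module⟩
  have hvP : InP u v v := ⟨0, 1, by module⟩
  -- the image of a coordinate vector outside
  have hw : ∀ o, o ∉ S → ∃ α β : F, ∀ i ∉ S, z.1 (e o) i - (e o : ι → F) i = α * u i + β * v i := fun o _ => hzM _
  have hwneg : ∀ o i, z.1 (fun l => z.1 (e o) l - (e o : ι → F) l) i = -(z.1 (e o) i - (e o : ι → F) i) := fun o i => by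
    show z.1 (z.1 (e o) - e o) i = _
    rw [map_sub, hzinv, Pi.sub_apply, neg_sub]
  have hmoved : ∀ o, z.1 (e o) o - (e o : ι → F) o = 0 → σ o = o ∧ cc o = 1 := fun o h => by
    rw [hσ] at h
    rcases eq_or_ne (σ o) o with he | he
    · refine ⟨he, ?_⟩
      simp [he] at h
      linear_combination h
    · simp [Ne.symm he] at h
  by_cases h1 : z.1 u = u ∧ z.1 v = v
  · -- the plane is fixed
    left
    have hCfix : ∀ o, o ∉ S → σ o = o ∧ cc o = 1 := fun o ho => by
      obtain ⟨α, β, hab⟩ := hw o ho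
      refine hmoved o ?_
      have e1 := hwneg o o
      obtain ⟨i, rfl⟩ : ∃ i, σ i = o := ⟨σ o, hσσ o⟩
      have hi : i ∉ S := fun h => ho ((hSσ i).2 h)
      rw [happ, hab i hi, hab _ ho] at e1
      have hu' := happ u i; rw [h1.1] at hu'
      have hv' := happ v i; rw [h1.2] at hv'
      rw [hab _ ho]
      exact (mul_eq_zero.1 (by linear_combination e1 + α * hu' + β * hv' :
        2 * (α * u (σ i) + β * v (σ i)) = 0)).resolve_left h2
    have hrel : ∀ i, u (σ i) = cc i * u i ∧ v (σ i) = cc i * v i := fun i =>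
      ⟨by have := happ u i; rwa [h1.1] at this, by have := happ v i; rwa [h1.2] at this⟩
    have hnoflip : ∀ i, σ i = i → cc i = 1 := fun i hi => by
      obtain ⟨r1, r2⟩ := hrel i
      rw [hi] at r1 r2
      rcases mul_self_eq_one_iff.1 (hcc i) with h | h
      · exact h
      · rw [h] at r1 r2
        rcases hrow i with h0 | h0
        · exact absurd ((mul_eq_zero.1 (by linear_combination r1 : 2 * u i = 0)).resolve_left h2) h0
        · exact absurd ((mul_eq_zero.1 (by linear_combination r2 : 2 * v i = 0)).resolve_left h2) h0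
    intro i hi
    by_cases hfix : σ i ≠ i
    · exact ⟨σ i, (hSσ i).2 hi, hfix, cc i, hcne i, (hrel i).1, (hrel i).2⟩
    exfalso
    rw [not_not] at hfix
    obtain ⟨m, hm⟩ : ∃ m, σ m ≠ m := by
      by_contra! hall
      refine hz1 (ext_oG fun q => funext fun l => ?_)
      rw [oG_one_apply, ← hall l, happ, hnoflip l (hall l), one_mul, hall l]
    have hmS : m ∈ S := by by_contra h; exact hm (hCfix m h).1
    have hother : ∀ l, l ≠ m → l ≠ σ m → σ l = l := fun l hl hl' => by
      by_contra hne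
      have hlS : l ∈ S := by by_contra h; exact hne (hCfix l h).1
      have key : ({i, m, σ m, l, σ l} : Finset ι) ⊆ S := by
        simp [Finset.insert_subset_iff, hi, hmS, (hSσ m).2 hmS, hlS, (hSσ l).2 hlS]
      have h5 : ({i, m, σ m, l, σ l} : Finset ι).card = 5 := by
        have n1 : i ≠ m := fun h => hm (h ▸ hfix)
        have n2 : i ≠ σ m := fun h => n1 (by rw [← hσσ m, ← h, hfix])
        have n3 : i ≠ l := fun h => hne (h ▸ hfix)
        have n4 : i ≠ σ l := fun h => n3 (by rw [← hσσ l, ← h, hfix])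
        have n5 : m ≠ σ l := fun h => hl' (by rw [h, hσσ])
        have n6 : σ m ≠ σ l := fun h => hl (by rw [← hσσ l, ← h, hσσ])
        rw [Finset.card_insert_of_notMem (by simp [n1, n2, n3, n4]),
          Finset.card_insert_of_notMem (by simp [Ne.symm hm, Ne.symm hl, n5]),
          Finset.card_insert_of_notMem (by simp [Ne.symm hl', n6]), Finset.card_pair (Ne.symm hne)]
      have := Finset.card_le_card key
      omega
    -- a single transposition is a reflection
    set t : ι → F := e m - cc m • e (σ m) with ht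
    have htt : t ⬝ᵥ t = 2 := by
      simp [ht, dotProduct_sub, hm, Ne.symm hm]
      linear_combination hcc m
    have hzt : z = R t := ext_oG fun q => funext fun l => by
      rw [R_apply' h2 (by rw [htt]; exact h2), htt]
      simp only [ht, Pi.sub_apply, Pi.smul_apply, smul_eq_mul, dotProduct_sub, dotProduct_smul, dot_e, e_apply]
      rcases eq_or_ne l m with rfl | hlm
      · rw [if_pos rfl, if_neg (Ne.symm hm)]
        have hc : cc (σ l) = cc l := by
          have := congrFun (hzinv (e l)) l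
          rw [hσ, map_smul, Pi.smul_apply, smul_eq_mul] at this
          have h3 := happ (e (σ l)) (σ l)
          rw [hσσ] at h3
          rw [h3, e_apply, e_apply, if_pos rfl, if_pos rfl, mul_one] at this
          exact mul_left_cancel₀ (hcne l) (this.trans (hcc l).symm)
        have h3 := happ q (σ l)
        rw [hσσ, hc] at h3
        rw [h3]
        field_simp
        ring
      rcases eq_or_ne l (σ m) with rfl | hlm'
      · rw [if_neg hlm, if_pos rfl, happ]
        field_simp
        linear_combination (q (σ m)) * hcc m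
      · rw [if_neg hlm, if_neg hlm']
        have := hother l hlm hlm'
        have h3 := happ q l
        rw [this, hnoflip l this, one_mul] at h3
        rw [h3]
        ring
    have hn := c.ov.nd
    have hd : dickson hn (hex_of_two h2 _) z = 1 :=
      ((mem_commutator_chars hn (hex_of_two h2 _) z).1 (c.ov.le hzH)).1
    rw [hzt, R_eq (by rw [sq_apply, htt]; exact h2), dickson_rO] at hd
    exact absurd hd (by decide)
  by_cases h1' : z.1 u = -u ∧ z.1 v = -v
  · -- the plane is negated: too many coordinates move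
    exfalso
    have hmv : ∀ i, ¬(σ i = i ∧ cc i = 1) := fun i ⟨hi, hc⟩ => by
      have r1 := happ u i; rw [h1'.1, hi, hc] at r1
      have r2 := happ v i; rw [h1'.2, hi, hc] at r2
      rcases hrow i with h0 | h0
      · exact h0 ((mul_eq_zero.1 (by simp at r1; linear_combination -r1 : 2 * u i = 0)).resolve_left h2)
      · exact h0 ((mul_eq_zero.1 (by simp at r2; linear_combination -r2 : 2 * v i = 0)).resolve_left h2)
    obtain ⟨o1, ho1⟩ := c.ov.fresh' h10 S (by omega)
    obtain ⟨o2, ho2⟩ := c.ov.fresh' h10 (insert o1 (insert (σ o1) S))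
      ((Finset.card_insert_le _ _).trans (by have := Finset.card_insert_le (σ o1) S; omega))
    obtain ⟨o3, ho3⟩ := c.ov.fresh' h10 (insert o1 (insert (σ o1) (insert o2 (insert (σ o2) S))))
      ((Finset.card_insert_le _ _).trans (by
        have := Finset.card_insert_le (σ o1) (insert o2 (insert (σ o2) S))
        have := Finset.card_insert_le o2 (insert (σ o2) S)
        have := Finset.card_insert_le (σ o2) S
        omega))
    simp only [Finset.mem_insert, not_or] at ho2 ho3
    let os : Fin 3 → ι := ![o1, o2, o3]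
    have hos : ∀ j, os j ∉ S := fun j => by fin_cases j <;> simp [os, ho1, ho2, ho3]
    choose αα ββ hab using fun j => hw (os j) (hos j)
    have hoff : ∀ j l, j ≠ l → z.1 (e (os j)) (os l) - (e (os j) : ι → F) (os l) = 0 := fun j l hjl => by
      have key : ∀ x y, y ≠ x → y ≠ σ x → (σ x ≠ y ∧ x ≠ y) ∧ (σ y ≠ x ∧ y ≠ x) := fun x y h1 h2 =>
        ⟨⟨Ne.symm h2, Ne.symm h1⟩, fun h => h2 (by rw [← h, hσσ]), h1⟩
      have k12 := key o1 o2 ho2.1 ho2.2.1
      have k13 := key o1 o3 ho3.1 ho3.2.1
      have k23 := key o2 o3 ho3.2.2.1 ho3.2.2.2.1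
      have hσ1 : σ (os j) ≠ os l ∧ os j ≠ os l := by
        fin_cases j <;> fin_cases l
        exacts [absurd rfl hjl, k12.1, k13.1, k12.2, absurd rfl hjl, k23.1, k13.2, k23.2, absurd rfl hjl]
      rw [hσ]
      simp [Ne.symm hσ1.1, Ne.symm hσ1.2]
    have hli : LinearIndependent F fun j : Fin 3 => ![αα j, ββ j] := by
      rw [Fintype.linearIndependent_iff]
      intro f hf l
      have ha := congrFun hf 0
      have hb' := congrFun hf 1
      simp only [Fin.sum_univ_three, Pi.add_apply, Pi.smul_apply, smul_eq_mul, Matrix.cons_val_zero,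
        Matrix.cons_val_one, Pi.zero_apply] at ha hb'
      have h0 : ∑ j, f j * (z.1 (e (os j)) (os l) - (e (os j) : ι → F) (os l)) = 0 := by
        rw [Fin.sum_univ_three, hab 0 _ (hos l), hab 1 _ (hos l), hab 2 _ (hos l)]
        linear_combination (u (os l)) * ha + (v (os l)) * hb'
      rw [Finset.sum_eq_single l (fun j _ hj => by rw [hoff j l hj, mul_zero])
        (fun h => absurd (Finset.mem_univ l) h)] at h0
      exact (mul_eq_zero.1 h0).resolve_right fun h => hmv _ (hmoved _ h)
    have := hli.fintype_card_le_finrank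
    simp at this
  -- one vector of the plane is fixed, an orthogonal one negated
  obtain ⟨q, hqP, hq0, hq⟩ : ∃ q, InP u v q ∧ q ≠ 0 ∧ z.1 q = q := by
    rcases not_and_or.1 h1' with h | h
    · obtain ⟨α, β, h'⟩ := hzP u huP
      refine ⟨u + z.1 u, ⟨1 + α, β, by rw [h']; module⟩, fun h0 => h (eq_neg_of_add_eq_zero_right h0), ?_⟩
      rw [map_add, hzinv, add_comm]
    · obtain ⟨α, β, h'⟩ := hzP v hvP
      refine ⟨v + z.1 v, ⟨α, 1 + β, by rw [h']; module⟩, fun h0 => h (eq_neg_of_add_eq_zero_right h0), ?_⟩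
      rw [map_add, hzinv, add_comm]
  obtain ⟨p, hpP, hp0, hp⟩ : ∃ p, InP u v p ∧ p ≠ 0 ∧ z.1 p = -p := by
    rcases not_and_or.1 h1 with h | h
    · obtain ⟨α, β, h'⟩ := hzP u huP
      refine ⟨u - z.1 u, ⟨1 - α, -β, by rw [h']; module⟩, fun h0 => h (sub_eq_zero.1 h0).symm, ?_⟩
      rw [map_sub, hzinv, neg_sub]
    · obtain ⟨α, β, h'⟩ := hzP v hvP
      refine ⟨v - z.1 v, ⟨-α, 1 - β, by rw [h']; module⟩, fun h0 => h (sub_eq_zero.1 h0).symm, ?_⟩
      rw [map_sub, hzinv, neg_sub]
  have hpq : p ⬝ᵥ q = 0 := by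
    have := dot_oG z h2 p q
    rw [hp, hq, neg_dotProduct] at this
    exact (mul_eq_zero.1 (by linear_combination -this : 2 * (p ⬝ᵥ q) = 0)).resolve_left h2
  obtain ⟨α, β, hpe⟩ := hpP
  obtain ⟨γ, δ, hqe⟩ := hqP
  have hD : α * δ - β * γ ≠ 0 := fun hD0 => by
    have e1 : δ • p - β • q = 0 := by
      rw [hpe, hqe]
      match_scalars
      · linear_combination hD0
      · ring
    have e2 := congrArg (fun x => z.1 x) e1
    simp only [map_sub, map_smul, hp, hq, map_zero] at e2
    have e3 : ((2 : F) * δ) • p = 0 := by linear_combination (norm := (match_scalars <;> ring)) e1 - e2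
    have hδ : δ = 0 := (mul_eq_zero.1 ((smul_eq_zero.1 e3).resolve_right hp0)).resolve_left h2
    have hβ : β = 0 := by
      rw [hδ, zero_smul, zero_sub, neg_eq_zero] at e1
      exact (smul_eq_zero.1 e1).resolve_right hq0
    rw [hδ, zero_smul, add_zero] at hqe
    rw [hβ, zero_smul, add_zero] at hpe
    have e4 : α • q = γ • p := by rw [hqe, hpe]; module
    have e5 := congrArg (fun x => z.1 x) e4
    simp only [map_smul, hp, hq] at e5
    have e6 : ((2 : F) * γ) • p = 0 := by linear_combination (norm := (match_scalars <;> ring)) e5 - e4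
    have hγ := (mul_eq_zero.1 ((smul_eq_zero.1 e6).resolve_right hp0)).resolve_left h2
    rw [hγ, zero_smul] at hqe
    exact hq0 hqe
  have hbasis : ∀ x, InP u v x → ∃ l m : F, x = l • p + m • q := by
    rintro x ⟨x1, x2, rfl⟩
    refine ⟨(x1 * δ - x2 * γ) / (α * δ - β * γ), (x2 * α - x1 * β) / (α * δ - β * γ), ?_⟩
    obtain ⟨D, hDe⟩ : ∃ D, α * δ - β * γ = D := ⟨_, rfl⟩
    rw [hDe] at hD ⊢
    rw [hpe, hqe]
    match_scalars <;> field_simp <;> rw [← hDe] <;> ring
  have hpp : p ⬝ᵥ p ≠ 0 := fun h0 => by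
    have hperp : ∀ x, InP u v x → p ⬝ᵥ x = 0 := fun x hx => by
      obtain ⟨l, m, rfl⟩ := hbasis x hx
      simp [dotProduct_add, h0, hpq]
    have e1 := hperp u huP
    have e2 := hperp v hvP
    simp only [hpe, add_dotProduct, smul_dotProduct, smul_eq_mul, c.uv, dotProduct_comm v u, mul_zero, add_zero,
      zero_add] at e1 e2
    rw [(mul_eq_zero.1 e1).resolve_right c.uu, (mul_eq_zero.1 e2).resolve_right c.vv, zero_smul, zero_smul,
      zero_add] at hpe
    exact hp0 hpe
  right
  obtain ⟨T2, hT2, hT2c⟩ : ∃ T2 : Finset ι, supp p ⊆ S ∪ T2 ∧ T2.card ≤ 2 := by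
    -- the negated vector has small support
    have hline : ∀ o, o ∉ S → ∃ l, ∀ i ∉ S, z.1 (e o) i - (e o : ι → F) i = l * p i := fun o ho => by
      obtain ⟨x1, x2, hab⟩ := hw o ho
      obtain ⟨l, m, hlm⟩ := hbasis (x1 • u + x2 • v) ⟨x1, x2, rfl⟩
      refine ⟨l, fun i hi => ?_⟩
      have hi' : ∀ j, j ∉ S → z.1 (e o) j - (e o : ι → F) j = l * p j + m * q j := fun j hj => by
        have := congrFun hlm j
        simp only [Pi.add_apply, Pi.smul_apply, smul_eq_mul] at this
        rw [hab j hj, this]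
      obtain ⟨j, rfl⟩ : ∃ j, σ j = i := ⟨σ i, hσσ i⟩
      have hj : j ∉ S := fun h => hi ((hSσ j).2 h)
      have e1 := hwneg o (σ j)
      rw [happ, hi' j hj, hi' _ hi] at e1
      have hp' := happ p j; rw [hp, Pi.neg_apply] at hp'
      have hq' := happ q j; rw [hq] at hq'
      rw [hi' _ hi]
      have : m * q (σ j) = 0 :=
        (mul_eq_zero.1 (by linear_combination e1 + l * hp' + m * hq' : 2 * (m * q (σ j)) = 0)).resolve_left h2
      rw [this, add_zero]
    have hfixed : ∀ o, σ o = o ∧ cc o = 1 → p o = 0 := fun o ⟨ho, hc⟩ => by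
      have := happ p o
      rw [hp, Pi.neg_apply, ho, hc, one_mul] at this
      exact (mul_eq_zero.1 (by linear_combination -this : 2 * p o = 0)).resolve_left h2
    by_cases hout : ∀ o, o ∉ S → p o = 0
    · refine ⟨∅, fun l hl => ?_, by simp⟩
      rw [Finset.union_empty]
      by_contra h
      exact mem_supp.1 hl (hout l h)
    push Not at hout
    obtain ⟨o, hoS, hpo⟩ := hout
    obtain ⟨l, hl⟩ := hline o hoS
    have hne : z.1 (e o) o - (e o : ι → F) o ≠ 0 := fun h => hpo (hfixed o (hmoved o h))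
    rw [hl o hoS] at hne
    refine ⟨{o, σ o}, fun j hj => ?_, Finset.card_le_two⟩
    by_contra h
    simp only [Finset.mem_union, Finset.mem_insert, Finset.mem_singleton, not_or] at h
    have := hl j h.1
    rw [hσ] at this
    simp [h.2.1, h.2.2] at this
    exact mem_supp.1 hj (this.resolve_left fun h0 => hne (by rw [h0, zero_mul]))
  have hsmall : (supp p).card ≤ 6 := (Finset.card_le_card hT2).trans ((Finset.card_union_le _ _).trans (by omega))
  have hdiff : (supp p \ S).card ≤ 2 := (Finset.card_le_card fun j hj =>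
    (Finset.mem_union.1 (hT2 (Finset.mem_sdiff.1 hj).1)).resolve_left (Finset.mem_sdiff.1 hj).2).trans hT2c
  refine ⟨p, ⟨α, β, hpe⟩, hp0, ⟨hsmall, hdiff⟩, fun i hi hpi hothers => ?_⟩
  · -- the coordinate column
    have hσi : σ i = i := by
      by_contra hne
      have := happ p i
      rw [hp, Pi.neg_apply, hothers (σ i) ((hSσ i).2 hi) hne, neg_zero] at this
      exact mul_ne_zero (hcne i) hpi this.symm
    have hci : cc i = -1 := by
      have := happ p i
      rw [hp, Pi.neg_apply, hσi] at this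
      exact mul_right_cancel₀ hpi (this.symm.trans (by ring))
    have hqi : q i = 0 := by
      have := happ q i
      rw [hq, hσi, hci] at this
      exact (mul_eq_zero.1 (by linear_combination this : 2 * q i = 0)).resolve_left h2
    have hyx : y.1 (e i) = e i - (2 * p i / (p ⬝ᵥ p)) • p := by
      set x0 : ι → F := e i - (p i / (p ⬝ᵥ p)) • p with hx0
      have hperp : ∀ x, InP u v x → x0 ⬝ᵥ x = 0 := fun x hx => by
        obtain ⟨l, m, rfl⟩ := hbasis x hx
        simp [hx0, sub_dotProduct, dotProduct_add, hpq, hqi]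
        field_simp
        simp
      have hfix : y.1 x0 = x0 := by
        rw [hyapp, hperp u huP, hperp v hvP]
        simp
      have e1 : e i = x0 + (p i / (p ⬝ᵥ p)) • p := by rw [hx0]; abel
      rw [e1, map_add, hfix, map_smul, hyneg _ ⟨α, β, hpe⟩, hx0]
      module
    rw [hydef]
    refine mono_of_row c.ov hyH i (insert i (supp p))
      (by
        rw [Finset.insert_eq_of_mem (mem_supp.2 hpi)]
        have h3 := Finset.card_le_card (show supp p ⊆ insert i (supp p \ S) from fun l hl => by
          by_cases hlS : l ∈ S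
          · by_contra hli
            exact mem_supp.1 hl (hothers l hlS fun h => hli (by rw [h]; exact Finset.mem_insert_self i _))
          · exact Finset.mem_insert_of_mem (Finset.mem_sdiff.2 ⟨hl, hlS⟩))
        have := Finset.card_insert_le i (supp p \ S)
        have := c.seven
        omega) fun j hj => ?_
    rw [hyi, hyx]
    simp only [Finset.mem_insert, not_or, mem_supp, not_not] at hj
    simp [hj.1, hj.2]

end Cfsg.Agent.ClassicalMax.OrthMono
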