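import Cfsg.Agent.ClassicalMax.OrthMono.Rot

/-!
Characteristic at least eleven: a member outside the roots gives a coordinate triple on which all units are members.
-/

set_option autoImplicit false
set_option linter.unusedSectionVars false
set_option linter.style.haveILetI false

namespace Cfsg.Agent.ClassicalMax.OrthMono

open Module QuadraticMap Cfsg.Agent.Classical Cfsg.Agent.Classical.Quad Matrix

variable {F ι : Type*} [Field F] [Fintype ι] [DecidableEq ι] [Finite F]

/-- some coordinate triple has all units and a root group -/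
def Abk (H : Subgroup (oG (sq F ι))) : Prop :=
  ∃ a b k, a ≠ b ∧ b ≠ k ∧ a ≠ k ∧ Full H (U3 a b (e k))

theorem mem_coord {a b k : ι} (hab : a ≠ b) (hbk : b ≠ k) (hak : a ≠ k) {z : ι → F}
    (hz : ∀ i, i ≠ a → i ≠ b → i ≠ k → z i = 0) : z ∈ U3 a b (e k) := by
  obtain ⟨u1, u2, u3⟩ := U3_mem a b (e (F := F) k)
  have : z = z a • e a + z b • e b + z k • e k := by
    funext i
    simp only [Pi.add_apply, Pi.smul_apply, smul_eq_mul, e_apply]
    rcases eq_or_ne i a with rfl | hia
    · simp [hab, hak]
    rcases eq_or_ne i b with rfl | hib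
    · simp [hia, hbk]
    rcases eq_or_ne i k with rfl | hik
    · simp [hia, hib]
    · simp [hia, hib, hik, hz i hia hib hik]
  rw [this]
  exact add_mem (add_mem (Submodule.smul_mem _ _ u1) (Submodule.smul_mem _ _ u2)) (Submodule.smul_mem _ _ u3)

theorem coord_of_mem {a b k : ι} {z : ι → F} (hz : z ∈ U3 a b (e k)) (i : ι) (hia : i ≠ a) (hib : i ≠ b)
    (hik : i ≠ k) : z i = 0 := by
  obtain ⟨c, rfl⟩ := (Submodule.mem_span_range_iff_exists_fun F).1 hz
  simp [Fin.sum_univ_three, hia, hib, hik]

theorem U3_eq_coord {a b k : ι} {u : ι → F} (hab : a ≠ b) (hbk : b ≠ k) (hak : a ≠ k) (hk : u k ≠ 0)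
    (hu : ∀ i, i ≠ a → i ≠ b → i ≠ k → u i = 0) : U3 a b u = U3 a b (e k) := by
  obtain ⟨u1, u2, u3⟩ := U3_mem a b u
  obtain ⟨v1, v2, v3⟩ := U3_mem a b (e (F := F) k)
  refine le_antisymm ?_ ?_
  · rw [U3, Submodule.span_le]
    rintro _ ⟨i, rfl⟩
    fin_cases i
    exacts [v1, v2, mem_coord hab hbk hak hu]
  · rw [U3, Submodule.span_le]
    rintro _ ⟨i, rfl⟩
    fin_cases i
    · exact u1
    · exact u2
    · have : (e k : ι → F) = (u k)⁻¹ • (u - u a • e a - u b • e b) := by
        funext i
        simp only [Pi.sub_apply, Pi.smul_apply, smul_eq_mul, e_apply]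
        rcases eq_or_ne i a with rfl | hia
        · simp [hab, hak]
        rcases eq_or_ne i b with rfl | hib
        · simp [hia, hbk]
        rcases eq_or_ne i k with rfl | hik
        · simp [hia, hib, hk]
        · simp [hia, hib, hik, hu i hia hib hik]
      show (e k : ι → F) ∈ _
      rw [this]
      exact Submodule.smul_mem _ _ (sub_mem (sub_mem u3 (Submodule.smul_mem _ _ u1)) (Submodule.smul_mem _ _ u2))

variable {H : Subgroup (oG (sq F ι))} {w : ι → F}

/-- a reflection between two members, in coordinates -/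
theorem T.refl_apply (hH : Over H) {v : ι → F} (hv : T H v) (hw : T H w) :
    T H (fun i => w i - 2 * (w ⬝ᵥ v) * v i) := by
  convert hv.refl hH hw using 1
  rw [R_apply hH.two hv.1]
  rfl

/-- two coordinates with the same square -/
def Twin (w : ι → F) : Prop := ∃ c d, c ≠ d ∧ w c * w c = w d * w d

open scoped _root_.Classical in
/-- vectors on few coordinates have two vanishing ones -/
theorem Twin.of_small (hH : Over H) (hs : (supp w).card ≤ 3) : Twin w := by
  obtain ⟨c, hc⟩ := hH.fresh (supp w) (by omega)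
  obtain ⟨d, hd⟩ := hH.fresh (insert c (supp w)) ((Finset.card_insert_le _ _).trans (by omega))
  simp only [Finset.mem_insert, not_or, supp, Finset.mem_filter, Finset.mem_univ, true_and, not_not] at hc hd
  exact ⟨c, d, Ne.symm hd.1, by rw [hc, hd.2]⟩

/-- members with the same squares -/
theorem T.of_squares (hH : Over H) {u : ι → F} (hw : T H w) (h : ∀ i, u i * u i = w i * w i) : T H u := by
  classical
  convert hw.flips hH (Finset.univ.filter fun i => u i ≠ w i) using 1
  funext i
  simp only [Finset.mem_filter, Finset.mem_univ, true_and]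
  split_ifs with hi
  · exact (mul_self_eq_mul_self_iff.1 (h i)).resolve_left hi
  · exact not_not.1 hi

open scoped _root_.Classical in
/-- moving one coordinate to a free one and reflecting -/
theorem shift (hH : Over H) (hw : T H w) {a k : ι} (hak : a ≠ k) (hk : w k = 0) (hpair : Twin w) :
    T H (fun i => if i = a then w a else if i = k then -2 * (1 - w a * w a) * w a
      else (1 - 2 * (1 - w a * w a)) * w i) := by
  by_cases ha0 : w a = 0
  · convert hw.neg using 1
    funext i
    rw [Pi.neg_apply, ha0]
    split_ifs with h1 h2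
    · rw [h1, ha0, neg_zero]
    · rw [h2, hk]; ring
    · ring
  obtain ⟨c, d, hcd, he⟩ := hpair
  have hp : T H (fun i => if i = a then 0 else if i = k then w a else w i) := by
    refine T.of_squares hH (hw.perm hH hak hcd) fun i => ?_
    have hsq : ∀ j, w (Equiv.swap c d j) * w (Equiv.swap c d j) = w j * w j := fun j => by
      rw [Equiv.swap_apply_def]
      split_ifs with h1 h2
      · rw [h1, he]
      · rw [h2, he]
      · rfl
    rw [hsq, Equiv.swap_apply_def]
    split_ifs <;> simp_all
  have hdot : (w ⬝ᵥ fun i => if i = a then 0 else if i = k then w a else w i) = 1 - w a * w a := by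
    rw [← hw.1]
    simp only [dotProduct]
    rw [← Finset.sum_erase_add _ _ (Finset.mem_univ a), ← Finset.sum_erase_add Finset.univ (fun i => w i * w i)
      (Finset.mem_univ a), if_pos rfl, mul_zero, add_zero, add_sub_cancel_right]
    refine Finset.sum_congr rfl fun i hi => ?_
    rw [if_neg (Finset.ne_of_mem_erase hi)]
    split_ifs with h <;> simp_all
  have := T.refl_apply hH hp hw
  rw [hdot] at this
  convert this using 1
  funext i
  split_ifs with h1 h2
  · rw [h1, mul_zero, sub_zero]
  · rw [h2, hk]; ring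
  · ring

theorem sum_two {a b : ι} (hab : a ≠ b) (hs : ∀ i, i ≠ a → i ≠ b → w i = 0) :
    w ⬝ᵥ w = w a * w a + w b * w b := by
  rw [dotProduct, ← Finset.sum_subset (Finset.subset_univ {a, b}) (fun i _ hi => by
    simp only [Finset.mem_insert, Finset.mem_singleton, not_or] at hi
    rw [hs i hi.1 hi.2, zero_mul]), Finset.sum_pair hab]

/-- the square of the first coordinate of a two-coordinate member is exceptional, or there is a triple -/
theorem c4_or_abk (hH : Over H) (hw : T H w) {a b : ι} (hab : a ≠ b) (ha : w a ≠ 0) (hb : w b ≠ 0)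
    (hs : ∀ i, i ≠ a → i ≠ b → w i = 0) (hne : 2 * (w a * w a) ≠ 1) : C4 (w a * w a) ∨ Abk H := by
  classical
  obtain ⟨k, hk⟩ := hH.fresh {a, b} (le_trans Finset.card_le_two (by norm_num))
  simp only [Finset.mem_insert, Finset.mem_singleton, not_or] at hk
  have hsum := hw.1
  rw [sum_two hab hs] at hsum
  have hu := shift hH hw (Ne.symm hk.1) (hs k hk.1 hk.2) (Twin.of_small hH (le_trans (Finset.card_le_card (t := {a, b})
    fun i hi => by
      simp only [supp, Finset.mem_filter] at hi
      by_contra h
      simp only [Finset.mem_insert, Finset.mem_singleton, not_or] at h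
      exact hi.2 (hs i h.1 h.2)) (le_trans Finset.card_le_two (by norm_num))))
  set u : ι → F := fun i => if i = a then w a else if i = k then -2 * (1 - w a * w a) * w a
    else (1 - 2 * (1 - w a * w a)) * w i with hudef
  have hua : u a = w a := if_pos rfl
  have hub : u b = (1 - 2 * (1 - w a * w a)) * w b := by simp [hudef, Ne.symm hab, Ne.symm hk.2]
  have huk : u k = -2 * (1 - w a * w a) * w a := by simp [hudef, hk.1]
  have hz : ∀ i, i ≠ a → i ≠ b → i ≠ k → u i = 0 := fun i hia hib hik => by
    simp [hudef, hia, hik, hs i hia hib]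
  have hB : (1 - w a * w a) = w b * w b := by linear_combination -hsum
  have hub0 : u b ≠ 0 := by
    rw [hub]; exact mul_ne_zero (fun e' => hne (by linear_combination e')) hb
  have huk0 : u k ≠ 0 := by
    rw [huk, hB]
    exact mul_ne_zero (mul_ne_zero (neg_ne_zero.2 hH.two) (mul_ne_zero hb hb)) ha
  have c : Cfg H a b u := ⟨hH, hu, hab, by rwa [hua], hub0, fun e' => huk0 (by
    have h3 := hu.1
    rw [dotProduct, ← Finset.sum_subset (Finset.subset_univ {a, b, k}) (fun i _ hi => by
      simp only [Finset.mem_insert, Finset.mem_singleton, not_or] at hi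
      rw [hz i hi.1 hi.2.1 hi.2.2, zero_mul]), Finset.sum_insert (by simp [hab, Ne.symm hk.1]),
      Finset.sum_pair (Ne.symm hk.2)] at h3
    exact mul_self_eq_zero.1 (by linear_combination h3 + e'))⟩
  rcases rot c with h | h
  · exact Or.inl (hua ▸ h)
  · rw [U3_eq_coord hab (Ne.symm hk.2) (Ne.symm hk.1) huk0 hz] at h
    exact Or.inr ⟨a, b, k, hab, Ne.symm hk.2, Ne.symm hk.1, h⟩

/-- a member on two coordinates which is no root gives a triple -/
theorem abk_of_two (hH : Over H) (hw : T H w) {a b : ι} (hab : a ≠ b) (ha : w a ≠ 0) (hb : w b ≠ 0)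
    (hs : ∀ i, i ≠ a → i ≠ b → w i = 0) (hne : 2 * (w a * w a) ≠ 1) : Abk H := by
  have h2 := hH.two
  have hsum := hw.1
  rw [sum_two hab hs] at hsum
  have hB : w b * w b = 1 - w a * w a := by linear_combination hsum
  have hne' : 2 * (w b * w b) ≠ 1 := fun h => hne (by linear_combination 2 * hsum - h)
  rcases c4_or_abk hH hw hab ha hb hs hne with hA | h
  swap
  · exact h
  rcases c4_or_abk hH hw (Ne.symm hab) hb ha (fun i h1 h2 => hs i h2 h1) hne' with hB' | h
  swap
  · exact h
  exfalso
  rw [hB] at hB'
  rcases hA with hA | hA | hA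
  · rcases hB' with h | h | h
    · exact h2 (by linear_combination h + hA)
    · exact one_ne_zero (α := F) (by linear_combination 2 * h + hA)
    · exact one_ne_zero (α := F) (by
        linear_combination (norm := ring_nf) h - (4 * (w a * w a) - 4) * hA)
  · exact hne hA
  · rcases hB' with h | h | h
    · exact one_ne_zero (α := F) (by
        linear_combination (norm := ring_nf) hA + (4 * (w a * w a)) * h)
    · exact hne' (by rw [hB]; exact h)
    · exact hne (mul_left_cancel₀ (mul_ne_zero h2 h2) (by linear_combination hA - h))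

/-- the small integers which must not vanish -/
structure Big (F : Type*) [Field F] : Prop where
  three : (3 : F) ≠ 0
  five : (5 : F) ≠ 0
  seven : (7 : F) ≠ 0

/-- a member with at least three coordinates, one of them not exceptional, gives a triple -/
theorem abk_of_not_c4 (hH : Over H) (hF : Big F) (hw : T H w) {a b c : ι} (hab : a ≠ b) (hac : a ≠ c) (hbc : b ≠ c)
    (ha : w a ≠ 0) (hb : w b ≠ 0) (hc : w c ≠ 0) (hA : ¬ C4 (w a * w a)) : Abk H := by
  classical
  have h2 := hH.two
  by_cases hC : 1 - w a * w a - w b * w b = 0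
  · have hrest : ∑ i ∈ Finset.univ \ {a, b}, w i * w i = 0 := by
      have h := hw.1
      rw [dotProduct, ← Finset.sum_sdiff (Finset.subset_univ {a, b}), Finset.sum_pair hab] at h
      linear_combination h + hC
    have hu := hw.split hH _ hrest 0
    refine abk_of_two hH hu hab ?_ ?_ (fun i hia hib => by simp [hia, hib]) ?_
    · simpa using ha
    · simpa using hb
    · simpa using fun h => hA (Or.inr (Or.inl h))
  · rcases rot (⟨hH, hw, hab, ha, hb, hC⟩ : Cfg H a b w) with h | h
    · exact absurd h hA
    · obtain ⟨u1, u2, -⟩ := U3_mem a b w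
      have h4 : (4 : F) ≠ 0 := by
        rw [show (4 : F) = 2 * 2 by norm_num]; exact mul_ne_zero h2 h2
      have := hF.five
      have hz := h.1 ((3 / 5 : F) • e a + (4 / 5 : F) • e b)
        (add_mem (Submodule.smul_mem _ _ u1) (Submodule.smul_mem _ _ u2)) (by
          simp [dotProduct_add, hab, Ne.symm hab]
          field_simp
          ring)
      refine abk_of_two hH hz hab ?_ ?_ (fun i hia hib => by simp [hia, hib]) ?_
      · simp [hab, hF.three, hF.five]
      · simp [Ne.symm hab, h4, hF.five]
      · simp [hab]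
        field_simp
        intro h
        exact hF.seven (by linear_combination -h)

open Polynomial in
/-- among five square multiples one is not exceptional -/
theorem exists_scale (h2 : (2 : F) ≠ 0) (hF : Big F) {x : F} (hx : x ≠ 0) :
    ∃ l : F, l ≠ 0 ∧ ¬ C4 (l * l * x) := by
  classical
  have h3 := hF.three
  have h5 := hF.five
  have h7 := hF.seven
  have h4 : (2 : F) * 2 ≠ 0 := mul_ne_zero h2 h2
  have h6 : (2 : F) * 3 ≠ 0 := mul_ne_zero h2 h3
  have h8 : (2 : F) * 2 * 2 ≠ 0 := mul_ne_zero h4 h2
  have h9 : (3 : F) * 3 ≠ 0 := mul_ne_zero h3 h3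
  norm_num at h4 h6 h8 h9
  have hinj : Function.Injective (fun i : Fin 5 => ((i.1 : F) + 1) * ((i.1 : F) + 1) * x) := by
    intro i j hij
    have hij := mul_right_cancel₀ hx hij
    rcases mul_self_eq_mul_self_iff.1 hij with h | h
    · fin_cases i <;> fin_cases j <;> first | rfl | (exfalso; norm_num at h; grind)
    · fin_cases i <;> fin_cases j <;> first | rfl | (exfalso; norm_num at h; grind)
  by_contra! hc
  set P : F[X] := (C 4 * X - 1) * (C 2 * X - 1) * (C 16 * X ^ 2 - C 12 * X + 1)
  have hP : P ≠ 0 := fun e' => by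
    have := congrArg (Polynomial.eval (0 : F)) e'
    simp [P] at this
  have hdeg : P.natDegree ≤ 4 := by
    simp only [P]; compute_degree
  have hsub : (Finset.univ.image fun i : Fin 5 => ((i.1 : F) + 1) * ((i.1 : F) + 1) * x).val ⊆ P.roots := by
    intro y hy
    rw [Finset.mem_val, Finset.mem_image] at hy
    obtain ⟨i, -, rfl⟩ := hy
    rw [Polynomial.mem_roots hP, Polynomial.IsRoot.def]
    have hi : ((i.1 : F) + 1) ≠ 0 := by
      fin_cases i <;> norm_num <;> grind
    simp only [P, eval_mul, eval_sub, eval_add, eval_C, eval_X, eval_pow, eval_one]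
    rcases hc _ hi with h | h | h
    · linear_combination ((2 * ((↑i.1 + 1) * (↑i.1 + 1) * x) - 1) *
        (16 * ((↑i.1 + 1) * (↑i.1 + 1) * x) ^ 2 - 12 * ((↑i.1 + 1) * (↑i.1 + 1) * x) + 1)) * h
    · linear_combination ((4 * ((↑i.1 + 1) * (↑i.1 + 1) * x) - 1) *
        (16 * ((↑i.1 + 1) * (↑i.1 + 1) * x) ^ 2 - 12 * ((↑i.1 + 1) * (↑i.1 + 1) * x) + 1)) * h
    · linear_combination ((4 * ((↑i.1 + 1) * (↑i.1 + 1) * x) - 1) *
        (2 * ((↑i.1 + 1) * (↑i.1 + 1) * x) - 1)) * h
  have := Polynomial.card_le_degree_of_subset_roots hsub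
  rw [Finset.card_image_of_injective _ hinj, Finset.card_univ, Fintype.card_fin] at this
  omega

open scoped _root_.Classical in
/-- a proper part of square sum zero can be scaled out of the exceptional values -/
theorem abk_of_split (hH : Over H) (hF : Big F) (hw : T H w) (h3 : 3 ≤ (supp w).card) (S : Finset ι)
    (hS : ∑ i ∈ S, w i * w i = 0) {a : ι} (haS : a ∈ S) (ha : w a ≠ 0) : Abk H := by
  obtain ⟨l, hl0, hl⟩ := exists_scale hH.two hF (mul_ne_zero ha ha)
  have hu := hw.split hH S hS l
  have hne : ∀ i ∈ supp w, (if i ∈ S then l * w i else w i) ≠ 0 := fun i hi => by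
    simp only [supp, Finset.mem_filter] at hi
    split_ifs
    · exact mul_ne_zero hl0 hi.2
    · exact hi.2
  obtain ⟨b, hb, hba⟩ := Finset.exists_mem_ne (show 1 < (supp w).card by omega) a
  obtain ⟨c, hc⟩ : (((supp w).erase a).erase b).Nonempty := by
    rw [← Finset.card_pos]
    have := Finset.pred_card_le_card_erase (s := supp w) (a := a)
    have := Finset.pred_card_le_card_erase (s := (supp w).erase a) (a := b)
    omega
  simp only [Finset.mem_erase] at hc
  refine abk_of_not_c4 hH hF hu (Ne.symm hba) (Ne.symm hc.2.1) (Ne.symm hc.1) ?_ (hne b hb) (hne c hc.2.2) ?_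
  · rw [if_pos haS]; exact mul_ne_zero hl0 ha
  · rw [if_pos haS]; convert hl using 2; ring

/-- changing the sign of one coordinate and reflecting -/
theorem flip_scale (hH : Over H) (hw : T H w) (a : ι) :
    T H (fun i => if i = a then (3 - 4 * (w a * w a)) * w a else (4 * (w a * w a) - 1) * w i) := by
  have h := T.refl_apply hH (hw.flip hH a) hw
  have hd : w ⬝ᵥ Function.update w a (-w a) = 1 - 2 * (w a * w a) := by
    rw [← R_e_apply hH.two, R_apply hH.two (e_self a), dotProduct_sub, dotProduct_smul, hw.1, dot_e, smul_eq_mul]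
    ring
  rw [hd] at h
  convert h using 1
  funext i
  rw [Function.update_apply]
  split_ifs with hi
  · subst hi; ring
  · ring

/-- changing the signs of two coordinates and reflecting -/
theorem flips_scale (hH : Over H) (hw : T H w) {a b : ι} (hab : a ≠ b) :
    T H (fun i => if i = a ∨ i = b then (3 - 4 * (w a * w a + w b * w b)) * w i
      else (4 * (w a * w a + w b * w b) - 1) * w i) := by
  have h := T.refl_apply hH (hw.flips hH {a, b}) hw
  have hd : (w ⬝ᵥ fun i => if i ∈ ({a, b} : Finset ι) then -w i else w i) = 1 - 2 * (w a * w a + w b * w b) := by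
    rw [show (w ⬝ᵥ fun i => if i ∈ ({a, b} : Finset ι) then -w i else w i) =
      ∑ i, (w i * w i - if i ∈ ({a, b} : Finset ι) then 2 * (w i * w i) else 0) from Finset.sum_congr rfl fun i _ => by
        dsimp only; split_ifs <;> ring, Finset.sum_sub_distrib, ← Finset.sum_filter, Finset.filter_univ_mem, Finset.sum_pair hab,
      show ∑ i, w i * w i = w ⬝ᵥ w from rfl, hw.1]
    ring
  rw [hd] at h
  convert h using 1
  funext i
  simp only [Finset.mem_insert, Finset.mem_singleton]
  split_ifs with hi
  · ring
  · ring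

/-- four times the square of an exceptional value of the third kind, and twice it, are not exceptional -/
theorem gold_facts (h2 : (2 : F) ≠ 0) (hF : Big F) {x : F} (hx : 16 * x * x - 12 * x + 1 = 0) :
    x ≠ 0 ∧ 4 * x - 1 ≠ 0 ∧ 3 - 4 * x ≠ 0 ∧ 2 * x - 1 ≠ 0 ∧ ¬ C4 (4 * x * x) ∧ ¬ C4 (2 * x) := by
  have h5 := hF.five
  have h41 : 4 * x - 1 ≠ 0 := fun h => one_ne_zero (α := F) (by linear_combination (4 * x - 2) * h - hx)
  have h43 : 3 - 4 * x ≠ 0 := fun h => one_ne_zero (α := F) (by linear_combination hx + 4 * x * h)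
  have h21 : 2 * x - 1 ≠ 0 := fun h => one_ne_zero (α := F) (by linear_combination (8 * x - 2) * h - hx)
  have hx0 : x ≠ 0 := fun h => by rw [h] at hx; simp at hx
  refine ⟨hx0, h41, h43, h21, ?_, ?_⟩
  · intro h
    have e : 12 * x - 1 = 4 * (4 * x * x) := by linear_combination -hx
    rcases h with h | h | h
    · exact h5 (by linear_combination (12 * x - 7) * (e.trans h) - 9 * hx)
    · exact h41 ((mul_eq_zero.1 (by linear_combination e + 2 * h : (3 : F) * (4 * x - 1) = 0)).resolve_left hF.three)
    · have h12 : 12 * x - 1 = 0 := (mul_eq_zero.1 (by linear_combination h - (16 * x * x + 12 * x + 5) * hx :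
        ((2 : F) * 2) * (12 * x - 1) = 0)).resolve_left (mul_ne_zero h2 h2)
      exact mul_ne_zero (mul_ne_zero (mul_ne_zero (mul_ne_zero h2 h2) (mul_ne_zero h2 h2)) hx0) hx0
        (by linear_combination hx + h12)
  · intro h
    rcases h with h | h | h
    · exact one_ne_zero (α := F) (by linear_combination (8 * x - 5) * h - 4 * hx)
    · exact h41 (by linear_combination h)
    · have h8 : 8 * x - 1 = 0 := (mul_eq_zero.1 (by linear_combination h - 4 * hx :
        (3 : F) * (8 * x - 1) = 0)).resolve_left hF.three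
      exact one_ne_zero (α := F) (by linear_combination (8 * x - 5) * h8 - 4 * hx)

open scoped _root_.Classical in
theorem sum_supp (hw : T H w) : ∑ i ∈ supp w, w i * w i = 1 := by
  rw [← hw.1, dotProduct]
  refine Finset.sum_subset (Finset.subset_univ _) fun i _ hi => ?_
  simp only [supp, Finset.mem_filter, Finset.mem_univ, true_and, not_not] at hi
  rw [hi, zero_mul]


open scoped _root_.Classical in
theorem mem_supp {i : ι} : i ∈ supp w ↔ w i ≠ 0 := by simp [supp]

open scoped _root_.Classical in
theorem exists_two_others (h3 : 3 ≤ (supp w).card) (a : ι) :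
    ∃ b c, b ∈ supp w ∧ c ∈ supp w ∧ b ≠ a ∧ c ≠ a ∧ b ≠ c := by
  obtain ⟨b, hb, c, hc, hbc⟩ := Finset.one_lt_card.1 (show 1 < ((supp w).erase a).card by
    have := Finset.pred_card_le_card_erase (s := supp w) (a := a); omega)
  rw [Finset.mem_erase] at hb hc
  exact ⟨b, c, hb.2, hc.2, hb.1, hc.1, hbc⟩

open scoped _root_.Classical in
/-- a member on at least three coordinates gives a triple -/
theorem abk_of_three (hH : Over H) (hF : Big F) (hw : T H w) (h3 : 3 ≤ (supp w).card) : Abk H := by
  have h2 := hH.two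
  have h30 := hF.three
  have h50 := hF.five
  have h4 : (4 : F) ≠ 0 := by rw [show (4 : F) = 2 * 2 by norm_num]; exact mul_ne_zero h2 h2
  by_cases hall : ∃ a ∈ supp w, ¬ C4 (w a * w a)
  · obtain ⟨a, ha, hA⟩ := hall
    obtain ⟨b, c, hb, hc, hba, hca, hbc⟩ := exists_two_others h3 a
    exact abk_of_not_c4 hH hF hw (Ne.symm hba) (Ne.symm hca) hbc (mem_supp.1 ha) (mem_supp.1 hb) (mem_supp.1 hc) hA
  push Not at hall
  -- an exceptional value of the third kind
  by_cases hg : ∃ a ∈ supp w, 16 * (w a * w a) * (w a * w a) - 12 * (w a * w a) + 1 = 0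
  · obtain ⟨a, ha, hA⟩ := hg
    obtain ⟨hx0, h41, h43, h21, h4sq, h2x⟩ := gold_facts h2 hF hA
    have hu := flip_scale hH hw a
    set u : ι → F := fun i => if i = a then (3 - 4 * (w a * w a)) * w a else (4 * (w a * w a) - 1) * w i with hudef
    have hua : u a = (3 - 4 * (w a * w a)) * w a := if_pos rfl
    have hui : ∀ i, i ≠ a → u i = (4 * (w a * w a) - 1) * w i := fun i hi => if_neg hi
    have husq : ∀ i, i ≠ a → u i * u i = 4 * (w a * w a) * (w i * w i) := fun i hi => by
      rw [hui i hi]; linear_combination (w i * w i) * hA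
    have finish : ∀ b, b ∈ supp w → b ≠ a → ¬ C4 (u b * u b) → Abk H := fun b hb hba hB => by
      obtain ⟨c, d, hc, hd, hcb, hdb, hcd⟩ := exists_two_others h3 b
      have hne : ∀ i ∈ supp w, u i ≠ 0 := fun i hi => by
        rcases eq_or_ne i a with rfl | hia
        · rw [hua]; exact mul_ne_zero h43 (mem_supp.1 hi)
        · rw [hui i hia]; exact mul_ne_zero h41 (mem_supp.1 hi)
      exact abk_of_not_c4 hH hF hu (Ne.symm hcb) (Ne.symm hdb) hcd (hne b hb) (hne c hc) (hne d hd) hB
    by_cases hrep : ∃ b ∈ supp w, b ≠ a ∧ w b * w b = w a * w a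
    · obtain ⟨b, hb, hba, hB⟩ := hrep
      exact finish b hb hba (by rw [husq b hba, hB]; exact h4sq)
    push Not at hrep
    by_cases hhalf : ∃ b ∈ supp w, b ≠ a ∧ 2 * (w b * w b) = 1
    · obtain ⟨b, hb, hba, hB⟩ := hhalf
      refine finish b hb hba ?_
      rw [husq b hba]
      convert h2x using 2
      linear_combination (2 * (w a * w a)) * hB
    push Not at hhalf
    by_cases hqq : ∃ b ∈ supp w, ∃ c ∈ supp w, b ≠ a ∧ c ≠ a ∧ b ≠ c ∧ 4 * (w b * w b) = 1 ∧ 4 * (w c * w c) = 1
    · obtain ⟨b, hb, c, hc, hba, hca, hbc, hB, hC⟩ := hqq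
      have hv := flips_scale hH hw (Ne.symm hca)
      set v : ι → F := fun i => if i = a ∨ i = c then (3 - 4 * (w a * w a + w c * w c)) * w i
        else (4 * (w a * w a + w c * w c) - 1) * w i with hvdef
      have hvb : v b = (4 * (w a * w a + w c * w c) - 1) * w b := if_neg (by tauto)
      have e1 : 4 * (w a * w a + w c * w c) - 1 = 4 * (w a * w a) := by linear_combination hC
      have e2 : 3 - 4 * (w a * w a + w c * w c) = -2 * (2 * (w a * w a) - 1) := by linear_combination -hC
      have hva : v a ≠ 0 := by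
        rw [hvdef]; simp only [true_or, ↓reduceIte]; rw [e2]
        exact mul_ne_zero (mul_ne_zero (neg_ne_zero.2 h2) h21) (mem_supp.1 ha)
      have hvc : v c ≠ 0 := by
        rw [hvdef]; simp only [or_true, ↓reduceIte]; rw [e2]
        exact mul_ne_zero (mul_ne_zero (neg_ne_zero.2 h2) h21) (mem_supp.1 hc)
      refine abk_of_not_c4 hH hF hv hba hbc (Ne.symm hca) ?_ hva hvc ?_
      · rw [hvb, e1]; exact mul_ne_zero (mul_ne_zero h4 hx0) (mem_supp.1 hb)
      · rw [hvb, e1]
        convert h4sq using 2
        linear_combination (4 * (w a * w a) * (w a * w a)) * hB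
    push Not at hqq
    have hkind : ∀ i ∈ supp w, i ≠ a → 4 * (w i * w i) = 1 ∨ 4 * (w i * w i) = 3 - 4 * (w a * w a) := fun i hi hia => by
      rcases hall i hi with h | h | h
      · exact Or.inl h
      · exact absurd h (hhalf i hi hia)
      · right
        have hne : w i * w i - w a * w a ≠ 0 := sub_ne_zero.2 (hrep i hi hia)
        have := (mul_eq_zero.1 (by linear_combination h - hA :
          (w i * w i - w a * w a) * (4 * (4 * (w i * w i) + 4 * (w a * w a) - 3)) = 0)).resolve_left hne
        linear_combination (mul_eq_zero.1 this).resolve_left h4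
    by_cases hgg : ∃ b ∈ supp w, ∃ c ∈ supp w, b ≠ a ∧ c ≠ a ∧ b ≠ c ∧
        4 * (w b * w b) = 3 - 4 * (w a * w a) ∧ 4 * (w c * w c) = 3 - 4 * (w a * w a)
    · obtain ⟨b, hb, c, hc, hba, hca, hbc, hB, hC⟩ := hgg
      have hB' : 16 * (w b * w b) * (w b * w b) - 12 * (w b * w b) + 1 = 0 := by
        linear_combination hA + (4 * (w b * w b) - 4 * (w a * w a)) * hB
      obtain ⟨-, h41', h43', -, h4sq', -⟩ := gold_facts h2 hF hB'
      refine abk_of_not_c4 hH hF (flip_scale hH hw b) (Ne.symm hbc) hca hba ?_ ?_ ?_ ?_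
      · rw [if_neg (Ne.symm hbc)]; exact mul_ne_zero h41' (mem_supp.1 hc)
      · rw [if_pos rfl]; exact mul_ne_zero h43' (mem_supp.1 hb)
      · rw [if_neg (Ne.symm hba)]; exact mul_ne_zero h41' (mem_supp.1 ha)
      · rw [if_neg (Ne.symm hbc)]
        convert h4sq' using 2
        have e : w c * w c = w b * w b := mul_left_cancel₀ h4 (hC.trans hB.symm)
        linear_combination (w c * w c) * hB' + (4 * (w b * w b)) * e
    push Not at hgg
    obtain ⟨b, c, hb, hc, hba, hca, hbc⟩ := exists_two_others h3 a
    wlog hB : 4 * (w b * w b) = 1 generalizing b c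
    · refine this c b hc hb hca hba (Ne.symm hbc) ((hkind c hc hca).resolve_right fun hC => ?_)
      exact hgg b hb c hc hba hca hbc ((hkind b hb hba).resolve_left hB) hC
    have hC : 4 * (w c * w c) = 3 - 4 * (w a * w a) :=
      (hkind c hc hca).resolve_left fun hC => hqq b hb c hc hba hca hbc hB hC
    have hsup : supp w ⊆ {a, b, c} := fun i hi => by
      by_contra hn
      simp only [Finset.mem_insert, Finset.mem_singleton, not_or] at hn
      rcases hkind i hi hn.1 with h | h
      · exact hqq b hb i hi hba hn.1 (Ne.symm hn.2.1) hB h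
      · exact hgg c hc i hi hca hn.1 (Ne.symm hn.2.2) hC h
    obtain ⟨k, hk⟩ := hH.fresh {a, b, c} (le_trans Finset.card_le_three (by norm_num))
    simp only [Finset.mem_insert, Finset.mem_singleton, not_or] at hk
    have hwk : w k = 0 := by
      by_contra h
      have := hsup (mem_supp.2 h)
      simp [hk.1, hk.2.1, hk.2.2] at this
    have hv := shift hH hw (Ne.symm hk.2.1) hwk
      (Twin.of_small hH (le_trans (Finset.card_le_card hsup) Finset.card_le_three))
    set v : ι → F := fun i => if i = b then w b else if i = k then -2 * (1 - w b * w b) * w b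
      else (1 - 2 * (1 - w b * w b)) * w i with hvdef
    have e1 : ∀ i, i ≠ b → i ≠ k → 4 * (v i * v i) = w i * w i := fun i hib hik => by
      simp only [hvdef, hib, hik, ↓reduceIte]
      linear_combination (w i * w i * (4 * (w b * w b) - 3)) * hB
    have hvi : ∀ i ∈ supp w, v i ≠ 0 := fun i hi => by
      rcases eq_or_ne i b with rfl | hib
      · simpa [hvdef] using mem_supp.1 hi
      · intro h
        have := e1 i hib (fun h' => mem_supp.1 hi (h' ▸ hwk))
        rw [h, mul_zero, mul_zero] at this
        exact mem_supp.1 hi (mul_self_eq_zero.1 this.symm)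
    by_cases hCA : C4 (v a * v a)
    swap
    · exact abk_of_not_c4 hH hF hv (Ne.symm hba) (Ne.symm hca) hbc (hvi a ha) (hvi b hb) (hvi c hc) hCA
    by_cases hCC : C4 (v c * v c)
    swap
    · exact abk_of_not_c4 hH hF hv hca (Ne.symm hbc) (Ne.symm hba) (hvi c hc) (hvi a ha) (hvi b hb) hCC
    exfalso
    obtain ⟨hx0', -, -, -, -, -⟩ := gold_facts h2 hF hA
    have hC' : 16 * (w c * w c) * (w c * w c) - 12 * (w c * w c) + 1 = 0 := by
      linear_combination hA + (4 * (w c * w c) - 4 * (w a * w a)) * hC
    have key : ∀ y : F, 16 * y * y - 12 * y + 1 = 0 → ∀ z, 4 * z = y → C4 z → y = 2 ∨ 12 * y = 5 := fun y hy z hz h => by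
      rcases h with h | h | h
      · exact absurd (by linear_combination hy - (16 * y + 4) * (hz.symm.trans h)) h50
      · exact Or.inl (by linear_combination -hz + 2 * h)
      · right
        have e : y * y - 3 * y + 1 = 0 := by linear_combination h - (4 * z + y - 3) * hz
        refine sub_eq_zero.1 ((mul_eq_zero.1 ?_).resolve_left h30)
        linear_combination hy - 16 * e
    have hne : w c * w c ≠ w a * w a := hrep c hc hca
    rcases key _ hA _ (e1 a (Ne.symm hba) (fun h => hk.1 h.symm)) hCA with hy | hy <;>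
      rcases key _ hC' _ (e1 c (Ne.symm hbc) (fun h => hk.2.2 h.symm)) hCC with hz | hz
    · exact hne (hz.trans hy.symm)
    · rw [hy] at hA
      have h11 : (11 : F) = 0 := by linear_combination (-9 : F) * hC' + (12 * (w c * w c) - 4) * hz
      exact h30 (by linear_combination 4 * h11 - hA)
    · rw [hz] at hC'
      have h11 : (11 : F) = 0 := by linear_combination (-9 : F) * hA + (12 * (w a * w a) - 4) * hy
      exact h30 (by linear_combination 4 * h11 - hC')
    · exact hne (mul_left_cancel₀ (by rw [show (12 : F) = 4 * 3 by norm_num]; exact mul_ne_zero h4 h30)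
        (hz.trans hy.symm))
  push Not at hg
  -- only halves and quarters
  have hkind : ∀ i ∈ supp w, 4 * (w i * w i) = 1 ∨ 2 * (w i * w i) = 1 := fun i hi => by
    rcases hall i hi with h | h | h
    · exact Or.inl h
    · exact Or.inr h
    · exact absurd h (hg i hi)
  have hsum := sum_supp hw
  have rest : ∀ S ⊆ supp w, ∑ i ∈ S, w i * w i = 1 → ∀ c ∈ supp w, c ∉ S → Abk H := fun S hS hS1 c hc hcS => by
    refine abk_of_split hH hF hw h3 (supp w \ S) ?_ (Finset.mem_sdiff.2 ⟨hc, hcS⟩) (mem_supp.1 hc)
    rw [← Finset.sum_sdiff hS, hS1] at hsum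
    linear_combination hsum
  set Q := (supp w).filter fun i => 4 * (w i * w i) = 1 with hQ
  have hfour : ∀ c ∈ supp w, 4 ≤ (Q.erase c).card → Abk H := fun c hc h => by
    obtain ⟨S, hS, hS4⟩ := Finset.exists_subset_card_eq h
    have hSQ : S ⊆ Q := hS.trans (Finset.erase_subset _ _)
    refine rest S (hSQ.trans (Finset.filter_subset _ _)) ?_ c hc fun hcS => (Finset.mem_erase.1 (hS hcS)).1 rfl
    apply mul_left_cancel₀ h4
    rw [Finset.mul_sum, Finset.sum_congr rfl fun i hi => (Finset.mem_filter.1 (hSQ hi)).2, Finset.sum_const, hS4]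
    simp
  have quarters : ∀ S ⊆ Q, 4 * ∑ i ∈ S, w i * w i = (S.card : F) := fun S hS => by
    rw [Finset.mul_sum, Finset.sum_congr rfl fun i hi => (Finset.mem_filter.1 (hS hi)).2, Finset.sum_const]
    simp
  -- a quarter moved to a free coordinate splits the value of another quarter
  have by_shift : ∀ a ∈ Q, ∀ b ∈ Q, a ≠ b → (supp w).card ≤ 4 → Abk H := fun a ha b hb hab hcard => by
    rw [hQ, Finset.mem_filter] at ha hb
    obtain ⟨k, hk⟩ := hH.fresh (supp w) hcard
    have hka : a ≠ k := fun h => hk (h ▸ ha.1)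
    have hkb : b ≠ k := fun h => hk (h ▸ hb.1)
    rw [mem_supp, not_not] at hk
    have hv := shift hH hw hka hk ⟨a, b, hab, mul_left_cancel₀ h4 (ha.2.trans hb.2.symm)⟩
    refine abk_of_not_c4 hH hF hv (Ne.symm hab) hkb hka ?_ ?_ ?_ ?_
    · simp only [Ne.symm hab, hkb, ↓reduceIte]
      refine mul_ne_zero (fun e => ?_) (mem_supp.1 hb.1)
      exact one_ne_zero (α := F) (by linear_combination -2 * e + ha.2)
    · simpa using mem_supp.1 ha.1
    · simp only [Ne.symm hka, ↓reduceIte]
      refine mul_ne_zero (mul_ne_zero (neg_ne_zero.2 h2) fun e => ?_) (mem_supp.1 ha.1)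
      exact h30 (by linear_combination 4 * e + ha.2)
    · simp only [Ne.symm hab, hkb, ↓reduceIte]
      intro h
      have e : 16 * ((1 - 2 * (1 - w a * w a)) * w b * ((1 - 2 * (1 - w a * w a)) * w b)) = 1 := by
        linear_combination (4 * (w b * w b) * (4 * (w a * w a) - 3)) * ha.2 + hb.2
      generalize (1 - 2 * (1 - w a * w a)) * w b * ((1 - 2 * (1 - w a * w a)) * w b) = t at h e
      rcases h with h | h | h
      · exact h30 (by linear_combination e - 4 * h)
      · exact hF.seven (by linear_combination e - 8 * h)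
      · exact h50 (by linear_combination 16 * h - (16 * t - 11) * e)
  by_cases hh : ∃ a ∈ supp w, 2 * (w a * w a) = 1
  · obtain ⟨a, ha, hA⟩ := hh
    by_cases hh2 : ∃ b ∈ supp w, b ≠ a ∧ 2 * (w b * w b) = 1
    · obtain ⟨b, hb, hba, hB⟩ := hh2
      obtain ⟨c, d, hc, hd, hca, hda, hcd⟩ := exists_two_others h3 a
      have hS : ∑ i ∈ ({a, b} : Finset ι), w i * w i = 1 := by
        rw [Finset.sum_pair (Ne.symm hba)]
        exact mul_left_cancel₀ h2 (by linear_combination hA + hB)
      have hsub : ({a, b} : Finset ι) ⊆ supp w := by simp [Finset.insert_subset_iff, ha, hb]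
      rcases eq_or_ne c b with rfl | hcb
      · exact rest _ hsub hS d hd (by simp [hda, Ne.symm hcd])
      · exact rest _ hsub hS c hc (by simp [hca, hcb])
    push Not at hh2
    have hQa : Q = (supp w).erase a := by
      ext i
      simp only [hQ, Finset.mem_filter, Finset.mem_erase]
      refine ⟨fun hi => ⟨fun e => ?_, hi.1⟩, fun hi => ⟨hi.2, (hkind i hi.2).resolve_right (hh2 i hi.2 hi.1)⟩⟩
      subst e
      exact one_ne_zero (α := F) (by linear_combination hi.2 - 2 * hA)
    have hs : 4 * (w a * w a) + (Q.card : F) = 4 := by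
      rw [← quarters Q subset_rfl, hQa, ← mul_add, Finset.add_sum_erase _ (fun i => w i * w i) ha, hsum, mul_one]
    have hcard : (supp w).card = Q.card + 1 := by rw [hQa, Finset.card_erase_add_one ha]
    rcases Nat.lt_or_ge Q.card 4 with hlt | hge
    · interval_cases hq : Q.card
      · omega
      · omega
      · obtain ⟨x, hx, y, hy, hxy⟩ := Finset.one_lt_card.1 (show 1 < Q.card by omega)
        exact by_shift x hx y hy hxy (by omega)
      · exact absurd (by push_cast at hs; linear_combination hs - 2 * hA : (1 : F) = 0) one_ne_zero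
    · refine hfour a ha ?_
      rwa [Finset.erase_eq_of_notMem (by rw [hQa]; exact Finset.notMem_erase _ _)]
  push Not at hh
  have hQall : Q = supp w := Finset.filter_true_of_mem fun i hi => (hkind i hi).resolve_right (hh i hi)
  have hs : (Q.card : F) = 4 := by rw [← quarters Q subset_rfl, hQall, hsum, mul_one]
  rw [hQall] at hfour hs
  rcases Nat.lt_or_ge (supp w).card 5 with hlt | hge
  · interval_cases hq : (supp w).card
    · exact absurd (by push_cast at hs; linear_combination -hs : (1 : F) = 0) one_ne_zero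
    · obtain ⟨x, hx, y, hy, hxy⟩ := Finset.one_lt_card.1 (show 1 < Q.card by rw [hQall]; omega)
      exact by_shift x hx y hy hxy (by omega)
  · obtain ⟨c, hc⟩ := Finset.card_pos.1 (show 0 < (supp w).card by omega)
    exact hfour c hc (by rw [Finset.card_erase_of_mem hc]; omega)


end Cfsg.Agent.ClassicalMax.OrthMono
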