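import Cfsg.Agent.ClassicalMax.OrthMono.OddPlane

/-!
A proper overgroup of the monomial elements consists of monomial elements.
-/

set_option autoImplicit false
set_option linter.unusedSectionVars false
set_option linter.style.haveILetI false

namespace Cfsg.Agent.ClassicalMax.OrthMono

open Module QuadraticMap Cfsg.Agent.Classical Cfsg.Agent.Classical.Quad Matrix

variable {F ι : Type*} [Field F] [Fintype ι] [DecidableEq ι] [Finite F]
variable {H : Subgroup (oG (sq F ι))} {u v : ι → F}

open scoped _root_.Classical in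
/-- not every set of four coordinates splits into proportional pairs -/
theorem exists_unpaired (c : Pl2 H u v) (h10 : 10 ≤ Fintype.card ι) (hrow : ∀ i, u i ≠ 0 ∨ v i ≠ 0) :
    ∃ S : Finset ι, S.card = 4 ∧ ¬ ∀ a ∈ S, ∃ b ∈ S, b ≠ a ∧ Rel u v a b := by
  by_contra! hall
  obtain ⟨b, -⟩ := c.ov.fresh ∅ (by simp)
  have refl : ∀ i, Rel u v i i := fun i => ⟨1, one_ne_zero, (one_mul _).symm, (one_mul _).symm⟩
  have hb : ∀ i, Rel u v b i := by
    by_contra! h
    obtain ⟨k, hk⟩ := h
    have hbk : b ≠ k := fun h => hk (h ▸ refl b)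
    have two : ∀ d, Rel u v b d ∨ Rel u v k d := by
      intro d
      rcases eq_or_ne d b with rfl | hdb
      · exact Or.inl (refl d)
      rcases eq_or_ne d k with rfl | hdk
      · exact Or.inr (refl d)
      obtain ⟨m, hm⟩ := c.ov.fresh {b, k, d} (le_trans Finset.card_le_three (by norm_num))
      simp only [Finset.mem_insert, Finset.mem_singleton, not_or] at hm
      have hcard : ({b, k, d, m} : Finset ι).card = 4 := by
        rw [Finset.card_insert_of_notMem (by simp [hbk, Ne.symm hdb, Ne.symm hm.1]),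
          Finset.card_insert_of_notMem (by simp [Ne.symm hdk, Ne.symm hm.2.1]), Finset.card_pair (Ne.symm hm.2.2)]
      obtain ⟨x, hx, hxb, hbx⟩ := hall _ hcard b (by simp)
      obtain ⟨y, hy, hyk, hky⟩ := hall _ hcard k (by simp)
      simp only [Finset.mem_insert, Finset.mem_singleton] at hx hy
      rcases hx with rfl | rfl | rfl | rfl
      · exact absurd rfl hxb
      · exact absurd hbx hk
      · exact Or.inl hbx
      · rcases hy with rfl | rfl | rfl | rfl
        · exact absurd hky.symm hk
        · exact absurd rfl hyk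
        · exact Or.inr hky
        · exact absurd (hbx.trans hky.symm) hk
    -- one of the two classes has three members
    have big : ∀ p q, ¬ Rel u v p q → 3 ≤ (Finset.univ.filter fun i => Rel u v p i).card → False := by
      intro p q hpq h3
      obtain ⟨T', hT', hT3⟩ := Finset.exists_subset_card_eq h3
      have hq : q ∉ T' := fun h => hpq (Finset.mem_filter.1 (hT' h)).2
      obtain ⟨x, hx, hxq, hqx⟩ := hall (insert q T') (by rw [Finset.card_insert_of_notMem hq, hT3]) q (by simp)
      rcases Finset.mem_insert.1 hx with rfl | hx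
      · exact hxq rfl
      · exact hpq ((Finset.mem_filter.1 (hT' hx)).2.trans hqx.symm)
    have hcov : (Finset.univ : Finset ι) ⊆
        (Finset.univ.filter fun i => Rel u v b i) ∪ (Finset.univ.filter fun i => Rel u v k i) := fun i _ => by
      simpa using two i
    have h13 := (Finset.card_le_card hcov).trans (Finset.card_union_le _ _)
    rw [Finset.card_univ] at h13
    have := h10
    rcases Nat.lt_or_ge (Finset.univ.filter fun i => Rel u v b i).card 3 with h | h
    · exact big k b (fun h' => hk h'.symm) (by omega)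
    · exact big b k hk h
  have e1 : v b • u - u b • v = 0 := funext fun i => by
    obtain ⟨t, -, hu, hv⟩ := hb i
    simp only [Pi.sub_apply, Pi.smul_apply, smul_eq_mul, Pi.zero_apply, hu, hv]
    ring
  have e2 := congrArg (· ⬝ᵥ u) e1
  have e3 := congrArg (· ⬝ᵥ v) e1
  simp only [sub_dotProduct, smul_dotProduct, smul_eq_mul, dotProduct_comm v u, c.uv, mul_zero, sub_zero, zero_sub,
    zero_dotProduct, neg_eq_zero] at e2 e3
  rcases hrow b with h | h
  · exact h ((mul_eq_zero.1 e3).resolve_right c.vv)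
  · exact h ((mul_eq_zero.1 e2).resolve_right c.uu)

open scoped _root_.Classical in
/-- two vectors of the plane with small supports covering all coordinates -/
theorem split_false (c : Pl2 H u v) (h10 : 10 ≤ Fintype.card ι) (hrow : ∀ i, u i ≠ 0 ∨ v i ≠ 0) (hno : ¬ Mono (R u * R v)) {P P' : ι → F}
    (hP : InP u v P) (hP' : InP u v P') (hbasis : ∀ x, InP u v x → ∃ l m : F, x = l • P + m • P')
    (hcov : Finset.univ ⊆ supp P ∪ supp P') (h6 : (supp P).card = 6) (h6' : (supp P').card ≤ 6) : False := by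
  have hint : (supp P ∩ supp P').card ≤ 2 := by
    have h1 := Finset.card_union_add_card_inter (supp P) (supp P')
    have h2 := Finset.card_le_card hcov
    rw [Finset.card_univ] at h2
    have := h10
    omega
  have hA : 4 ≤ (supp P \ supp P').card := by
    have := Finset.card_sdiff_add_card_inter (supp P) (supp P')
    omega
  have hB : 4 ≤ (supp P' \ supp P).card := by
    have h1 := Finset.card_sdiff_add_card (supp P') (supp P)
    have h2 := Finset.card_le_card (hcov.trans (Finset.union_comm _ _).le)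
    rw [Finset.card_univ] at h2
    have := h10
    omega
  obtain ⟨A, hAs, hA3⟩ := Finset.exists_subset_card_eq (show 3 ≤ (supp P \ supp P').card by omega)
  obtain ⟨b, hb⟩ := Finset.card_pos.1 (show 0 < (supp P' \ supp P).card by omega)
  simp only [Finset.mem_sdiff, mem_supp, not_not] at hb
  have hbA : b ∉ A := fun h => mem_supp.1 (Finset.mem_sdiff.1 (hAs h)).1 hb.2
  have hAv : ∀ a ∈ A, P a ≠ 0 ∧ P' a = 0 := fun a ha => by
    simpa [mem_supp] using hAs ha
  rcases alt_of_four c h10 hrow (insert b A) (by rw [Finset.card_insert_of_notMem hbA, hA3]) with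
    hpairs | ⟨x, hx, hx0, ⟨hx6, hx2⟩, hmono⟩
  · obtain ⟨a, ha, hab, t, -, hu, hv⟩ := hpairs b (Finset.mem_insert_self b A)
    have haA : a ∈ A := (Finset.mem_insert.1 ha).resolve_left hab
    obtain ⟨s, s', e⟩ := hP
    apply (hAv a haA).1
    have := hb.2
    rw [e, Pi.add_apply, Pi.smul_apply, Pi.smul_apply, smul_eq_mul, smul_eq_mul] at this ⊢
    rw [hu, hv]
    linear_combination t * this
  obtain ⟨l, m, e⟩ := hbasis x hx
  rcases eq_or_ne m 0 with hm | hm
  · have hl : l ≠ 0 := fun h => hx0 (by rw [e, h, hm]; simp)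
    have hsub : supp P \ insert b A ⊆ supp x \ insert b A := fun i hi => by
      simp only [Finset.mem_sdiff, mem_supp] at hi ⊢
      exact ⟨by rw [e, hm]; simp [hl, hi.1], hi.2⟩
    have h1 := (Finset.card_le_card hsub).trans hx2
    have h2 : supp P \ insert b A = supp P \ A := by
      ext i
      simp only [Finset.mem_sdiff, Finset.mem_insert, not_or, mem_supp]
      exact ⟨fun h => ⟨h.1, h.2.2⟩, fun h => ⟨h.1, fun hib => h.1 (hib ▸ hb.2), h.2⟩⟩
    rw [h2, Finset.card_sdiff_of_subset fun a ha => mem_supp.2 (hAv a ha).1] at h1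
    omega
  rcases eq_or_ne l 0 with hl | hl
  · refine hno (hmono b (Finset.mem_insert_self b A) (by rw [e, hl]; simp [hm, hb.1]) fun a ha hab => ?_)
    rw [e, hl]
    simp [(hAv a ((Finset.mem_insert.1 ha).resolve_left hab)).2]
  · have hsub : (supp P \ supp P') ∪ (supp P' \ supp P) ⊆ supp x := fun i hi => by
      simp only [Finset.mem_union, Finset.mem_sdiff, mem_supp, not_not] at hi
      rw [mem_supp, e]
      rcases hi with ⟨h1, h2⟩ | ⟨h1, h2⟩ <;> simp [h1, h2, hl, hm]
    have h1 := Finset.card_le_card hsub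
    rw [Finset.card_union_of_disjoint disjoint_sdiff_sdiff] at h1
    omega

open scoped _root_.Classical in
/-- a product of two orthogonal reflections in the overgroup is monomial -/
theorem Pl2.mono (c : Pl2 H u v) (hdim : 10 ≤ Fintype.card ι ∨ Odd (Fintype.card ι)) : Mono (R u * R v) := by
  rcases hdim with h10 | hodd
  swap
  · exact c.mono_of_odd hodd
  by_contra hno
  have hrow : ∀ i, u i ≠ 0 ∨ v i ≠ 0 := fun i => by
    by_contra! h
    refine hno (mono_of_col c.ov c.mem (i := i) (j := i) (c := 1) ?_)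
    rw [c.y_apply, e_dot, e_dot, h.1, h.2]
    simp
  obtain ⟨S0, hS0, hun⟩ := exists_unpaired c h10 hrow
  obtain ⟨p, ⟨α, β, hp⟩, hp0, ⟨hp6, -⟩, -⟩ := (alt_of_four c h10 hrow S0 hS0).resolve_left hun
  obtain ⟨a, ha⟩ : ∃ a, p a ≠ 0 := by
    by_contra! h; exact hp0 (funext h)
  obtain ⟨b1, h1⟩ := c.ov.fresh' h10 (supp p) (by omega)
  obtain ⟨b2, h2⟩ := c.ov.fresh' h10 (insert b1 (supp p)) ((Finset.card_insert_le _ _).trans (by omega))
  obtain ⟨b3, h3⟩ := c.ov.fresh' h10 (insert b2 (insert b1 (supp p)))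
    ((Finset.card_insert_le _ _).trans (by have := Finset.card_insert_le b1 (supp p); omega))
  simp only [Finset.mem_insert, not_or, mem_supp, not_not] at h1 h2 h3
  have hne : a ≠ b1 ∧ a ≠ b2 ∧ a ≠ b3 :=
    ⟨fun h => ha (h ▸ h1), fun h => ha (h ▸ h2.2), fun h => ha (h ▸ h3.2.2)⟩
  have hcard : ({a, b1, b2, b3} : Finset ι).card = 4 := by
    rw [Finset.card_insert_of_notMem (by simp [hne.1, hne.2.1, hne.2.2]),
      Finset.card_insert_of_notMem (by simp [Ne.symm h2.1, Ne.symm h3.2.1]), Finset.card_pair (Ne.symm h3.1)]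
  have hzero : ∀ b ∈ ({a, b1, b2, b3} : Finset ι), b ≠ a → p b = 0 := fun b hb hba => by
    simp only [Finset.mem_insert, Finset.mem_singleton] at hb
    rcases hb with rfl | rfl | rfl | rfl
    exacts [absurd rfl hba, h1, h2.2, h3.2.2]
  rcases alt_of_four c h10 hrow _ hcard with hpairs | ⟨p', ⟨γ, δ, hp'⟩, hp'0, ⟨hp'6, -⟩, hmono⟩
  · obtain ⟨b, hb, hba, t, ht, hu, hv⟩ := hpairs a (by simp)
    have := hzero b hb hba
    rw [hp, Pi.add_apply, Pi.smul_apply, Pi.smul_apply, hu, hv, smul_eq_mul, smul_eq_mul] at this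
    apply ha
    rw [hp, Pi.add_apply, Pi.smul_apply, Pi.smul_apply, smul_eq_mul, smul_eq_mul]
    exact (mul_eq_zero.1 (by linear_combination this : t * (α * u a + β * v a) = 0)).resolve_left ht
  by_cases hD : α * δ - β * γ = 0
  swap
  · have hcov : (Finset.univ : Finset ι) ⊆ supp p ∪ supp p' := fun i _ => by
      by_contra hi
      simp only [Finset.mem_union, not_or, mem_supp, not_not] at hi
      rw [hp, hp', Pi.add_apply, Pi.smul_apply, Pi.smul_apply, Pi.add_apply, Pi.smul_apply, Pi.smul_apply] at hi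
      simp only [smul_eq_mul] at hi
      rcases hrow i with h | h
      · exact h ((mul_eq_zero.1 (by linear_combination δ * hi.1 - β * hi.2 :
          (α * δ - β * γ) * u i = 0)).resolve_left hD)
      · exact h ((mul_eq_zero.1 (by linear_combination α * hi.2 - γ * hi.1 :
          (α * δ - β * γ) * v i = 0)).resolve_left hD)
    have hbasis : ∀ x, InP u v x → ∃ l m : F, x = l • p + m • p' := by
      rintro x ⟨x1, x2, rfl⟩
      refine ⟨(x1 * δ - x2 * γ) / (α * δ - β * γ), (x2 * α - x1 * β) / (α * δ - β * γ), ?_⟩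
      obtain ⟨D, hDe⟩ : ∃ D, α * δ - β * γ = D := ⟨_, rfl⟩
      rw [hDe] at hD ⊢
      rw [hp, hp']
      match_scalars <;> field_simp <;> rw [← hDe] <;> ring
    have hsum : 10 ≤ (supp p).card + (supp p').card := by
      have h1 := (Finset.card_le_card hcov).trans (Finset.card_union_le _ _)
      rw [Finset.card_univ] at h1
      have := h10
      omega
    rcases Nat.lt_or_ge (supp p).card 6 with hlt | hge
    · rcases Nat.lt_or_ge (supp p').card 6 with hlt' | hge'
      · refine disjoint_false c (P := p) (P' := p') ⟨α, β, hp⟩ ⟨γ, δ, hp'⟩ hbasis (fun i => ?_) hp0 (by omega)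
        by_contra! hi
        have h1 := Finset.card_union_add_card_inter (supp p) (supp p')
        have h2 := Finset.card_le_card hcov
        have h3 := Finset.card_pos.2 ⟨i, Finset.mem_inter.2 ⟨mem_supp.2 hi.1, mem_supp.2 hi.2⟩⟩
        rw [Finset.card_univ] at h2
        have := h10
        omega
      refine split_false c h10 hrow hno (P := p') (P' := p) ⟨γ, δ, hp'⟩ ⟨α, β, hp⟩ (fun x hx => ?_)
        (by rwa [Finset.union_comm]) (by omega) hp6
      obtain ⟨l, m, e⟩ := hbasis x hx
      exact ⟨m, l, by rw [e, add_comm]⟩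
    · exact split_false c h10 hrow hno (P := p) (P' := p') ⟨α, β, hp⟩ ⟨γ, δ, hp'⟩ hbasis hcov (by omega) hp'6
  obtain ⟨k, hk⟩ : ∃ k : F, p' = k • p := by
    rcases eq_or_ne α 0 with h0 | h0
    · have hβ : β ≠ 0 := fun h => hp0 (by rw [hp, h0, h]; simp)
      have hγ : γ = 0 := (mul_eq_zero.1 (by rw [h0] at hD; linear_combination -hD : β * γ = 0)).resolve_left hβ
      exact ⟨δ / β, by rw [hp, hp', h0, hγ]; simp [smul_smul, hβ]⟩
    · refine ⟨γ / α, ?_⟩
      rw [hp, hp']
      match_scalars <;> field_simp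
      linear_combination hD
  have hk0 : k ≠ 0 := fun h => hp'0 (by rw [hk, h, zero_smul])
  refine hno (hmono a (by simp) (by rw [hk]; simp [hk0, ha]) fun b hb hba => ?_)
  rw [hk, Pi.smul_apply, hzero b hb hba, smul_zero]

open scoped _root_.Classical in
/-- the overgroup consists of monomial elements -/
theorem all_mono (hH : Over H) (h7 : 7 ≤ Fintype.card ι) (hdim : 10 ≤ Fintype.card ι ∨ Odd (Fintype.card ι))
    {h : oG (sq F ι)} (hh : h ∈ H) : Mono h := by
  have h2 := hH.two
  have key : ∀ x y : ι → F, R x * R y ∈ H → x ⬝ᵥ x ≠ 0 → y ⬝ᵥ y ≠ 0 → x ⬝ᵥ y = 0 →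
      Mono (R (h.1 x) * R (h.1 y)) := fun x y hm hx hy hxy => by
    refine Pl2.mono ⟨hH, h7, ?_, by rwa [dot_oG _ h2], by rwa [dot_oG _ h2], by rwa [dot_oG _ h2]⟩ hdim
    have e1 : R (h.1 x) * R (h.1 y) = h * (R x * R y) * h⁻¹ := by
      rw [← conj_R, ← conj_R]; group
    rw [e1]
    exact mul_mem (mul_mem hh hm) (inv_mem hh)
  obtain ⟨c, -, j, t, hcj⟩ := exists_coord h2 Finset.univ (by rw [Finset.card_univ]; have := hH.big; omega) h
    (fun c _ d _ hcd => key _ _ (hH.ee_mem c d) (by rw [e_self]; exact one_ne_zero) (by rw [e_self]; exact one_ne_zero)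
      (by rw [dot_e, e_apply, if_neg (Ne.symm hcd)]))
    (fun c _ d _ c' _ d' _ hcd hcd' hcc' hcd'' hdc' hdd' => by
      rw [← map_sub, ← map_sub]
      refine key _ _ (hH.pp_mem hcd hcd') (by rw [dot_sub_e hcd]; exact h2) (by rw [dot_sub_e hcd']; exact h2) ?_
      simp [dotProduct_sub, Ne.symm hcc', Ne.symm hdc', Ne.symm hcd'', Ne.symm hdd', hcc', hdc', hcd'', hdd'])
  exact mono_of_col hH hh hcj

end Cfsg.Agent.ClassicalMax.OrthMono
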