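import Cfsg.Agent.ClassicalMax.OrthMono.Involution

/-!
A product of two reflections in the overgroup, in odd dimension: it is compared with the diagonal involution negating
all coordinates but one.
-/

set_option autoImplicit false
set_option linter.unusedSectionVars false
set_option linter.style.haveILetI false

namespace Cfsg.Agent.ClassicalMax.OrthMono

open Module QuadraticMap Cfsg.Agent.Classical Cfsg.Agent.Classical.Quad Matrix

variable {F ι : Type*} [Field F] [Fintype ι] [DecidableEq ι] [Finite F]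
variable {H : Subgroup (oG (sq F ι))} {u v : ι → F}

theorem InP.add {x y : ι → F} (hx : InP u v x) (hy : InP u v y) : InP u v (x + y) := by
  obtain ⟨a, b, rfl⟩ := hx
  obtain ⟨c, d, rfl⟩ := hy
  exact ⟨a + c, b + d, by module⟩

theorem InP.smul {x : ι → F} (hx : InP u v x) (t : F) : InP u v (t • x) := by
  obtain ⟨a, b, rfl⟩ := hx
  exact ⟨t * a, t * b, by module⟩

theorem InP.neg {x : ι → F} (hx : InP u v x) : InP u v (-x) := by
  simpa using hx.smul (-1)

theorem InP.sub {x y : ι → F} (hx : InP u v x) (hy : InP u v y) : InP u v (x - y) := by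
  simpa [sub_eq_add_neg] using hx.add hy.neg

theorem InP.zero : InP u v 0 := ⟨0, 0, by simp⟩

/-- two vectors of the plane with a common zero are proportional, the others are a basis -/
theorem prop_or_basis (hrow : ∀ i, u i ≠ 0 ∨ v i ≠ 0) {p p' : ι → F} (hp : InP u v p) (hp' : InP u v p')
    (hp0 : p ≠ 0) :
    (∃ k : F, p' = k • p) ∨
      ((∀ x, InP u v x → ∃ l m : F, x = l • p + m • p') ∧ ∀ i, p i ≠ 0 ∨ p' i ≠ 0) := by
  obtain ⟨α, β, hp⟩ := hp
  obtain ⟨γ, δ, hp'⟩ := hp'
  by_cases hD : α * δ - β * γ = 0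
  · left
    rcases eq_or_ne α 0 with h0 | h0
    · have hβ : β ≠ 0 := fun h => hp0 (by rw [hp, h0, h]; simp)
      have hγ : γ = 0 := (mul_eq_zero.1 (by rw [h0] at hD; linear_combination -hD : β * γ = 0)).resolve_left hβ
      exact ⟨δ / β, by rw [hp, hp', h0, hγ]; simp [smul_smul, hβ]⟩
    · refine ⟨γ / α, ?_⟩
      rw [hp, hp']
      match_scalars <;> field_simp
      linear_combination hD
  right
  refine ⟨?_, fun i => ?_⟩
  · rintro x ⟨x1, x2, rfl⟩
    refine ⟨(x1 * δ - x2 * γ) / (α * δ - β * γ), (x2 * α - x1 * β) / (α * δ - β * γ), ?_⟩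
    obtain ⟨D, hDe⟩ : ∃ D, α * δ - β * γ = D := ⟨_, rfl⟩
    rw [hDe] at hD ⊢
    rw [hp, hp']
    match_scalars <;> field_simp <;> rw [← hDe] <;> ring
  · by_contra! hi
    rw [hp, hp', Pi.add_apply, Pi.smul_apply, Pi.smul_apply, Pi.add_apply, Pi.smul_apply, Pi.smul_apply] at hi
    simp only [smul_eq_mul] at hi
    rcases hrow i with h | h
    · exact h ((mul_eq_zero.1 (by linear_combination δ * hi.1 - β * hi.2 :
        (α * δ - β * γ) * u i = 0)).resolve_left hD)
    · exact h ((mul_eq_zero.1 (by linear_combination α * hi.2 - γ * hi.1 :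
        (α * δ - β * γ) * v i = 0)).resolve_left hD)

open scoped _root_.Classical in
/-- the diagonal elements with an even number of signs -/
theorem Over.signs_mem (hH : Over H) (S : Finset ι) (hS : Even S.card) :
    ∃ x ∈ H, ∀ (q : ι → F) i, x.1 q i = if i ∈ S then -q i else q i := by
  induction hn : S.card using Nat.strong_induction_on generalizing S with
  | _ n ih =>
    rcases Nat.eq_zero_or_pos n with rfl | hpos
    · exact ⟨1, one_mem H, fun q i => by rw [Finset.card_eq_zero.1 hn]; simp⟩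
    obtain ⟨a, ha⟩ := Finset.card_pos.1 (hn ▸ hpos)
    obtain ⟨b, hb⟩ := Finset.card_pos.1 (show 0 < (S.erase a).card by
      rw [Finset.card_erase_of_mem ha]; obtain ⟨k, hk⟩ := hS; omega)
    have hba := (Finset.mem_erase.1 hb).1
    have hc : ((S.erase a).erase b).card = n - 2 := by
      rw [Finset.card_erase_of_mem hb, Finset.card_erase_of_mem ha, hn]; omega
    obtain ⟨x, hx, hxapp⟩ := ih (n - 2) (by omega) _ (by rw [hc]; obtain ⟨k, hk⟩ := hS; exact ⟨k - 1, by omega⟩) hc
    refine ⟨_, mul_mem (hH.ee_mem a b) hx, fun q i => ?_⟩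
    simp only [oG_mul_apply, R_e_apply hH.two, Function.update_apply, hxapp, Finset.mem_erase]
    by_cases hia : i = a
    · subst hia; simp [ha, Ne.symm hba]
    by_cases hib : i = b
    · subst hib; simp [hia, (Finset.mem_erase.1 hb).2]
    · simp [hia, hib]

open scoped _root_.Classical in
/-- two orthogonal vectors of the plane with disjoint supports, one of them with five entries -/
theorem disjoint_false (c : Pl2 H u v) {P P' : ι → F}
    (hP : InP u v P) (hP' : InP u v P') (hbasis : ∀ x, InP u v x → ∃ l m : F, x = l • P + m • P')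
    (hdis : ∀ i, P i = 0 ∨ P' i = 0) (hP0 : P ≠ 0) (h5 : 5 ≤ (supp P').card) : False := by
  have h2 := c.ov.two
  have huP : InP u v u := ⟨1, 0, by module⟩
  have hvP : InP u v v := ⟨0, 1, by module⟩
  have hPP' : P ⬝ᵥ P' = 0 := Finset.sum_eq_zero fun i _ => by
    rcases hdis i with h | h <;> simp [h]
  have aniso : ∀ x, InP u v x → x ≠ 0 → (∀ y, InP u v y → ∃ l m : F, y = l • P + m • P') →
      (x ⬝ᵥ P = 0 ∧ x ⬝ᵥ P' = 0) → False := fun x hx hx0 hb h => by
    have hperp : ∀ y, InP u v y → x ⬝ᵥ y = 0 := fun y hy => by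
      obtain ⟨l, m, rfl⟩ := hb y hy
      simp [dotProduct_add, h.1, h.2]
    obtain ⟨a, b, e⟩ := hx
    have e1 := hperp u huP
    have e2 := hperp v hvP
    simp only [e, add_dotProduct, smul_dotProduct, smul_eq_mul, c.uv, dotProduct_comm v u, mul_zero, add_zero,
      zero_add] at e1 e2
    rw [(mul_eq_zero.1 e1).resolve_right c.uu, (mul_eq_zero.1 e2).resolve_right c.vv, zero_smul, zero_smul,
      zero_add] at e
    exact hx0 e
  obtain ⟨j, hj⟩ := Finset.card_pos.1 (show 0 < (supp P').card by omega)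
  have hP'0 : P' ≠ 0 := fun h => mem_supp.1 hj (by rw [h]; rfl)
  have hPP : P ⬝ᵥ P ≠ 0 := fun h => aniso P hP hP0 hbasis ⟨h, hPP'⟩
  have hQQ : P' ⬝ᵥ P' ≠ 0 := fun h => aniso P' hP' hP'0 hbasis ⟨by rw [dotProduct_comm, hPP'], h⟩
  -- the product of the reflections
  have hy : R u * R v = R P * R P' := ext_oG fun x => by
    obtain ⟨x0, hx0⟩ : ∃ x0, x0 = x - ((x ⬝ᵥ P) / (P ⬝ᵥ P)) • P - ((x ⬝ᵥ P') / (P' ⬝ᵥ P')) • P' := ⟨_, rfl⟩
    have hperp : ∀ y, InP u v y → x0 ⬝ᵥ y = 0 := fun y hy => by
      obtain ⟨l, m, rfl⟩ := hbasis y hy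
      simp [hx0, sub_dotProduct, dotProduct_add, hPP', dotProduct_comm P' P]
      field_simp
      ring
    have hfix : (R u * R v).1 x0 = x0 := by
      rw [c.y_apply, hperp u huP, hperp v hvP]
      simp
    have e : x = x0 + ((x ⬝ᵥ P) / (P ⬝ᵥ P)) • P + ((x ⬝ᵥ P') / (P' ⬝ᵥ P')) • P' := by rw [hx0]; abel
    conv_lhs => rw [e, map_add, map_add, hfix, map_smul, map_smul, c.y_neg hP, c.y_neg hP']
    rw [RR_apply h2 hPP hQQ hPP', hx0]
    match_scalars <;> ring
  -- change two signs
  obtain ⟨k, hk, hkj⟩ := Finset.exists_mem_ne (show 1 < (supp P').card by omega) j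
  obtain ⟨l, hl, hlk, hlj⟩ : ∃ l ∈ supp P', l ≠ k ∧ l ≠ j := by
    obtain ⟨l, hl⟩ := Finset.card_pos.1 (show 0 < (supp P' \ {k, j}).card by
      have := Finset.le_card_sdiff {k, j} (supp P')
      have := Finset.card_le_two (a := k) (b := j)
      omega)
    simp only [Finset.mem_sdiff, Finset.mem_insert, Finset.mem_singleton, not_or] at hl
    exact ⟨l, hl.1, hl.2⟩
  have hxH := c.ov.ee_mem k l
  set x := R (F := F) (e k) * R (e l) with hx
  have hxapp : ∀ q i, x.1 q i = if i = k ∨ i = l then -q i else q i := fun q i => by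
    rw [hx, oG_mul_apply, R_e_apply h2, R_e_apply h2, Function.update_apply, Function.update_apply,
      Function.update_apply]
    split_ifs <;> simp_all
  have hxP : x.1 P = P := funext fun i => by
    rw [hxapp]
    split_ifs with h
    · rcases hdis i with h' | h'
      · rw [h', neg_zero]
      · rcases h with rfl | rfl
        exacts [absurd h' (mem_supp.1 hk), absurd h' (mem_supp.1 hl)]
    · rfl
  obtain ⟨Q, hQ⟩ : ∃ Q, Q = x.1 P' := ⟨_, rfl⟩
  have hQQ' : Q ⬝ᵥ Q = P' ⬝ᵥ P' := by rw [hQ, dot_oG _ h2]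
  have hPQ : P ⬝ᵥ Q = 0 := by rw [hQ, ← hxP, dot_oG _ h2, hPP']
  have hgH : R P' * R Q ∈ H := by
    have h := mul_mem c.mem (mul_mem (mul_mem hxH c.mem) (inv_mem hxH))
    have e1 : x * (R P * R P') * x⁻¹ = R P * R Q := by
      rw [hQ, show x * (R P * R P') * x⁻¹ = x * R P * x⁻¹ * (x * R P' * x⁻¹) by group, conj_R, conj_R, hxP]
    rw [hy, e1] at h
    have e2 : R P * R P' * (R P * R Q) = R P' * R Q := by
      have hc : R P' * R P * (R P')⁻¹ = R P := by
        rw [conj_R, R_apply' h2 hQQ, hPP', mul_zero, zero_div, zero_smul, sub_zero]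
      rw [show R P * R P' * (R P * R Q) = R P * (R P' * R P * (R P')⁻¹) * (R P' * R Q) by group, hc, R_mul_self,
        one_mul]
    rwa [e2] at h
  obtain ⟨a, ha⟩ : ∃ a, P a ≠ 0 := by
    by_contra! h; exact hP0 (funext h)
  have hm : Mono (R P' * R Q) := mono_of_col c.ov hgH (i := a) (j := a) (c := 1) (by
    have e1 : P' a = 0 := (hdis a).resolve_left ha
    have e2 : Q a = 0 := by rw [hQ, hxapp, e1, neg_zero, ite_self]
    rw [oG_mul_apply, R_apply' h2 (u := Q) (by rwa [hQQ']), e_dot, e2, mul_zero, zero_div, zero_smul, sub_zero,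
      R_apply' h2 hQQ, e_dot, e1, mul_zero, zero_div, zero_smul, sub_zero, one_smul])
  -- a column with two entries
  obtain ⟨t, ht⟩ : ∃ t, t = 2 / (P' ⬝ᵥ P') := ⟨_, rfl⟩
  have ht0 : t ≠ 0 := by rw [ht]; exact div_ne_zero h2 hQQ
  obtain ⟨d, hd⟩ : ∃ d, d = Q ⬝ᵥ P' := ⟨_, rfl⟩
  have hQj : ∀ i, ¬ (i = k ∨ i = l) → Q i = P' i := fun i hi => by rw [hQ, hxapp, if_neg hi]
  have hj' : ¬ (j = k ∨ j = l) := not_or.2 ⟨hkj.symm, Ne.symm hlj⟩
  have hcol : ∀ i, i ≠ j → (R P' * R Q).1 (e j) i = -(t * P' j) * (P' i + Q i - t * d * P' i) := fun i hi => by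
    rw [oG_mul_apply, R_apply' h2 (u := Q) (by rwa [hQQ']), R_apply' h2 hQQ, hQQ', e_dot, hQj j hj',
      sub_dotProduct, e_dot, smul_dotProduct, ← hd, smul_eq_mul]
    simp only [Pi.sub_apply, Pi.smul_apply, smul_eq_mul, e_apply, if_neg hi, ht]
    field_simp
    ring
  by_cases hd0 : d = 0
  · obtain ⟨i1, hi1, i2, hi2, h12⟩ := Finset.one_lt_card.1 (show 1 < (supp P' \ {k, l, j}).card by
      have := Finset.le_card_sdiff {k, l, j} (supp P')
      have := Finset.card_le_three (a := k) (b := l) (c := j)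
      omega)
    simp only [Finset.mem_sdiff, Finset.mem_insert, Finset.mem_singleton, not_or, mem_supp] at hi1 hi2
    have hne : ∀ i, P' i ≠ 0 → i ≠ k → i ≠ l → i ≠ j → (R P' * R Q).1 (e j) i ≠ 0 := fun i h a b cc => by
      rw [hcol i cc, hQj i (not_or.2 ⟨a, b⟩), hd0, mul_zero, zero_mul, sub_zero, ← two_mul]
      exact mul_ne_zero (neg_ne_zero.2 (mul_ne_zero ht0 (mem_supp.1 hj))) (mul_ne_zero h2 h)
    exact h12 (hm.col (hne i1 hi1.1 hi1.2.1 hi1.2.2.1 hi1.2.2.2) (hne i2 hi2.1 hi2.2.1 hi2.2.2.1 hi2.2.2.2))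
  · have hne : ∀ i, (i = k ∨ i = l) → P' i ≠ 0 → i ≠ j → (R P' * R Q).1 (e j) i ≠ 0 := fun i h h' cc => by
      rw [hcol i cc, show Q i = -P' i by rw [hQ, hxapp, if_pos h], add_neg_cancel, zero_sub]
      exact mul_ne_zero (neg_ne_zero.2 (mul_ne_zero ht0 (mem_supp.1 hj)))
        (neg_ne_zero.2 (mul_ne_zero (mul_ne_zero ht0 hd0) h'))
    exact hlk (hm.col (hne l (Or.inr rfl) (mem_supp.1 hl) hlj) (hne k (Or.inl rfl) (mem_supp.1 hk) hkj))

open scoped _root_.Classical in
set_option maxHeartbeats 800000 in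
-- one long construction
/-- the central element of the dihedral group of the product and the involution fixing one coordinate vector -/
theorem Pl2.exists_inv (c : Pl2 H u v) (hodd : Odd (Fintype.card ι)) (hno : ¬ Mono (R u * R v)) (a : ι) :
    ∃ (z : oG (sq F ι)) (ε t : F), ε * ε = 1 ∧ z.1 (e a) = t • e a ∧ Mono z ∧
      (∀ q, InP u v q → InP u v (z.1 q)) ∧ (∀ q, ∃ γ : F, InP u v (z.1 q - ε • q + γ • e a)) ∧
      ∃ i, i ≠ a ∧ z.1 (e i) ≠ ε • e i := by
  have h2 := c.ov.two
  have hbig := c.seven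
  obtain ⟨y, hydef⟩ : ∃ y : oG (sq F ι), R u * R v = y := ⟨_, rfl⟩
  have hyapp : ∀ q, y.1 q = q - (2 * (q ⬝ᵥ u) / (u ⬝ᵥ u)) • u - (2 * (q ⬝ᵥ v) / (v ⬝ᵥ v)) • v :=
    hydef ▸ c.y_apply
  have hyneg : ∀ q, InP u v q → y.1 q = -q := hydef ▸ fun q hq => c.y_neg hq
  have hyinP : ∀ q, y.1 q = -q → InP u v q := hydef ▸ fun q hq => c.inP_of_neg hq
  have hyH : y ∈ H := hydef ▸ c.mem
  set S := Finset.univ.erase a with hS
  have hScard : S.card + 1 = Fintype.card ι := Finset.card_erase_add_one (Finset.mem_univ a)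
  obtain ⟨x, hxH, hx⟩ := c.ov.signs_mem S (by obtain ⟨k, hk⟩ := hodd; exact ⟨k, by omega⟩)
  have hxx : x * x = 1 := ext_oG fun q => funext fun i => by
    rw [oG_mul_apply, oG_one_apply, hx, hx]
    split_ifs <;> ring
  have hyy : y * y = 1 := hydef ▸ c.y_sq
  have hxi : x⁻¹ = x := inv_eq_of_mul_eq_one_right hxx
  have hyi : y⁻¹ = y := inv_eq_of_mul_eq_one_right hyy
  set r : oG (sq F ι) := x * y with hr
  have hrx : ∀ n : ℕ, x * r ^ n * x = (r ^ n)⁻¹ := fun n => by
    have : x * r * x⁻¹ = r⁻¹ := by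
      rw [hr, _root_.mul_inv_rev, hxi, hyi, ← mul_assoc, hxx, one_mul]
    have h' := congrArg (· ^ n) this
    simp only [conj_pow, inv_pow] at h'
    rwa [hxi] at h'
  have heven : Even (orderOf r) := by
    rw [← Nat.not_odd_iff_even]
    rintro ⟨k, hk⟩
    have hconj : r ^ k * x * (r ^ k)⁻¹ = y := by
      have h1 : (r ^ k)⁻¹ = x * r ^ k * x := (hrx k).symm
      have h2' : r ^ (2 * k) * r = 1 := by rw [← pow_succ, ← hk, pow_orderOf_eq_one]
      calc r ^ k * x * (r ^ k)⁻¹ = r ^ k * (x * x) * r ^ k * x := by rw [h1]; group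
        _ = r ^ (2 * k) * x := by rw [hxx, mul_one, ← pow_add, two_mul]
        _ = r ^ (2 * k) * r * r⁻¹ * x := by group
        _ = r⁻¹ * x := by rw [h2', one_mul]
        _ = y := by rw [hr, _root_.mul_inv_rev, hxi, hyi, mul_assoc, hxx, mul_one]
    set g := r ^ k
    have hneg : ∀ i ∈ S, InP u v (g.1 (e i)) := fun i hi => by
      refine hyinP _ ?_
      rw [← hconj, oG_mul_apply, oG_mul_apply, oG_inv_apply, ← map_neg]
      congr 1
      funext l
      rw [hx, Pi.neg_apply, e_apply]
      split_ifs <;> simp_all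
    have hmem : ∀ i : S, g.1 (e i.1) ∈ Submodule.span F (Set.range ![u, v]) := fun i => by
      obtain ⟨α, β, h'⟩ := hneg i.1 i.2
      rw [h']
      exact add_mem (Submodule.smul_mem _ _ (Submodule.subset_span ⟨0, rfl⟩))
        (Submodule.smul_mem _ _ (Submodule.subset_span ⟨1, rfl⟩))
    have hli : LinearIndependent F (fun i : S => (⟨g.1 (e i.1), hmem i⟩ : Submodule.span F (Set.range ![u, v]))) := by
      rw [Fintype.linearIndependent_iff]
      intro f hf i
      have h0 : ∑ j : S, f j • g.1 (e j.1) = 0 := by simpa using congrArg Subtype.val hf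
      have h1 := congrArg (fun q => (g⁻¹).1 q) h0
      simp only [map_sum, map_smul, oG_inv_apply, map_zero] at h1
      have := congrFun h1 i.1
      simpa [Finset.sum_apply, Pi.single_apply, Subtype.coe_inj] using this
    have h4 := hli.fintype_card_le_finrank
    have h5 : finrank F (Submodule.span F (Set.range ![u, v])) ≤ 2 :=
      le_trans (finrank_range_le_card (R := F) ![u, v]) (by simp)
    rw [Fintype.card_coe] at h4
    omega
  obtain ⟨k, hk⟩ := heven
  have hpos := orderOf_pos r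
  set z : oG (sq F ι) := r ^ k with hz
  have hz1 : z ≠ 1 := fun h => by
    have := Nat.le_of_dvd (by omega) (orderOf_dvd_of_pow_eq_one h)
    omega
  have hzz : z * z = 1 := by rw [hz, ← pow_add, ← hk, pow_orderOf_eq_one]
  have hzi : z⁻¹ = z := inv_eq_of_mul_eq_one_right hzz
  have hzx : z * x = x * z := by
    have h' : x * z * x = z := by rw [hz, hrx, ← hz, hzi]
    calc z * x = x * z * x * x := by rw [h']
      _ = x * z := by rw [mul_assoc, hxx, mul_one]
  have hzy : z * y = y * z := by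
    have : y = x * r := by rw [hr, ← mul_assoc, hxx, one_mul]
    rw [this, ← mul_assoc, hzx, mul_assoc, mul_assoc, hz, ← pow_succ, ← pow_succ']
  have hzH : z ∈ H := pow_mem (mul_mem hxH hyH) k
  obtain ⟨t, ht⟩ : ∃ t : F, z.1 (e a) = t • e a := by
    refine ⟨z.1 (e a) a, funext fun i => ?_⟩
    rcases eq_or_ne i a with rfl | hia
    · simp
    have h' : x.1 (z.1 (e a)) = z.1 (e a) := by
      rw [← oG_mul_apply, ← hzx, oG_mul_apply]
      congr 1
      funext l
      rw [hx, e_apply]
      split_ifs <;> simp_all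
    have := congrFun h' i
    rw [hx, if_pos (Finset.mem_erase.2 ⟨hia, Finset.mem_univ i⟩)] at this
    simp [hia]
    exact (mul_eq_zero.1 (by linear_combination -this : 2 * z.1 (e a) i = 0)).resolve_left h2
  have hzmono : Mono z := mono_of_col c.ov hzH ht
  have hmod : ∀ (m : ℕ) (q : ι → F), ∃ γ : F, InP u v ((r ^ m).1 q - ((-1 : F) ^ m) • q + γ • e a) := by
    intro m
    induction m with
    | zero => exact fun q => ⟨0, by simpa using InP.zero⟩
    | succ m ih =>
      intro q
      obtain ⟨γ, hγ⟩ := ih q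
      obtain ⟨w, hw⟩ : ∃ w, (r ^ m).1 q = w := ⟨_, rfl⟩
      rw [hw] at hγ
      have hstep : x.1 (y.1 w) = -(y.1 w) + (2 * y.1 w a) • e a := funext fun i => by
        rw [hx]
        simp only [Pi.add_apply, Pi.neg_apply, Pi.smul_apply, smul_eq_mul, e_apply]
        rcases eq_or_ne i a with rfl | hia
        · rw [if_neg (Finset.notMem_erase _ _), if_pos rfl]; ring
        · rw [if_pos (Finset.mem_erase.2 ⟨hia, Finset.mem_univ i⟩), if_neg hia]; ring
      have hyw : InP u v (y.1 w - w) := ⟨-(2 * (w ⬝ᵥ u) / (u ⬝ᵥ u)), -(2 * (w ⬝ᵥ v) / (v ⬝ᵥ v)), by rw [hyapp]; module⟩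
      refine ⟨-(γ + 2 * y.1 w a), ?_⟩
      rw [pow_succ' r, oG_mul_apply, hw, hr, oG_mul_apply, hstep, pow_succ']
      convert (hyw.neg).sub hγ using 1
      module
  obtain ⟨ε, hεdef⟩ : ∃ ε : F, ε = (-1 : F) ^ k := ⟨_, rfl⟩
  have hε : ε * ε = 1 := by rw [hεdef, ← mul_pow]; simp
  refine ⟨z, ε, t, hε, ht, hzmono, fun q hq => hyinP _ ?_, fun q => hεdef ▸ hmod k q, ?_⟩
  · rw [← oG_mul_apply, ← hzy, oG_mul_apply, hyneg q hq, map_neg]
  by_contra! hall
  have happ : ∀ (q : ι → F) i, z.1 q i = (if i = a then t else ε) * q i := by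
    intro q i
    have hi : z.1 (e i) = (if i = a then t else ε) • e i := by
      split_ifs with h
      · rw [h, ht]
      · exact hall i h
    obtain ⟨s, hs⟩ : ∃ s, s = (if i = a then t else ε) := ⟨_, rfl⟩
    rw [← hs] at hi ⊢
    have h1 := dot_oG z h2 (e i) (e i)
    rw [hi, smul_dotProduct, dotProduct_smul, e_self, smul_eq_mul, smul_eq_mul, mul_one] at h1
    have := dot_oG z h2 q (e i)
    rw [hi, dotProduct_smul, dot_e, dot_e, smul_eq_mul] at this
    linear_combination s * this - (z.1 q i) * h1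
  by_cases htε : t = ε
  · have hz' : ∀ q, z.1 q = ε • q := fun q => funext fun i => by
      rw [happ, htε, ite_self]; rfl
    rcases mul_self_eq_one_iff.1 hε with h | h
    · exact hz1 (ext_oG fun q => by rw [hz', h, one_smul, oG_one_apply])
    · have hker := Abelianization.commutator_subset_ker
        ((LinearEquiv.det).comp (oG (sq F ι)).subtype) (c.ov.le hzH)
      have hd : LinearMap.det (z.1 : (ι → F) →ₗ[F] (ι → F)) = 1 := by
        rw [← LinearEquiv.coe_det]
        exact congrArg Units.val hker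
      have : (z.1 : (ι → F) →ₗ[F] (ι → F)) = (-1 : F) • LinearMap.id := LinearMap.ext fun q => by
        show z.1 q = _
        rw [hz', h]; rfl
      rw [this, LinearMap.det_smul, LinearMap.det_id, mul_one, Module.finrank_fintype_fun_eq_card, hodd.neg_one_pow]
        at hd
      exact h2 (by linear_combination -hd)
  · refine hno (hydef ▸ mono_of_col c.ov hyH (i := a) (j := a) (c := y.1 (e a) a) (funext fun i => ?_))
    rcases eq_or_ne i a with rfl | hia
    · simp
    have h' : z.1 (y.1 (e a)) = t • y.1 (e a) := by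
      rw [← oG_mul_apply, hzy, oG_mul_apply, ht, map_smul]
    have := congrFun h' i
    rw [happ, if_neg hia, Pi.smul_apply, smul_eq_mul] at this
    simp [hia]
    exact (mul_eq_zero.1 (by linear_combination -this : (t - ε) * y.1 (e a) i = 0)).resolve_left (sub_ne_zero.2 htε)

open scoped _root_.Classical in
/-- in odd dimension a product of two orthogonal reflections in the overgroup is monomial -/
theorem Pl2.mono_of_odd (c : Pl2 H u v) (hodd : Odd (Fintype.card ι)) : Mono (R u * R v) := by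
  by_contra hno
  have h2 := c.ov.two
  have hbig := c.seven
  have hrow : ∀ i, u i ≠ 0 ∨ v i ≠ 0 := fun i => by
    by_contra! h
    refine hno (mono_of_col c.ov c.mem (i := i) (j := i) (c := 1) ?_)
    rw [c.y_apply, e_dot, e_dot, h.1, h.2]
    simp
  have hna : ∀ i (s : F), s ≠ 0 → ¬ InP u v (s • e i) := fun i s hs hm => by
    refine hno (mono_of_col c.ov c.mem (i := i) (j := i) (c := -1) ?_)
    have := c.y_neg (hm.smul s⁻¹)
    rw [inv_smul_smul₀ hs] at this
    rw [this]; simp
  -- what one coordinate tells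
  have step : ∀ a, ∃ p, InP u v p ∧ p ≠ 0 ∧ ((supp p).erase a).card ≤ 2 := by
    intro a
    obtain ⟨z, ε, t, hε, ht, hmono, -, hmod, i, hia, hi⟩ := c.exists_inv hodd hno a
    obtain ⟨j, s, hj⟩ := hmono i
    obtain ⟨γ, hγ⟩ := hmod (e i)
    refine ⟨_, hγ, fun h0 => hi (funext fun l => ?_), ?_⟩
    · have hl := congrFun h0 l
      rcases eq_or_ne l a with rfl | hla
      · have hja : j ≠ l := fun h => by
          subst h
          have h1 := dot_oG z h2 (e i) (e j)
          rw [hj, ht, smul_dotProduct, dotProduct_smul, e_self, dot_e, e_apply, if_neg (Ne.symm hia), smul_eq_mul,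
            smul_eq_mul, mul_one] at h1
          have h3 := dot_oG z h2 (e j) (e j)
          rw [ht, smul_dotProduct, dotProduct_smul, e_self, smul_eq_mul, smul_eq_mul, mul_one] at h3
          have h4 := dot_oG z h2 (e i) (e i)
          simp only [hj, smul_dotProduct, dotProduct_smul, e_self, smul_eq_mul, mul_one] at h4
          exact zero_ne_one (α := F) (by linear_combination -(s * t) * h1 + (s * s) * h3 + h4)
        rw [hj]; simp [Ne.symm hja, Ne.symm hia]
      · simp [hla] at hl
        simpa [sub_eq_zero] using hl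
    · refine le_trans (Finset.card_le_card (t := {j, i}) fun l hl => ?_) Finset.card_le_two
      simp only [Finset.mem_erase, mem_supp] at hl
      by_contra hn
      simp only [Finset.mem_insert, Finset.mem_singleton, not_or] at hn
      exact hl.2 (by rw [hj]; simp [hn.1, hn.2, hl.1])
  -- a vector of the plane on two coordinates
  have hinter : ∀ p p', InP u v p → InP u v p' → p ≠ 0 → (supp p).card + (supp p').card ≤ 6 → ∃ k : F, p' = k • p := by
    intro p p' hp hp' hp0 hle
    rcases prop_or_basis hrow hp hp' hp0 with h | ⟨-, h⟩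
    · exact h
    exfalso
    obtain ⟨l, hl⟩ := c.ov.fresh6 c.seven (supp p ∪ supp p') ((Finset.card_union_le _ _).trans hle)
    simp only [Finset.mem_union, mem_supp, not_or, not_not] at hl
    exact (h l).elim (fun h => h hl.1) (fun h => h hl.2)
  have herase : ∀ (p : ι → F) a, (supp p).card ≤ ((supp p).erase a).card + 1 := fun p a => by
    have := Finset.pred_card_le_card_erase (s := supp p) (a := a); omega
  obtain ⟨a0, -⟩ := c.ov.fresh6 c.seven ∅ (by simp)
  obtain ⟨p0, hp0, hp00, hp03⟩ := step a0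
  have hp03' := herase p0 a0
  obtain ⟨a1, ha1⟩ := c.ov.fresh6 c.seven (supp p0) (by omega)
  obtain ⟨p1, hp1, hp10, hp12⟩ := step a1
  obtain ⟨k, hk⟩ := hinter p0 p1 hp0 hp1 hp00 (by have := herase p1 a1; omega)
  rw [mem_supp, not_not] at ha1
  rw [Finset.erase_eq_of_notMem (show a1 ∉ supp p1 by rw [mem_supp, not_not, hk, Pi.smul_apply, ha1, smul_zero])]
    at hp12
  have hcard1 : (supp p1).card = 2 := by
    by_contra hne
    rcases (show (supp p1).card = 0 ∨ (supp p1).card = 1 by omega) with h | h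
    · exact hp10 (funext fun l => by_contra fun hl => by
        have := Finset.card_pos.2 ⟨l, mem_supp.2 hl⟩; omega)
    · obtain ⟨i, hi⟩ := Finset.card_eq_one.1 h
      refine hna i (p1 i) (mem_supp.1 (by simp [hi])) ?_
      convert hp1 using 1
      funext l
      rcases eq_or_ne l i with rfl | hli
      · simp
      · simp [hli]
        exact (by simpa [mem_supp] using (show l ∉ supp p1 by simp [hi, hli]) : p1 l = 0).symm
  obtain ⟨i0, j0, hij, hsupp⟩ := Finset.card_eq_two.1 hcard1
  have hpout : ∀ l, l ≠ i0 → l ≠ j0 → p1 l = 0 := fun l h1 h2 => by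
    simpa [mem_supp] using (show l ∉ supp p1 by simp [hsupp, h1, h2])
  have hpi : p1 i0 ≠ 0 := mem_supp.1 (by simp [hsupp])
  have hpj : p1 j0 ≠ 0 := mem_supp.1 (by simp [hsupp])
  obtain ⟨z, ε, t, hε, ht, hmono, hzP, hmod, i1, hi1, hmoved⟩ := c.exists_inv hodd hno i0
  have hε0 : ε ≠ 0 := fun h => by rw [h, mul_zero] at hε; exact zero_ne_one hε
  choose σ cc hσ using hmono
  have hcc : ∀ i, cc i * cc i = 1 := fun i => by
    have := dot_oG z h2 (e i) (e i)
    rw [hσ, smul_dotProduct, dotProduct_smul, e_self, e_self, smul_eq_mul, smul_eq_mul, mul_one] at this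
    exact this
  have hcne : ∀ i, cc i ≠ 0 := fun i h => by have := hcc i; rw [h, mul_zero] at this; exact zero_ne_one this
  have hσt : σ i0 = i0 ∧ cc i0 = t := by
    have := congrFun ((hσ i0).symm.trans ht) (σ i0)
    rcases eq_or_ne (σ i0) i0 with h | h
    · refine ⟨h, ?_⟩
      simpa [h] using this
    · simp [h, hcne] at this
  -- all other coordinates but one are scalar
  have hd : ∀ i, i ≠ i0 → σ i = i ∧ (i ≠ j0 → cc i = ε) := fun i hi => by
    have hσi : σ i ≠ i0 := fun h => by
      have h1 := dot_oG z h2 (e i) (e i0)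
      rw [hσ, hσ, hσt.1, h, smul_dotProduct, dotProduct_smul, e_self, dot_e, e_apply, if_neg (Ne.symm hi)] at h1
      exact mul_ne_zero (hcne i) (hcne i0) (by simpa using h1)
    obtain ⟨γ, hγ⟩ := hmod (e i)
    obtain ⟨d, hd⟩ : ∃ d, z.1 (e i) - ε • e i + γ • e i0 = d := ⟨_, rfl⟩
    rw [hd] at hγ
    have hd3 : (supp d).card ≤ 3 := le_trans (Finset.card_le_card (t := {σ i, i, i0}) fun l hl => by
      by_contra hn
      simp only [Finset.mem_insert, Finset.mem_singleton, not_or] at hn
      exact mem_supp.1 hl (by rw [← hd, hσ]; simp [hn.1, hn.2.1, hn.2.2])) Finset.card_le_three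
    obtain ⟨k', hk'⟩ := hinter p1 d hp1 hγ hp10 (by omega)
    have hl : ∀ l, l ≠ i0 → l ≠ j0 → cc i * (e (σ i) : ι → F) l - ε * (e i : ι → F) l = 0 := fun l h1 h3 => by
      have := congrFun hk' l
      rw [← hd, hσ, Pi.smul_apply, hpout l h1 h3] at this
      simpa [h1] using this
    by_cases hij0 : i = j0
    · refine ⟨?_, fun h => absurd hij0 h⟩
      by_contra hne
      have := hl (σ i) hσi (hij0 ▸ hne)
      simp [hne, hcne] at this
    · have hfix : σ i = i := by
        by_contra hne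
        have := hl i hi hij0
        simp [Ne.symm hne, hε0] at this
      refine ⟨hfix, fun _ => ?_⟩
      have := hl i hi hij0
      rw [hfix] at this
      simp at this
      linear_combination this
  have hi1j : i1 = j0 := by
    by_contra hne
    exact hmoved (by rw [hσ, (hd i1 hi1).1, (hd i1 hi1).2 hne])
  have hccj : cc j0 = -ε := by
    rw [← hi1j]
    have : cc i1 ≠ ε := fun h => hmoved (by rw [hσ, (hd i1 hi1).1, h])
    exact (mul_self_eq_mul_self_iff.1 ((hcc i1).trans hε.symm)).resolve_left this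
  have happ : ∀ (q : ι → F) i, z.1 q i = cc i * q i := fun q i => by
    have hi : σ i = i := by
      rcases eq_or_ne i i0 with rfl | h
      · exact hσt.1
      · exact (hd i h).1
    have := dot_oG z h2 q (e i)
    rw [hσ, hi, dotProduct_smul, dot_e, dot_e, smul_eq_mul] at this
    linear_combination (cc i) * this - (z.1 q i) * hcc i
  have hcci : cc i0 = -ε := by
    refine (mul_self_eq_mul_self_iff.1 ((hcc i0).trans hε.symm)).resolve_left fun h => ?_
    refine hna j0 (-2 * ε * p1 j0) (mul_ne_zero (mul_ne_zero (neg_ne_zero.2 h2) hε0) hpj) ?_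
    convert (hzP p1 hp1).sub (hp1.smul ε) using 1
    funext l
    rw [Pi.sub_apply, happ, Pi.smul_apply, Pi.smul_apply, smul_eq_mul, smul_eq_mul]
    rcases eq_or_ne l j0 with rfl | hlj
    · rw [hccj]; simp; ring
    rcases eq_or_ne l i0 with rfl | hli
    · rw [h]; simp [hlj]
    · rw [hpout l hli hlj]; simp [hlj]
  -- the part outside the pair
  obtain ⟨l0, hl0⟩ := c.ov.fresh6 c.seven {i0, j0} (le_trans Finset.card_le_two (by norm_num))
  simp only [Finset.mem_insert, Finset.mem_singleton, not_or] at hl0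
  obtain ⟨q, hq, hql⟩ : ∃ q, InP u v q ∧ q l0 ≠ 0 := (hrow l0).elim (fun h => ⟨u, ⟨1, 0, by module⟩, h⟩)
    (fun h => ⟨v, ⟨0, 1, by module⟩, h⟩)
  obtain ⟨r, hr⟩ : ∃ r, r = q + ε • z.1 q := ⟨_, rfl⟩
  have hrP : InP u v r := hr ▸ hq.add ((hzP q hq).smul ε)
  have hrpair : ∀ l, l = i0 ∨ l = j0 → r l = 0 := fun l hl => by
    rw [hr, Pi.add_apply, Pi.smul_apply, happ, smul_eq_mul]
    rcases hl with rfl | rfl
    · rw [hcci]; linear_combination -q l * hε
    · rw [hccj]; linear_combination -q l * hε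
  have hrl : r l0 ≠ 0 := by
    rw [hr, Pi.add_apply, Pi.smul_apply, happ, (hd l0 hl0.1).2 hl0.2, smul_eq_mul]
    intro h
    exact mul_ne_zero h2 hql (by linear_combination h - q l0 * hε)
  rcases prop_or_basis hrow hp1 hrP hp10 with ⟨k', hk'⟩ | ⟨hbasis, hcov⟩
  · exact hrl (by rw [hk', Pi.smul_apply, hpout l0 hl0.1 hl0.2, smul_zero])
  refine disjoint_false c (P := p1) (P' := r) hp1 hrP hbasis (fun l => ?_) hp10 ?_
  · by_cases hl : l = i0 ∨ l = j0
    · exact Or.inr (hrpair l hl)
    · rw [not_or] at hl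
      exact Or.inl (hpout l hl.1 hl.2)
  · have : (Finset.univ : Finset ι) ⊆ supp r ∪ {i0, j0} := fun l _ => by
      by_cases hl : l = i0 ∨ l = j0
      · exact Finset.mem_union_right _ (by simpa using hl)
      · rw [not_or] at hl
        exact Finset.mem_union_left _ (mem_supp.2 ((hcov l).resolve_left (not_not.2 (hpout l hl.1 hl.2))))
    have h1 := (Finset.card_le_card this).trans (Finset.card_union_le _ _)
    have := Finset.card_le_two (a := i0) (b := j0)
    rw [Finset.card_univ] at h1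
    omega

end Cfsg.Agent.ClassicalMax.OrthMono
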