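import Cfsg.Agent.ClassicalMax.OrthMono.Unipotent
import Cfsg.Agent.ClassicalMax.OrthMono.Count

/-!
A member with two chosen coordinates: either all units of the space are members, or the square of the first
coordinate is one of four exceptional values.
-/

set_option autoImplicit false
set_option linter.unusedSectionVars false
set_option linter.style.haveILetI false

namespace Cfsg.Agent.ClassicalMax.OrthMono

open Module QuadraticMap Cfsg.Agent.Classical Cfsg.Agent.Classical.Quad Matrix

variable {F ι : Type*} [Field F] [Fintype ι] [DecidableEq ι]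

/-- squares belonging to rotations of order three, four, five -/
def C4 (x : F) : Prop := 4 * x = 1 ∨ 2 * x = 1 ∨ 16 * x * x - 12 * x + 1 = 0

variable [Finite F]
variable {H : Subgroup (oG (sq F ι))} {a b : ι} {w : ι → F}

/-- the first rotation has order three, four or five only for exceptional values -/
theorem c4_of_order (c : Cfg H a b w) {m : ℕ} (hm : (R (e a) * R w : oG (sq F ι)) ^ m = 1) (h1 : 2 ≤ m)
    (h5 : m ≤ 5) : C4 (w a * w a) := by
  have h2 := c.h2
  set g : oG (sq F ι) := R (e a) * R w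
  obtain ⟨τ, hτ⟩ : ∃ τ : F, 4 * (w a * w a) - 2 = τ := ⟨_, rfl⟩
  set f0 : ι → F := e a
  set f1 : ι → F := g.1 f0 with hf1
  have hg : ∀ x, g.1 x = (R (F := F) (e a)).1 (x - (2 * (x ⬝ᵥ w)) • w) := fun x => by
    rw [oG_mul_apply, R_apply h2 c.tw.1]
  have hea : ∀ x : ι → F, (R (F := F) (e a)).1 x = x - (2 * x a) • e a := fun x => by
    rw [R_apply h2 (e_self a), dot_e]
  have e1 : f1 = (4 * (w a * w a) - 1) • e a - (2 * w a) • w := by
    rw [hf1, hg, hea, e_dot]
    simp only [f0, Pi.sub_apply, Pi.smul_apply, smul_eq_mul, e_apply, ↓reduceIte]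
    module
  have e2 : g.1 f1 = τ • f1 - f0 := by
    rw [e1, hg, hea, ← hτ]
    simp only [f0, Pi.sub_apply, Pi.smul_apply, smul_eq_mul, e_apply, ↓reduceIte, sub_dotProduct, smul_dotProduct,
      e_dot, c.tw.1]
    module
  have key : ∀ r s : F, r • f1 + s • f0 = f0 → r = 0 ∧ s = 1 := fun r s he => by
    have hb := congrFun he b
    have ha := congrFun he a
    rw [e1] at hb ha
    simp only [f0, Pi.add_apply, Pi.sub_apply, Pi.smul_apply, smul_eq_mul, e_apply, ↓reduceIte,
      if_neg (Ne.symm c.ne), mul_zero, add_zero, zero_sub] at hb ha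
    have hr : r = 0 := by
      have : r * (2 * w a * w b) = 0 := by linear_combination -hb
      exact (mul_eq_zero.1 this).resolve_right (mul_ne_zero (mul_ne_zero h2 c.wa) c.wb)
    exact ⟨hr, by rw [hr] at ha; linear_combination ha⟩
  have step : ∀ (n : ℕ) (r s : F), (g ^ n).1 f0 = r • f1 + s • f0 → (g ^ (n + 1)).1 f0 = (r * τ + s) • f1 + (-r) • f0 := by
    intro n r s hn
    rw [pow_succ', oG_mul_apply, hn, map_add, map_smul, map_smul, e2, ← hf1]
    module
  have p1 : (g ^ 1).1 f0 = (1 : F) • f1 + (0 : F) • f0 := by rw [pow_one, ← hf1]; module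
  have p2 := step 1 _ _ p1
  have p3 := step 2 _ _ p2
  have p4 := step 3 _ _ p3
  have p5 := step 4 _ _ p4
  have hm' : (g ^ m).1 f0 = f0 := by rw [hm, oG_one_apply]
  unfold C4
  interval_cases m
  · obtain ⟨-, hs⟩ := key _ _ (p2.symm.trans hm')
    exact absurd (by linear_combination -hs : (2 : F) = 0) h2
  · obtain ⟨-, hs⟩ := key _ _ (p3.symm.trans hm')
    left; linear_combination hτ - hs
  · obtain ⟨hr, hs⟩ := key _ _ (p4.symm.trans hm')
    right; left
    have h0 : τ = 0 := mul_self_eq_zero.1 (by linear_combination -hs)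
    linear_combination (norm := skip) (1 / 2 : F) * hτ + (1 / 2 : F) * h0
    field_simp
    ring
  · obtain ⟨hr, hs⟩ := key _ _ (p5.symm.trans hm')
    right; right
    have hfac : (τ * τ + τ - 1) * (τ * τ - τ - 1) = 0 := by linear_combination hr
    rcases mul_eq_zero.1 hfac with h0 | h0
    · linear_combination h0 + (4 * (w a * w a) - 2 + τ + 1) * hτ
    · exfalso
      exact h2 (by linear_combination (-1 : F) * hs - (τ + 1) * h0)

/-- all rotations have anisotropic axes: the counting case -/
theorem c4_of_aniso (c : Cfg H a b w)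
    (hax : ∀ h ∈ K3 H a b w, h ≠ 1 → ∀ x ∈ U3 a b w, x ≠ 0 → h.1 x = x → x ⬝ᵥ x ≠ 0) : C4 (w a * w a) := by
  classical
  have h2 := c.h2
  obtain ⟨hg, hr⟩ := c.mem_K
  set K := K3 H a b w
  set g : oG (sq F ι) := R (e a) * R w with hgdef
  letI : MulAction K (Submodule F (ι → F)) :=
    { smul := fun k L => L.map (k.1.1 : (ι → F) →ₗ[F] (ι → F))
      one_smul := fun L => Submodule.map_id L
      mul_smul := fun k l L => Submodule.map_comp _ _ L }
  have hsmul : ∀ (k : K) (L : Submodule F (ι → F)), k • L = L.map (k.1.1 : (ι → F) →ₗ[F] (ι → F)) := fun _ _ => rfl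
  let ax : K → Submodule F (ι → F) := fun h => fixSub h.1 ⊓ U3 a b w
  let fixer : Submodule F (ι → F) → Subgroup K := fun L =>
    { carrier := {h | ∀ x ∈ L, h.1.1 x = x}
      one_mem' := fun _ _ => rfl
      mul_mem' := fun {p q} hp hq x hx => by
        show (p.1 * q.1).1 x = x
        rw [oG_mul_apply, hq x hx, hp x hx]
      inv_mem' := fun {p} hp x hx => by
        show (p.1⁻¹).1 x = x
        conv_lhs => rw [← hp x hx]
        exact oG_inv_apply _ _ }
  let C : Submodule F (ι → F) → Subgroup K := fun L =>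
    if L ≤ U3 a b w ∧ finrank F L = 1 then fixer L else ⊥
  have axis : ∀ h : K, h ≠ 1 → ax h ≤ U3 a b w ∧ finrank F (ax h) = 1 := fun h h1 =>
    ⟨inf_le_right, c.fix_line h.2 fun e' => h1 (Subtype.ext e')⟩
  have hC : ∀ h : K, h ≠ 1 → ∀ L, h ∈ C L ↔ ax h = L := by
    intro h h1 L
    constructor
    · intro hL
      simp only [C] at hL
      split_ifs at hL with hc
      · exact (Submodule.eq_of_le_of_finrank_eq (fun x hx => show x ∈ ax h from ⟨mem_fixSub.2 (hL x hx), hc.1 hx⟩)
          (hc.2.trans (axis h h1).2.symm)).symm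
      · exact absurd (Subgroup.mem_bot.1 hL) h1
    · rintro rfl
      simp only [C, if_pos (axis h h1)]
      exact fun x hx => mem_fixSub.1 hx.1
  have hconj : ∀ k h : K, h ≠ 1 → ax (k * h * k⁻¹) = k • ax h := by
    intro k h h1
    have hne : k * h * k⁻¹ ≠ 1 := by simpa [conj_eq_one_iff] using h1
    refine (Submodule.eq_of_le_of_finrank_eq ?_ ?_).symm
    · rw [hsmul]
      rintro _ ⟨x, hx, rfl⟩
      refine ⟨mem_fixSub.2 ?_, c.map_U k.2 hx.2⟩
      show (k.1 * h.1 * k.1⁻¹).1 (k.1.1 x) = k.1.1 x
      rw [oG_mul_apply, oG_mul_apply, oG_inv_apply, mem_fixSub.1 hx.1]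
    · rw [(axis _ hne).2, hsmul, LinearEquiv.finrank_map_eq, (axis _ h1).2]
  have hN : ∀ h : K, h ≠ 1 → Nat.card (MulAction.stabilizer K (ax h)) = Nat.card (C (ax h)) ∨
      Nat.card (MulAction.stabilizer K (ax h)) = 2 * Nat.card (C (ax h)) := by
    intro h h1
    obtain ⟨x, hxU, hx0, hx⟩ := c.exists_fix h.2 fun e' => h1 (Subtype.ext e')
    have hL : ax h = Submodule.span F {x} := c.fix_eq_span h.2 (fun e' => h1 (Subtype.ext e')) hxU hx0 hx
    have hxx := hax _ h.2 (fun e' => h1 (Subtype.ext e')) x hxU hx0 hx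
    simp only [C, if_pos (axis h h1)]
    set S := MulAction.stabilizer K (ax h)
    set C0 := fixer (ax h)
    have hmemC : ∀ k : K, k ∈ C0 ↔ k.1.1 x = x := fun k => by
      constructor
      · exact fun hk => hk x (by rw [hL]; exact Submodule.mem_span_singleton_self x)
      · intro hk y hy
        rw [hL, Submodule.mem_span_singleton] at hy
        obtain ⟨t, rfl⟩ := hy
        rw [map_smul, hk]
    have hle : C0 ≤ S := fun k hk => by
      rw [MulAction.mem_stabilizer_iff, hsmul, hL, Submodule.map_span, Set.image_singleton]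
      exact congrArg (fun z => Submodule.span F {z}) ((hmemC k).1 hk)
    have hpm : ∀ k ∈ S, k ∉ C0 → k.1.1 x = -x := fun k hk hkC => by
      rw [MulAction.mem_stabilizer_iff, hsmul, hL, Submodule.map_span, Set.image_singleton] at hk
      have hmem : k.1.1 x ∈ Submodule.span F {x} := by
        rw [← hk]; exact Submodule.mem_span_singleton_self _
      obtain ⟨t, ht⟩ := Submodule.mem_span_singleton.1 hmem
      have := dot_oG k.1 h2 x x
      rw [← ht, smul_dotProduct, dotProduct_smul, smul_eq_mul, smul_eq_mul, ← mul_assoc] at this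
      rcases mul_self_eq_one_iff.1 (mul_right_cancel₀ hxx (this.trans (one_mul _).symm)) with ht1 | ht1
      · exact absurd ((hmemC k).2 (by rw [← ht, ht1, one_smul])) hkC
      · rw [← ht, ht1, neg_one_smul]
    have hcard : Nat.card (C0.subgroupOf S) = Nat.card C0 := Nat.card_congr (Subgroup.subgroupOfEquivOfLe hle).toEquiv
    by_cases hall : ∀ k ∈ S, k ∈ C0
    · left
      rw [le_antisymm hall hle]
    · right
      push Not at hall
      obtain ⟨k0, hk0, hk0C⟩ := hall
      have hidx : (C0.subgroupOf S).index = 2 := by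
        rw [Subgroup.index_eq_two_iff]
        refine ⟨⟨k0, hk0⟩, fun k => ?_⟩
        simp only [Subgroup.mem_subgroupOf, Subgroup.coe_mul]
        by_cases hk : (k : K) ∈ C0
        · refine Or.inr ⟨hk, fun hkk => hk0C ?_⟩
          have := mul_mem (inv_mem hk) hkk
          rwa [inv_mul_cancel_left] at this
        · refine Or.inl ⟨(hmemC _).2 ?_, hk⟩
          show ((k : K).1 * k0.1).1 x = x
          rw [oG_mul_apply, hpm k0 hk0 hk0C, map_neg, hpm _ k.2 hk, neg_neg]
      rw [← Subgroup.card_mul_index (C0.subgroupOf S), hidx, hcard, mul_comm]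
  have hg1 : (⟨g, hg⟩ : K) ≠ 1 := fun e' => by
    have e'' : g = 1 := congrArg Subtype.val e'
    have := congrFun (congrArg (fun k : oG (sq F ι) => k.1 (e a)) e'') b
    rw [hgdef, oG_one_apply, oG_mul_apply, R_apply h2 c.tw.1, R_e_apply h2, Function.update_of_ne (Ne.symm c.ne),
      Pi.sub_apply, Pi.smul_apply, e_dot, e_apply, if_neg (Ne.symm c.ne), smul_eq_mul, zero_sub, neg_eq_zero] at this
    exact mul_ne_zero (mul_ne_zero h2 c.wa) c.wb (by linear_combination this)
  by_cases h6 : orderOf g ≤ 5
  · refine c4_of_order c (pow_orderOf_eq_one g) ?_ h6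
    have hpos := orderOf_pos g
    have : orderOf g ≠ 1 := fun e' => hg1 (Subtype.ext (orderOf_eq_one_iff.1 e'))
    omega
  exfalso
  have h6' : 6 ≤ Nat.card (C (ax ⟨g, hg⟩)) := by
    have hmem : Subgroup.zpowers (⟨g, hg⟩ : K) ≤ C (ax ⟨g, hg⟩) :=
      (Subgroup.zpowers_le).2 ((hC _ hg1 _).2 rfl)
    have := Subgroup.card_le_of_le hmem
    rw [Nat.card_zpowers, ← orderOf_injective K.subtype K.subtype_injective] at this
    change orderOf g ≤ _ at this
    omega
  have hfix := axis_fixed ax C hC hconj hN hg1 h6' (⟨_, hr⟩ : K)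
  obtain ⟨x, hxU, hx0, hx⟩ := c.exists_fix hg fun e' => hg1 (Subtype.ext e')
  have hL : ax ⟨g, hg⟩ = Submodule.span F {x} := c.fix_eq_span hg (fun e' => hg1 (Subtype.ext e')) hxU hx0 hx
  rw [hsmul, hL, Submodule.map_span, Set.image_singleton] at hfix
  obtain ⟨t, ht⟩ := Submodule.mem_span_singleton.1
    (hfix ▸ Submodule.mem_span_singleton_self _ : (R (e a) * R (e b) : oG (sq F ι)).1 x ∈ Submodule.span F {x})
  have hxx := hax _ hg (fun e' => hg1 (Subtype.ext e')) x hxU hx0 hx
  have hn : ∀ i, (R (e a) * R (e b) : oG (sq F ι)).1 x i = if i = a ∨ i = b then -x i else x i := fun i => by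
    rw [oG_mul_apply, R_e_apply h2, R_e_apply h2]
    rcases eq_or_ne i a with rfl | hia
    · simp [Function.update_self, Function.update_of_ne c.ne]
    rcases eq_or_ne i b with rfl | hib
    · simp [Function.update_self, hia]
    · simp [hia, hib]
  have ht1 : t = 1 ∨ t = -1 := by
    have := dot_oG (R (e a) * R (e b) : oG (sq F ι)) h2 x x
    rw [← ht, smul_dotProduct, dotProduct_smul, smul_eq_mul, smul_eq_mul, ← mul_assoc] at this
    exact mul_self_eq_one_iff.1 (mul_right_cancel₀ hxx (this.trans (one_mul _).symm))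
  -- the axis of the rotation
  have hRw : x - (2 * (x ⬝ᵥ w)) • w = Function.update x a (-x a) := by
    have := congrArg (fun z => (R (F := F) (e a)).1 z) hx
    simp only [hgdef, ← oG_mul_apply, ← mul_assoc, R_mul_self, one_mul] at this
    rw [← R_apply h2 c.tw.1, this, R_e_apply h2]
  have hdot : x ⬝ᵥ w = x a * w a + x b * w b + (x ⬝ᵥ w - x a * w a - x b * w b) := by ring
  rcases ht1 with rfl | rfl
  · -- the axis is orthogonal to both coordinate vectors
    have hxa : x a = 0 := by
      have := congrFun ht a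
      rw [hn, if_pos (Or.inl rfl), one_smul] at this
      exact (mul_eq_zero.1 (by linear_combination this : 2 * x a = 0)).resolve_left h2
    have hxb : x b = 0 := by
      have := congrFun ht b
      rw [hn, if_pos (Or.inr rfl), one_smul] at this
      exact (mul_eq_zero.1 (by linear_combination this : 2 * x b = 0)).resolve_left h2
    rw [hxa, neg_zero] at hRw
    have := congrFun hRw b
    rw [Function.update_of_ne (Ne.symm c.ne), Pi.sub_apply, Pi.smul_apply, hxb, smul_eq_mul] at this
    have hxw : x ⬝ᵥ w = 0 :=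
      (mul_eq_zero.1 ((mul_eq_zero.1 (by linear_combination -this : 2 * (x ⬝ᵥ w) * w b = 0)).resolve_right c.wb)).resolve_left h2
    exact hx0 (c.inf_eq hxU (mem_W3.2 ⟨hxa, hxb, hxw⟩))
  · obtain ⟨i, hia, hib, hwi⟩ : ∃ i, i ≠ a ∧ i ≠ b ∧ w i ≠ 0 := by
      by_contra! h0
      apply c.third
      have := c.tw.1
      rw [dotProduct, ← Finset.sum_subset (Finset.subset_univ {a, b}) (fun i _ hi => by
        simp only [Finset.mem_insert, Finset.mem_singleton, not_or] at hi
        rw [h0 i hi.1 hi.2, zero_mul]), Finset.sum_pair c.ne] at this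
      linear_combination -this
    have hout : ∀ j, j ≠ a → j ≠ b → x j = 0 := fun j hja hjb => by
      have := congrFun ht j
      rw [hn, if_neg (by tauto), Pi.smul_apply, smul_eq_mul] at this
      exact (mul_eq_zero.1 (by linear_combination -this : 2 * x j = 0)).resolve_left h2
    have := congrFun hRw i
    rw [Function.update_of_ne hia, Pi.sub_apply, Pi.smul_apply, hout i hia hib, smul_eq_mul] at this
    have hxw : x ⬝ᵥ w = 0 :=
      (mul_eq_zero.1 ((mul_eq_zero.1 (by linear_combination -this : 2 * (x ⬝ᵥ w) * w i = 0)).resolve_right hwi)).resolve_left h2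
    have hxa : x a = 0 := by
      have := congrFun hRw a
      rw [Function.update_self, Pi.sub_apply, Pi.smul_apply, hxw, smul_eq_mul] at this
      exact (mul_eq_zero.1 (by linear_combination this : 2 * x a = 0)).resolve_left h2
    have hxb : x b = 0 := by
      rw [dotProduct, ← Finset.sum_subset (Finset.subset_univ {a, b}) (fun j _ hj => by
        simp only [Finset.mem_insert, Finset.mem_singleton, not_or] at hj
        rw [hout j hj.1 hj.2, zero_mul]), Finset.sum_pair c.ne, hxa, zero_mul, zero_add] at hxw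
      exact (mul_eq_zero.1 hxw).resolve_right c.wb
    exact hx0 (funext fun j => by
      by_cases hja : j = a
      · rw [hja, hxa]; rfl
      by_cases hjb : j = b
      · rw [hjb, hxb]; rfl
      · exact hout j hja hjb)

/-- either an exceptional value or all units of the space are members -/
theorem rot (c : Cfg H a b w) : C4 (w a * w a) ∨ Full H (U3 a b w) := by
  by_cases h : ∃ h ∈ K3 H a b w, h ≠ 1 ∧ ∃ x ∈ U3 a b w, x ≠ 0 ∧ x ⬝ᵥ x = 0 ∧ h.1 x = x
  · obtain ⟨h, hh, h1, x, hxU, hx0, hxx, hx⟩ := h
    exact Or.inr (full_of_fix c hh h1 hxU hx0 hxx hx)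
  · push Not at h
    exact Or.inl (c4_of_aniso c fun k hk k1 x hxU hx0 hx hxx => h k hk k1 x hxU hx0 hxx hx)

end Cfsg.Agent.ClassicalMax.OrthMono
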