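import Cfsg.Agent.ClassicalMax.OrthMono.SixTools

/-!
Six coordinates: the centraliser of a pair of coordinate signs consists of monomial elements.
-/

set_option autoImplicit false
set_option linter.unusedSectionVars false
set_option linter.style.haveILetI false

namespace Cfsg.Agent.ClassicalMax.OrthMono

open Module QuadraticMap Cfsg.Agent.Classical Cfsg.Agent.Classical.Quad Matrix

variable {F ι : Type*} [Field F] [Fintype ι] [DecidableEq ι] [Finite F] {H : Subgroup (oG (sq F ι))}

/-- images of roots orthogonal to a root going to a coordinate line -/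
theorem root_shape (hH : Over H) {h : oG (sq F ι)} (hh : h ∈ H) {a b p : ι} {σ C : F} (hab : a ≠ b)
    (hσ : σ * σ = 1) (hv : h.1 (e a + σ • e b) = C • e p) {q r : ι} {τ : F} (hqr : q ≠ r) (hτ : τ * τ = 1)
    (qa : q ≠ a) (qb : q ≠ b) (ra : r ≠ a) (rb : r ≠ b) :
    h.1 (e q + τ • e r) p = 0 ∧
    ((∃ x, ∃ c : F, h.1 (e q + τ • e r) = c • e x ∧ c * c = 2) ∨
      ∃ x z, x ≠ z ∧ h.1 (e q + τ • e r) x * h.1 (e q + τ • e r) x = 1 ∧
        h.1 (e q + τ • e r) z * h.1 (e q + τ • e r) z = 1 ∧ ∀ l, l ≠ x → l ≠ z → h.1 (e q + τ • e r) l = 0) := by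
  have h2 := hH.two
  have hC : C ≠ 0 := fun h0 => h2 (by
    have h9 := dot_oG h h2 (e a + σ • e b) (e a + σ • e b)
    rw [hv, h0, zero_smul, zero_dotProduct, dot_root hab hσ] at h9
    exact h9.symm)
  have hperp : (e q + τ • e r : ι → F) ⬝ᵥ (e a + σ • e b) = 0 := by
    simp [qa, qb, ra, rb]
  have hp : h.1 (e q + τ • e r) p = 0 := by
    have h9 := dot_oG h h2 (e q + τ • e r) (e a + σ • e b)
    rw [hperp, hv, dotProduct_smul, dot_e, smul_eq_mul] at h9
    exact (mul_eq_zero.1 h9).resolve_left hC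
  refine ⟨hp, shape h2 (X := e p) (by rw [e_self]; exact one_ne_zero) (by rw [dot_oG _ h2, dot_root hqr hτ])
    (fun l hl => by rw [e_apply, if_neg]; rintro rfl; exact hl hp) ?_⟩
  have hm : Mono (h * (R (e a + σ • e b : ι → F) * R (e q + τ • e r)) * h⁻¹) := by
    refine mono_conj hH hh (root_pair_mem hH hab hqr hσ hτ) (u := e a + σ • e b) (c := -1) hv hC ?_
    rw [oG_mul_apply, R_apply' h2 (root_ne_zero h2 hqr hτ), dotProduct_comm, hperp, mul_zero, zero_div, zero_smul,
      sub_zero, R_apply' h2 (root_ne_zero h2 hab hσ), dot_root hab hσ, mul_div_assoc, div_self h2, mul_one,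
      neg_one_smul]
    module
  rwa [conj_RR, hv, R_smul hC] at hm

/-- outside the plane no column has two entries -/
theorem no_two_supp (hH : Over H) (h6 : Fintype.card ι = 6) {h : oG (sq F ι)} (hh : h ∈ H) {i j : ι} (hij : i ≠ j)
    (hi : ∀ l, l ≠ i → l ≠ j → h.1 (e i) l = 0) (hj : ∀ l, l ≠ i → l ≠ j → h.1 (e j) l = 0) (hno : ¬ Mono h)
    {q p p' : ι} (hqi : q ≠ i) (hqj : q ≠ j) (hpp : p ≠ p') (hf : ∀ l, l ≠ p → l ≠ p' → h.1 (e q) l = 0) :
    False := by
  have h2 := hH.two
  have nocoord : ∀ (a b : ι) (c : F), h.1 (e a) ≠ c • e b := fun a b c hc => hno (mono_of_col hH hh hc)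
  have hunit : ∀ a, h.1 (e a) ⬝ᵥ h.1 (e a) = 1 := fun a => by rw [dot_oG _ h2, e_self]
  have horth : ∀ a b, a ≠ b → h.1 (e a) ⬝ᵥ h.1 (e b) = 0 := fun a b hab => by
    rw [dot_oG _ h2, dot_e, e_apply, if_neg (Ne.symm hab)]
  have four : ∀ r, r ≠ i → r ≠ j → h.1 (e r) i = 0 ∧ h.1 (e r) j = 0 := fun r hri hrj =>
    perp_plane hij hi hj (by rw [hunit]; exact one_ne_zero) (by rw [hunit]; exact one_ne_zero) (horth i j hij)
      (horth r i hri) (horth r j hrj)
  obtain ⟨u, hu⟩ : ∃ u, u = h.1 (e i) := ⟨_, rfl⟩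
  obtain ⟨y, hy⟩ : ∃ y, y = h.1 (e j) := ⟨_, rfl⟩
  obtain ⟨f, hf'⟩ : ∃ f, f = h.1 (e q) := ⟨_, rfl⟩
  have fqi : f i = 0 := by rw [hf']; exact (four q hqi hqj).1
  have fqj : f j = 0 := by rw [hf']; exact (four q hqi hqj).2
  rw [← hf'] at hf
  rw [← hu] at hi
  rw [← hy] at hj
  have hp : f p ≠ 0 := fun h0 => nocoord q p' (f p') (funext fun l => by
    rw [← hf']
    rcases eq_or_ne l p' with rfl | hl
    · simp
    · rcases eq_or_ne l p with rfl | hl'
      · rw [h0]; simp [hl]
      · rw [hf l hl' hl]; simp [hl])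
  have hp' : f p' ≠ 0 := fun h0 => nocoord q p (f p) (funext fun l => by
    rw [← hf']
    rcases eq_or_ne l p with rfl | hl
    · simp
    · rcases eq_or_ne l p' with rfl | hl'
      · rw [h0]; simp [hl]
      · rw [hf l hl hl']; simp [hl])
  have uij : u i ≠ 0 ∧ u j ≠ 0 := by
    constructor <;> intro h0
    · refine nocoord i j (u j) (funext fun l => ?_)
      rw [← hu]
      rcases eq_or_ne l j with rfl | hl
      · simp
      · rcases eq_or_ne l i with rfl | hl'
        · simp [h0, hl]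
        · simp [hl, hi l hl' hl]
    · refine nocoord i i (u i) (funext fun l => ?_)
      rw [← hu]
      rcases eq_or_ne l i with rfl | hl
      · simp
      · rcases eq_or_ne l j with rfl | hl'
        · simp [h0, hl]
        · simp [hl, hi l hl hl']
  have hu1 : u i * u i + u j * u j = 1 := by rw [← dot_two hij hi, hu]; exact hunit i
  have hy1 : y i * y i + y j * y j = 1 := by rw [← dot_two hij hj, hy]; exact hunit j
  have hxy : u i * y i + u j * y j = 0 := by rw [← dot_two hij hj, hu, hy]; exact horth i j hij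
  have huf : u ⬝ᵥ f = 0 := by rw [hu, hf']; exact horth i q (Ne.symm hqi)
  have hui2 : 2 * (u i * u i) = 1 := by
    obtain ⟨r, hr⟩ := hH.fresh {i, j, p, p'} Finset.card_le_four
    simp only [Finset.mem_insert, Finset.mem_singleton, not_or] at hr
    have hm : Mono (R u * R f) := by
      rw [hu, hf', ← conj_RR]
      refine mono_of_col hH (mul_mem (mul_mem hh (hH.ee_mem i q)) (inv_mem hh)) (i := r) (j := r) (c := 1) ?_
      rw [conj_RR, ← hu, ← hf', RR_apply h2 (by rw [hu, hunit]; exact one_ne_zero)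
        (by rw [hf', hunit]; exact one_ne_zero) huf, e_dot, e_dot, hi r hr.1 hr.2.1, hf r hr.2.2.1 hr.2.2.2]
      simp
    have hcol : ∀ l, (R u * R f).1 (e i) l = e i l - 2 * u i * u l := fun l => by
      rw [RR_apply h2 (by rw [hu, hunit]; exact one_ne_zero) (by rw [hf', hunit]; exact one_ne_zero) huf, e_dot,
        e_dot, fqi, show u ⬝ᵥ u = 1 by rw [hu]; exact hunit i]
      simp
    by_contra hne
    refine hij (hm.col (j := i) (i := i) (k := j) ?_ ?_)
    · rw [hcol, e_apply, if_pos rfl]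
      exact fun h0 => hne (by linear_combination -h0)
    · rw [hcol, e_apply, if_neg (Ne.symm hij), zero_sub]
      exact neg_ne_zero.2 (mul_ne_zero (mul_ne_zero h2 uij.1) uij.2)
  have hyi2 : 2 * (y i * y i) = 1 := by
    have h7 : u i * u i * (y i * y i) = u i * u i * (y j * y j) := by
      linear_combination (u i * y i - u j * y j) * hxy + (y j * y j) * (hu1 - hui2)
    have h8 := mul_left_cancel₀ (mul_ne_zero uij.1 uij.1) h7
    linear_combination hy1 + h8
  obtain ⟨σ, hσ'⟩ : ∃ σ : F, σ = -(2 * u i * y i) := ⟨_, rfl⟩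
  have hσ : σ * σ = 1 := by rw [hσ']; linear_combination (2 * (y i * y i)) * hui2 + hyi2
  have hv : h.1 (e i + σ • e j) = ((u + σ • y) j) • e j := by
    rw [map_add, map_smul, ← hu, ← hy]
    funext l
    rcases eq_or_ne l j with rfl | hl
    · simp
    rcases eq_or_ne l i with rfl | hl'
    · simp [hl, hσ']
      linear_combination -(u l) * hyi2
    · simp [hl, hi l hl' hl, hj l hl' hl]
  -- every other column outside the plane stays on the two positions
  have only : ∀ r, r ≠ i → r ≠ j → r ≠ q → ∀ l, l ≠ p → l ≠ p' → h.1 (e r) l = 0 := by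
    intro r hri hrj hrq l hlp hlp'
    by_contra hl
    obtain ⟨g, hg⟩ : ∃ g, g = h.1 (e r) := ⟨_, rfl⟩
    rw [← hg] at hl
    have fri : g i = 0 := by rw [hg]; exact (four r hri hrj).1
    have hgf : g p * f p + g p' * f p' = 0 := by rw [← dot_two hpp hf, hg, hf']; exact horth r q hrq
    by_cases hgp : g p = 0
    · have hgp' : g p' = 0 := by
        rw [hgp, zero_mul, zero_add] at hgf
        exact (mul_eq_zero.1 hgf).resolve_right hp'
      obtain ⟨-, hs⟩ := root_shape hH hh hij hσ hv (q := q) (r := r) (τ := -1) (Ne.symm hrq) (by ring) hqi hqj hri hrj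
      have hz : h.1 (e q + (-1 : F) • e r) = f - g := by
        rw [map_add, map_smul, neg_one_smul, ← sub_eq_add_neg, hf', hg]
      rw [hz] at hs
      have e1 : (f - g) p ≠ 0 := by simp [hgp, hp]
      have e2 : (f - g) p' ≠ 0 := by simp [hgp', hp']
      have e3 : (f - g) l ≠ 0 := by simp [hf l hlp hlp', hl]
      rcases hs with ⟨x, c, hc, -⟩ | ⟨x, x', -, -, -, hz'⟩
      · rw [hc] at e1 e2
        simp only [Pi.smul_apply, smul_eq_mul, e_apply, mul_ite, mul_one, mul_zero, ne_eq, ite_eq_right_iff,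
          Classical.not_imp] at e1 e2
        exact hpp (e1.1.trans e2.1.symm)
      · have m : ∀ k, (f - g) k ≠ 0 → k = x ∨ k = x' := fun k hk => by
          by_contra hn
          rw [not_or] at hn
          exact hk (hz' k hn.1 hn.2)
        rcases m p e1 with a | a <;> rcases m p' e2 with b | b <;> rcases m l e3 with c | c <;>
          first | exact hpp (a.trans b.symm) | exact hlp (c.trans a.symm) | exact hlp' (c.trans b.symm)
    · have hfg : f ⬝ᵥ g = 0 := by rw [hf', hg]; exact horth q r (Ne.symm hrq)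
      have hff : f ⬝ᵥ f = 1 := by rw [hf']; exact hunit q
      have hgg : g ⬝ᵥ g = 1 := by rw [hg]; exact hunit r
      have hM : Mono (R f * R g) := by
        rw [hf', hg, ← conj_RR]
        refine mono_of_col hH (mul_mem (mul_mem hh (hH.ee_mem q r)) (inv_mem hh)) (i := i) (j := i) (c := 1) ?_
        rw [conj_RR, ← hf', ← hg, RR_apply h2 (by rw [hff]; exact one_ne_zero) (by rw [hgg]; exact one_ne_zero) hfg,
          e_dot, e_dot, fqi, fri]
        simp
      have hcol : ∀ k, (R f * R g).1 (e p) k = e p k - 2 * f p * f k - 2 * g p * g k := fun k => by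
        rw [RR_apply h2 (by rw [hff]; exact one_ne_zero) (by rw [hgg]; exact one_ne_zero) hfg, hff, hgg, e_dot, e_dot]
        simp
      have hf1 : f p * f p + f p' * f p' = 1 := by rw [← dot_two hpp hf]; exact hff
      have e3 : (R f * R g).1 (e p) l ≠ 0 := by
        rw [hcol, e_apply, if_neg hlp, hf l hlp hlp', mul_zero, sub_zero, zero_sub]
        exact neg_ne_zero.2 (mul_ne_zero (mul_ne_zero h2 hgp) hl)
      have e4 : (R f * R g).1 (e p) p = 0 := by
        by_contra h0
        exact hlp (hM.col e3 h0)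
      have e5 : (R f * R g).1 (e p) p' = 0 := by
        by_contra h0
        exact hlp' (hM.col e3 h0)
      rw [hcol, e_apply, if_pos rfl] at e4
      rw [hcol, e_apply, if_neg (Ne.symm hpp), zero_sub] at e5
      have e6 : g p * g p = f p' * f p' := by
        refine mul_left_cancel₀ (mul_ne_zero h2 hp) ?_
        linear_combination (f p') * e5 + 2 * (g p) * hgf
      exact one_ne_zero (by linear_combination -e4 - 2 * e6 - 2 * hf1 : (1 : F) = 0)
  obtain ⟨a, b, hab, ha, hb⟩ := hH.two_fresh {i, j, q} Finset.card_le_three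
  simp only [Finset.mem_insert, Finset.mem_singleton, not_or] at ha hb
  have key := perp_plane hpp (only a ha.1 ha.2.1 ha.2.2) (only b hb.1 hb.2.1 hb.2.2)
    (by rw [hunit]; exact one_ne_zero) (by rw [hunit]; exact one_ne_zero) (horth a b hab)
    (horth q a (Ne.symm ha.2.2)) (horth q b (Ne.symm hb.2.2))
  exact hp (by rw [hf']; exact key.1)

/-- the centraliser of a pair of signs is monomial -/
theorem mono_of_plane (hH : Over H) (h6 : Fintype.card ι = 6) {h : oG (sq F ι)} (hh : h ∈ H) {i j : ι} (hij : i ≠ j)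
    (hi : ∀ l, l ≠ i → l ≠ j → h.1 (e i) l = 0) (hj : ∀ l, l ≠ i → l ≠ j → h.1 (e j) l = 0) : Mono h := by
  classical
  have h2 := hH.two
  have h4 : (4 : F) ≠ 0 := by rw [show (4 : F) = 2 * 2 by norm_num]; exact mul_ne_zero h2 h2
  by_contra hno
  have nocoord : ∀ (a b : ι) (c : F), h.1 (e a) ≠ c • e b := fun a b c hc => hno (mono_of_col hH hh hc)
  have hunit : ∀ a, h.1 (e a) ⬝ᵥ h.1 (e a) = 1 := fun a => by rw [dot_oG _ h2, e_self]
  have horth : ∀ a b, a ≠ b → h.1 (e a) ⬝ᵥ h.1 (e b) = 0 := fun a b hab => by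
    rw [dot_oG _ h2, dot_e, e_apply, if_neg (Ne.symm hab)]
  obtain ⟨q, hq⟩ := hH.fresh {i, j} (le_trans Finset.card_le_two (by norm_num))
  simp only [Finset.mem_insert, Finset.mem_singleton, not_or] at hq
  obtain ⟨hqi, hqj⟩ := hq
  obtain ⟨u, hu⟩ : ∃ u, u = h.1 (e i) := ⟨_, rfl⟩
  obtain ⟨f, hf⟩ : ∃ f, f = h.1 (e q) := ⟨_, rfl⟩
  obtain ⟨fqi, fqj⟩ : f i = 0 ∧ f j = 0 := by
    rw [hf]
    exact perp_plane hij hi hj (by rw [hunit]; exact one_ne_zero) (by rw [hunit]; exact one_ne_zero) (horth i j hij)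
      (horth q i hqi) (horth q j hqj)
  have huf : u ⬝ᵥ f = 0 := by rw [hu, hf]; exact horth i q (Ne.symm hqi)
  have huu : u ⬝ᵥ u = 1 := by rw [hu]; exact hunit i
  have hff : f ⬝ᵥ f = 1 := by rw [hf]; exact hunit q
  have hus : ∀ l, l ≠ i → l ≠ j → u l = 0 := fun l l1 l2 => by rw [hu]; exact hi l l1 l2
  have hu1 : u i * u i + u j * u j = 1 := by rw [← dot_two hij hus]; exact huu
  obtain ⟨k, hk⟩ : ∃ k, k = R u * R f := ⟨_, rfl⟩
  have hkH : k ∈ H := by rw [hk, hu, hf, ← conj_RR]; exact mul_mem (mul_mem hh (hH.ee_mem i q)) (inv_mem hh)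
  have hkx : ∀ x : ι → F, k.1 x = x - (2 * (x ⬝ᵥ u)) • u - (2 * (x ⬝ᵥ f)) • f := fun x => by
    rw [hk, RR_apply h2 (by rw [huu]; exact one_ne_zero) (by rw [hff]; exact one_ne_zero) huf, huu, hff]
    simp
  have hkc : ∀ c, c ≠ i → c ≠ j → k.1 (e c) = e c - (2 * f c) • f := fun c a b => by
    rw [hkx, e_dot, e_dot, hus c a b]; simp
  have hki : k.1 (e i) = e i - (2 * u i) • u := by rw [hkx, e_dot, e_dot, fqi]; simp
  -- three non-zero entries outside the plane
  have pairm : ∀ c d x, c ≠ i → c ≠ j → d ≠ i → d ≠ j → x ≠ i → x ≠ j → c ≠ d → x ≠ c → x ≠ d →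
      f c ≠ 0 → f d ≠ 0 → f x ≠ 0 → 2 * (f c * f c + f d * f d) = 1 := by
    intro c d x hci hcj hdi hdj hxi hxj hcd hxc hxd fc fd fx
    have hM : Mono (R (k.1 (e c)) * R (k.1 (e d))) := by
      rw [← conj_RR]
      refine mono_of_col hH (mul_mem (mul_mem hkH (hH.ee_mem c d)) (inv_mem hkH)) (i := i) (j := i) (c := 1) ?_
      have h1 : ∀ c, c ≠ i → c ≠ j → (e i : ι → F) ⬝ᵥ k.1 (e c) = 0 := fun c a b => by
        rw [e_dot, hkc c a b]; simp [fqi, Ne.symm a]
      rw [conj_RR, RR_apply h2 (by rw [dot_oG _ h2, e_self]; exact one_ne_zero)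
        (by rw [dot_oG _ h2, e_self]; exact one_ne_zero) (by rw [dot_oG _ h2, dot_e, e_apply, if_neg (Ne.symm hcd)]),
        h1 d hdi hdj, h1 c hci hcj]
      simp
    have hcol : ∀ l, (R (k.1 (e c)) * R (k.1 (e d))).1 (e x) l =
        e (F := F) x l - 8 * f x * (f c * f c + f d * f d) * f l + 4 * f x * (f c * e c l + f d * e d l) := by
      intro l
      rw [RR_apply h2 (by rw [dot_oG _ h2, e_self]; exact one_ne_zero) (by rw [dot_oG _ h2, e_self]; exact one_ne_zero)
        (by rw [dot_oG _ h2, dot_e, e_apply, if_neg (Ne.symm hcd)]), dot_oG _ h2, dot_oG _ h2, e_self, e_self, e_dot,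
        e_dot, hkc c hci hcj, hkc d hdi hdj]
      simp [hxc, hxd]
      ring
    by_contra hne
    refine hcd (hM.col (j := x) (i := c) (k := d) ?_ ?_) <;> rw [hcol] <;> intro h0 <;>
      simp [hcd, Ne.symm hcd, Ne.symm hxc, Ne.symm hxd] at h0
    · exact hne (mul_left_cancel₀ (mul_ne_zero (mul_ne_zero h4 fx) fc) (by linear_combination -h0))
    · exact hne (mul_left_cancel₀ (mul_ne_zero (mul_ne_zero h4 fx) fd) (by linear_combination -h0))
  obtain ⟨c, d, hcd, hc, hd⟩ := hH.two_fresh {i, j} (le_trans Finset.card_le_two (by norm_num))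
  simp only [Finset.mem_insert, Finset.mem_singleton, not_or] at hc hd
  obtain ⟨c1, c2⟩ := hc
  obtain ⟨d1, d2⟩ := hd
  have quarter : ∀ x, x ≠ i → x ≠ j → 4 * (f x * f x) = 1 := by
    intro x x1 x2
    obtain ⟨y, hy⟩ := hH.fresh {i, j, x} (le_trans Finset.card_le_three (by norm_num))
    simp only [Finset.mem_insert, Finset.mem_singleton, not_or] at hy
    obtain ⟨l, m, hlm, l1, l2, l3, l4, m1, m2, m3, m4, hall⟩ :=
      six_last h6 hij (Ne.symm x1) (Ne.symm hy.1) (Ne.symm x2) (Ne.symm hy.2.1) (Ne.symm hy.2.2)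
    have hsum : f x * f x + f y * f y + f l * f l + f m * f m = 1 := by
      rw [← hff, dotProduct, ← Finset.sum_subset (Finset.subset_univ {x, y, l, m}) (fun z _ hz => by
        simp only [Finset.mem_insert, Finset.mem_singleton, not_or] at hz
        rcases hall z with rfl | rfl | rfl | rfl | rfl | rfl
        · rw [fqi, mul_zero]
        · rw [fqj, mul_zero]
        all_goals simp at hz)]
      rw [Finset.sum_insert (by simp [Ne.symm hy.2.2, Ne.symm l3, Ne.symm m3]),
        Finset.sum_insert (by simp [Ne.symm l4, Ne.symm m4]), Finset.sum_pair hlm]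
      ring
    -- no entry vanishes
    have nz : f x ≠ 0 ∧ f y ≠ 0 ∧ f l ≠ 0 ∧ f m ≠ 0 := by
      have three : ∀ a b c z, a ≠ i → a ≠ j → b ≠ i → b ≠ j → c ≠ i → c ≠ j → a ≠ b → a ≠ c → b ≠ c →
          (∀ w, w = i ∨ w = j ∨ w = a ∨ w = b ∨ w = c ∨ w = z) →
          f a * f a + f b * f b + f c * f c = 1 → f z = 0 → False := by
        intro a b c z a1 a2 b1 b2 c1 c2 ab ac bc hall' hs hz
        have nza : ∀ a b c, (∀ w, w = i ∨ w = j ∨ w = a ∨ w = b ∨ w = c ∨ w = z) → b ≠ c → f a ≠ 0 := by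
          intro a b c hall'' bc' ha
          refine no_two_supp hH h6 hh hij hi hj hno hqi hqj bc' fun w wb wc => ?_
          rw [← hf]
          rcases hall'' w with rfl | rfl | rfl | rfl | rfl | rfl
          · exact fqi
          · exact fqj
          · exact ha
          · exact absurd rfl wb
          · exact absurd rfl wc
          · exact hz
        have fa := nza a b c hall' bc
        have fb := nza b a c (fun w => by rcases hall' w with h | h | h | h | h | h <;> simp [h]) ac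
        have fc := nza c a b (fun w => by rcases hall' w with h | h | h | h | h | h <;> simp [h]) ab
        have q1 := pairm a b c a1 a2 b1 b2 c1 c2 ab (Ne.symm ac) (Ne.symm bc) fa fb fc
        have q2 := pairm a c b a1 a2 c1 c2 b1 b2 ac (Ne.symm ab) bc fa fc fb
        have q3 := pairm b c a b1 b2 c1 c2 a1 a2 bc ab ac fb fc fa
        exact one_ne_zero (by linear_combination q1 + q2 + q3 - 4 * hs : (1 : F) = 0)
      refine ⟨?_, ?_, ?_, ?_⟩ <;> intro h0
      · exact three y l m x hy.1 hy.2.1 l1 l2 m1 m2 (Ne.symm l4) (Ne.symm m4) hlm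
          (fun w => by rcases hall w with h | h | h | h | h | h <;> simp [h]) (by linear_combination hsum - f x * h0) h0
      · exact three x l m y x1 x2 l1 l2 m1 m2 (Ne.symm l3) (Ne.symm m3) hlm
          (fun w => by rcases hall w with h | h | h | h | h | h <;> simp [h]) (by linear_combination hsum - f y * h0) h0
      · exact three x y m l x1 x2 hy.1 hy.2.1 m1 m2 (Ne.symm hy.2.2) (Ne.symm m3) (Ne.symm m4)
          (fun w => by rcases hall w with h | h | h | h | h | h <;> simp [h]) (by linear_combination hsum - f l * h0) h0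
      · exact three x y l m x1 x2 hy.1 hy.2.1 l1 l2 (Ne.symm hy.2.2) (Ne.symm l3) (Ne.symm l4)
          hall (by linear_combination hsum - f m * h0) h0
    obtain ⟨fx, fy, fl, fm⟩ := nz
    linear_combination pairm x y l x1 x2 hy.1 hy.2.1 l1 l2 (Ne.symm hy.2.2) l3 l4 fx fy fl +
      pairm x l y x1 x2 l1 l2 hy.1 hy.2.1 (Ne.symm l3) hy.2.2 (Ne.symm l4) fx fl fy -
      pairm y l x hy.1 hy.2.1 l1 l2 x1 x2 (Ne.symm l4) (Ne.symm hy.2.2) (Ne.symm l3) fy fl fx
  have full : ∀ x, x ≠ i → x ≠ j → f x ≠ 0 := fun x x1 x2 h0 => by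
    have := quarter x x1 x2
    rw [h0, mul_zero, mul_zero] at this
    exact zero_ne_one this
  have hknot : ∀ g : ι → F, g i = 0 → g j = 0 → g ⬝ᵥ g = 1 → (∀ x, x ≠ i → x ≠ j → g x ≠ 0) → ∀ X : ι → F,
      (∀ l, l ≠ i → l ≠ j → X l = 0) → X ⬝ᵥ X = 1 → ¬ Mono (R X * R g) := by
    intro g g1 g2 gg gne X hX hXX hm
    obtain ⟨x, hx⟩ := hH.fresh {i, j, c, d} Finset.card_le_four
    simp only [Finset.mem_insert, Finset.mem_singleton, not_or] at hx
    have hXg : X ⬝ᵥ g = 0 := by rw [dotProduct_comm, dot_two hij hX, g1, g2, zero_mul, zero_mul, add_zero]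
    refine hcd (hm.col (j := x) (i := c) (k := d) ?_ ?_) <;>
      rw [RR_apply h2 (by rw [hXX]; exact one_ne_zero) (by rw [gg]; exact one_ne_zero) hXg, e_dot, e_dot,
        hX x hx.1 hx.2.1, gg]
    · simp [Ne.symm hx.2.2.1, hX c c1 c2]
      exact ⟨⟨h2, gne x hx.1 hx.2.1⟩, gne c c1 c2⟩
    · simp [Ne.symm hx.2.2.2, hX d d1 d2]
      exact ⟨⟨h2, gne x hx.1 hx.2.1⟩, gne d d1 d2⟩
  have hknm : ¬ Mono k := by rw [hk]; exact hknot f fqi fqj hff full u hus huu
  -- a root fixed by `k`
  obtain ⟨σ, hσ, hfσ⟩ : ∃ σ : F, σ * σ = 1 ∧ f c + σ * f d = 0 := by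
    rcases mul_self_eq_mul_self_iff.1 (show f c * f c = f d * f d from mul_left_cancel₀ h4
      ((quarter c c1 c2).trans (quarter d d1 d2).symm)) with e1 | e1
    · exact ⟨-1, by ring, by rw [e1]; ring⟩
    · exact ⟨1, by ring, by rw [e1]; ring⟩
  have hkz : k.1 (e c + σ • e d) = e c + σ • e d := by
    rw [map_add, map_smul, hkc c c1 c2, hkc d d1 d2]
    rw [show f c = -(σ * f d) by linear_combination hfσ]
    module
  obtain ⟨x, hx⟩ := hH.fresh {i, j, c, d} Finset.card_le_four
  simp only [Finset.mem_insert, Finset.mem_singleton, not_or] at hx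
  obtain ⟨v, hv⟩ : ∃ v, v = k.1 (e i + (-1 : F) • e j) := ⟨_, rfl⟩
  have hkj : k.1 (e j) = e j - (2 * u j) • u := by rw [hkx, e_dot, e_dot, fqj]; simp
  have hvl : ∀ l, v l = e i l - 2 * u i * u l - (e j l - 2 * u j * u l) := fun l => by
    rw [hv, map_add, map_smul, hki, hkj]; simp; ring
  have hvs : ∀ l, l ≠ i → l ≠ j → v l = 0 := fun l l1 l2 => by
    rw [hvl, hus l l1 l2]; simp [l1, l2]
  have hv2 : v ⬝ᵥ v = 2 := by rw [hv, dot_oG _ h2, dot_root hij (by ring)]
  have hvM : Mono (R (e c + σ • e d : ι → F) * R v) := by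
    rw [hv, ← hkz, ← conj_RR]
    refine mono_of_col hH (mul_mem (mul_mem hkH (root_pair_mem hH hcd hij hσ (by ring))) (inv_mem hkH))
      (i := x) (j := x) (c := 1) ?_
    rw [conj_RR, hkz, ← hv, RR_apply h2 (root_ne_zero h2 hcd hσ) (by rw [hv2]; exact h2) (dot_supp fun l hl => by
        by_cases l1 : l = i
        · simp [l1, Ne.symm c1, Ne.symm d1]
        by_cases l2 : l = j
        · simp [l2, Ne.symm c2, Ne.symm d2]
        exact absurd (hvs l l1 l2) hl),
      e_dot, e_dot, hvs x hx.1 hx.2.1]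
    simp [hx.2.2.1, hx.2.2.2]
  obtain ⟨p, hp⟩ : ∃ p, p = u j * u j - u i * u i := ⟨_, rfl⟩
  obtain ⟨s, hs⟩ : ∃ s, s = 2 * u i * u j := ⟨_, rfl⟩
  have hvi : v i = p + s := by rw [hvl, hp, hs]; simp [hij]; linear_combination -hu1
  have hvj : v j = p - s := by rw [hvl, hp, hs]; simp [Ne.symm hij]; linear_combination hu1
  have hui : u i ≠ 0 ∧ u j ≠ 0 := by
    constructor <;> intro h0
    · refine nocoord i j (u j) (funext fun l => ?_)
      rw [← hu]
      rcases eq_or_ne l j with rfl | hl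
      · simp
      · rcases eq_or_ne l i with rfl | hl'
        · simp [h0, hl]
        · simp [hl, hus l hl' hl]
    · refine nocoord i i (u i) (funext fun l => ?_)
      rw [← hu]
      rcases eq_or_ne l i with rfl | hl
      · simp
      · rcases eq_or_ne l j with rfl | hl'
        · simp [h0, hl]
        · simp [hl, hus l hl hl']
  have hs0 : s ≠ 0 := by rw [hs]; exact mul_ne_zero (mul_ne_zero h2 hui.1) hui.2
  have hp0 : p ≠ 0 := by
    intro h0
    refine hknm (mono_of_col hH hkH (i := i) (j := j) (c := -s) ?_)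
    rw [hki]
    funext l
    rcases eq_or_ne l i with rfl | hl
    · simp [hij]
      linear_combination h0 - hu1 - hp
    rcases eq_or_ne l j with rfl | hl'
    · simp [Ne.symm hij, hs]
    · simp [hl, hl', hus l hl hl']
  have hps : p * p = s * s := by
    have hprod : v i * v j = 0 := by
      rcases shape h2 (root_ne_zero h2 hcd hσ) hv2 (fun l hl => by
        have : l = i ∨ l = j := by
          by_contra hn
          rw [not_or] at hn
          exact hl (hvs l hn.1 hn.2)
        rcases this with rfl | rfl <;> simp [Ne.symm c1, Ne.symm d1, Ne.symm c2, Ne.symm d2]) hvM with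
        ⟨z, a, hza, -⟩ | ⟨z, z', hzz, hz1, hz2, hz3⟩
      · rcases eq_or_ne z i with rfl | hz
        · rw [hza]; simp [Ne.symm hij]
        · rw [hza]; simp [Ne.symm hz]
      · exfalso
        have m : ∀ l, l = z ∨ l = z' → l = i ∨ l = j := by
          intro l hl
          by_contra hn
          rw [not_or] at hn
          rcases hl with rfl | rfl
          · rw [hvs l hn.1 hn.2, mul_zero] at hz1; exact zero_ne_one hz1
          · rw [hvs l hn.1 hn.2, mul_zero] at hz2; exact zero_ne_one hz2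
        have e12 : v i * v i = 1 ∧ v j * v j = 1 := by
          rcases m z (Or.inl rfl) with rfl | rfl <;> rcases m z' (Or.inr rfl) with rfl | rfl
          · exact absurd rfl hzz
          · exact ⟨hz1, hz2⟩
          · exact ⟨hz2, hz1⟩
          · exact absurd rfl hzz
        rw [hvi, hvj] at e12
        exact mul_ne_zero (mul_ne_zero h4 hp0) hs0 (by linear_combination e12.1 - e12.2)
    rw [hvi, hvj] at hprod
    linear_combination hprod
  -- one more conjugate
  obtain ⟨u', hu'⟩ : ∃ u', u' = k.1 (e i) := ⟨_, rfl⟩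
  obtain ⟨f', hf'⟩ : ∃ f', f' = k.1 (e c) := ⟨_, rfl⟩
  have hk'H : R u' * R f' ∈ H := by
    rw [hu', hf', ← conj_RR]; exact mul_mem (mul_mem hkH (hH.ee_mem i c)) (inv_mem hkH)
  have hu's : ∀ l, l ≠ i → l ≠ j → u' l = 0 := fun l l1 l2 => by
    rw [hu', hki]; simp [l1, hus l l1 l2]
  have hu'i : u' i = p := by rw [hu', hki, hp]; simp; linear_combination -hu1
  have hu'j : u' j = -s := by rw [hu', hki, hs]; simp [Ne.symm hij]
  have hf'v : f' = e c - (2 * f c) • f := by rw [hf', hkc c c1 c2]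
  have hu'u : u' ⬝ᵥ u' = 1 := by rw [hu', dot_oG _ h2, e_self]
  have hk'nm : ¬ Mono (R u' * R f') := by
    refine hknot f' (by simp [hf'v, fqi, Ne.symm c1]) (by simp [hf'v, fqj, Ne.symm c2])
      (by rw [hf', dot_oG _ h2, e_self]) (fun x x1 x2 => ?_) u' hu's hu'u
    rw [hf'v]
    rcases eq_or_ne x c with rfl | hxc
    · simp
      intro h0
      exact one_ne_zero (by linear_combination 2 * h0 + quarter x x1 x2 : (1 : F) = 0)
    · simp [hxc]
      exact ⟨⟨h2, full c c1 c2⟩, full x x1 x2⟩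
  refine hk'nm (mono_of_col hH hk'H (i := i) (j := j) (c := 2 * p * s) ?_)
  have hsum : p * p + s * s = 1 := by
    have := hu'u
    rw [dot_two hij hu's, hu'i, hu'j] at this
    linear_combination this
  have hff' : f' ⬝ᵥ f' = 1 := by rw [hf', dot_oG _ h2, e_self]
  rw [RR_apply h2 (by rw [hu'u]; exact one_ne_zero) (by rw [hff']; exact one_ne_zero)
      (by rw [hu', hf', dot_oG _ h2, dot_e, e_apply, if_neg c1]), hu'u, hff', e_dot,
    show (e i : ι → F) ⬝ᵥ f' = 0 by rw [e_dot, hf'v]; simp [fqi, Ne.symm c1]]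
  simp only [div_one, mul_zero, zero_smul, sub_zero]
  funext l
  rcases eq_or_ne l i with rfl | hl
  · simp [hij, hu'i]
    linear_combination -hsum - hps
  rcases eq_or_ne l j with rfl | hl'
  · simp [Ne.symm hij, hu'i, hu'j]
  · simp [hl, hl', hu's l hl hl']

end Cfsg.Agent.ClassicalMax.OrthMono
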