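import Cfsg.Agent.ClassicalMax.OrthMono.Six

/-!
Six coordinates: a pair of signs fixes a single frame.
-/

set_option autoImplicit false
set_option linter.unusedSectionVars false
set_option linter.style.haveILetI false

namespace Cfsg.Agent.ClassicalMax.OrthMono

open Module QuadraticMap Cfsg.Agent.Classical Cfsg.Agent.Classical.Quad Matrix

variable {F ι : Type*} [Field F] [Fintype ι] [DecidableEq ι] [Finite F] {H : Subgroup (oG (sq F ι))}

/-- two coordinate vectors going into a coordinate plane -/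
theorem mono_of_two (hH : Over H) (h6 : Fintype.card ι = 6) {h : oG (sq F ι)} (hh : h ∈ H) {s t i j : ι}
    (hst : s ≠ t) (hij : i ≠ j) (hs : ∀ l, l ≠ i → l ≠ j → h.1 (e s) l = 0)
    (ht : ∀ l, l ≠ i → l ≠ j → h.1 (e t) l = 0) : Mono h := by
  obtain ⟨n, hn, hm, e1, c, e2⟩ := hH.move hij hst
  have key : ∀ x : ι → F, (∀ l, l ≠ i → l ≠ j → x l = 0) → ∀ l, l ≠ s → l ≠ t → n.1 x l = 0 := by
    intro x hx l ls lt
    have hxd : x = x i • e i + x j • e j := funext fun k => by
      rcases eq_or_ne k i with rfl | hk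
      · simp [hij]
      rcases eq_or_ne k j with rfl | hk'
      · simp [hk]
      · simp [hk, hk', hx k hk hk']
    rw [hxd, map_add, map_smul, map_smul, e1, e2]
    simp [ls, lt]
  have hm' : Mono (n * h) := mono_of_plane hH h6 (mul_mem hn hh) hst
    (fun l ls lt => by rw [oG_mul_apply]; exact key _ hs l ls lt)
    (fun l ls lt => by rw [oG_mul_apply]; exact key _ ht l ls lt)
  have := hm.inv.mul hm'
  rwa [inv_mul_cancel_left] at this

theorem Mono.root_two {h : oG (sq F ι)} (hm : Mono h) (h2 : (2 : F) ≠ 0) {s t : ι} {σ : F} (hst : s ≠ t)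
    (hσ : σ * σ = 1) {p : ι} {C : F} : h.1 (e s + σ • e t) ≠ C • e p := by
  intro hv
  obtain ⟨a, x, ha⟩ := hm s
  obtain ⟨b, y, hb⟩ := hm t
  have hx := mul_self_ne h2 (Mono.unit h2 ha)
  have hy := mul_self_ne h2 (Mono.unit h2 hb)
  have hab : a ≠ b := by
    rintro rfl
    have h9 := dot_oG h h2 (e s) (e t)
    rw [ha, hb, smul_dotProduct, dotProduct_smul, e_self, dot_e, e_apply, if_neg (Ne.symm hst), smul_eq_mul,
      smul_eq_mul, mul_one] at h9
    exact mul_ne_zero hx hy h9
  rw [map_add, map_smul, ha, hb] at hv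
  rcases eq_or_ne a p with rfl | hap
  · have := congrFun hv b
    simp [Ne.symm hab, hy, mul_self_ne h2 hσ] at this
  · have := congrFun hv a
    simp [hab, hap, hx] at this

/-- a root never goes to a coordinate line -/
theorem root_coord (hH : Over H) (h6 : Fintype.card ι = 6) {h : oG (sq F ι)} (hh : h ∈ H) {s t p : ι} {σ C : F}
    (hst : s ≠ t) (hσ : σ * σ = 1) (hv : h.1 (e s + σ • e t) = C • e p) : False := by
  have h2 := hH.two
  have hC : C ≠ 0 := fun h0 => h2 (by
    have h9 := dot_oG h h2 (e s + σ • e t) (e s + σ • e t)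
    rw [hv, h0, zero_smul, zero_dotProduct, dot_root hst hσ] at h9
    exact h9.symm)
  have hσ' : -σ * -σ = 1 := by linear_combination hσ
  have hperp : (e s + -σ • e t : ι → F) ⬝ᵥ (e s + σ • e t) = 0 := by
    simp [hst, Ne.symm hst]
    linear_combination -hσ
  obtain ⟨y, hy⟩ : ∃ y, y = h.1 (e s + -σ • e t) := ⟨_, rfl⟩
  have hyp : y p = 0 := by
    have h9 := dot_oG h h2 (e s + -σ • e t) (e s + σ • e t)
    rw [hperp, hv, ← hy, dotProduct_smul, dot_e, smul_eq_mul] at h9
    exact (mul_eq_zero.1 h9).resolve_left hC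
  have hy2 : y ⬝ᵥ y = 2 := by rw [hy, dot_oG _ h2, dot_root hst hσ']
  have hm : Mono (R (e p) * R y) := by
    rw [← R_smul hC, ← hv, hy, ← conj_RR]
    refine mono_conj hH hh (root_pair_mem hH hst hst hσ hσ') (u := e s + σ • e t) (c := -1) hv hC ?_
    rw [RR_apply h2 (root_ne_zero h2 hst hσ) (root_ne_zero h2 hst hσ') (by rw [dotProduct_comm, hperp]),
      dot_root hst hσ, dot_root hst hσ', dotProduct_comm _ (e s + -σ • e t), hperp, mul_div_assoc, div_self h2, mul_one]
    simp only [mul_zero, zero_div, zero_smul, sub_zero]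
    module
  rcases shape h2 (X := e p) (by rw [e_self]; exact one_ne_zero) hy2
    (fun l hl => by rw [e_apply, if_neg]; rintro rfl; exact hl hyp) hm with
    ⟨x, a, hxa, haa⟩ | ⟨u, v, huv, hu1, hv1, hz⟩
  · -- the plane goes to a plane
    have hxp : p ≠ x := by
      rintro rfl
      rw [hxa] at hyp
      simp at hyp
      rw [hyp, mul_zero] at haa
      exact h2 haa.symm
    have key : ∀ l, l ≠ p → l ≠ x → h.1 (e s) l = 0 ∧ h.1 (e t) l = 0 := by
      intro l lp lx
      have a1 : h.1 (e s + σ • e t) l = 0 := by rw [hv]; simp [lp]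
      have a2 : h.1 (e s + -σ • e t) l = 0 := by rw [← hy, hxa]; simp [lx]
      rw [map_add, map_smul, Pi.add_apply, Pi.smul_apply, smul_eq_mul] at a1 a2
      have es : h.1 (e s) l = 0 := mul_left_cancel₀ h2 (by rw [mul_zero]; linear_combination a1 + a2)
      rw [es, zero_add] at a1
      exact ⟨es, (mul_eq_zero.1 a1).resolve_left (mul_self_ne h2 hσ)⟩
    exact (mono_of_two hH h6 hh hst hxp (fun l a b => (key l a b).1) (fun l a b => (key l a b).2)).root_two h2 hst hσ hv
  · -- the plane goes to a root plane, so the other four miss three positions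
    have hpu : p ≠ u := fun e' => by rw [← e', hyp, mul_zero] at hu1; exact zero_ne_one hu1
    have hpv : p ≠ v := fun e' => by rw [← e', hyp, mul_zero] at hv1; exact zero_ne_one hv1
    obtain ⟨q, r, hqr, hq, hr⟩ := hH.two_fresh {s, t} (le_trans Finset.card_le_two (by norm_num))
    simp only [Finset.mem_insert, Finset.mem_singleton, not_or] at hq hr
    obtain ⟨qs, qt⟩ := hq
    obtain ⟨rs, rt⟩ := hr
    obtain ⟨o, o', hoo, os, ot, oq, or', os', ot', oq', or'', hall⟩ :=
      six_last h6 hst (Ne.symm qs) (Ne.symm rs) (Ne.symm qt) (Ne.symm rt) hqr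
    -- an image is either inside the root plane or misses it
    have dich : ∀ a b : ι, ∀ τ : F, a ≠ b → τ * τ = 1 → a ≠ s → a ≠ t → b ≠ s → b ≠ t →
        h.1 (e a + τ • e b) p = 0 ∧
        ((h.1 (e a + τ • e b) u = 0 ∧ h.1 (e a + τ • e b) v = 0) ∨
          (h.1 (e a + τ • e b) u * h.1 (e a + τ • e b) u = 1 ∧ (∀ l, l ≠ u → l ≠ v → h.1 (e a + τ • e b) l = 0) ∧
            h.1 (e a + τ • e b) u * y u + h.1 (e a + τ • e b) v * y v = 0)) := by
      intro a b τ hab hτ as at' bs bt
      obtain ⟨zp, hs⟩ := root_shape hH hh hst hσ hv hab hτ as at' bs bt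
      refine ⟨zp, ?_⟩
      obtain ⟨z, hzdef⟩ : ∃ z, z = h.1 (e a + τ • e b) := ⟨_, rfl⟩
      rw [← hzdef] at hs ⊢
      have horth : z u * y u + z v * y v = 0 := by
        rw [← dot_two huv hz, hzdef, hy, dot_oG _ h2]
        simp [as, at', bs, bt]
      have hyu : y u ≠ 0 := mul_self_ne h2 hu1
      have hyv : y v ≠ 0 := mul_self_ne h2 hv1
      by_cases hzu : z u = 0
      · refine Or.inl ⟨hzu, ?_⟩
        rw [hzu, zero_mul, zero_add] at horth
        exact (mul_eq_zero.1 horth).resolve_right hyv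
      have hzv : z v ≠ 0 := fun h0 => by
        rw [h0, zero_mul, add_zero] at horth
        exact mul_ne_zero hzu hyu horth
      rcases hs with ⟨x, c, hc, -⟩ | ⟨x, x', -, hx1, hx2, hx3⟩
      · exfalso
        rw [hc] at hzu hzv
        simp only [Pi.smul_apply, smul_eq_mul, e_apply, mul_ite, mul_one, mul_zero, ne_eq, ite_eq_right_iff,
          Classical.not_imp] at hzu hzv
        exact huv (hzu.1.trans hzv.1.symm)
      · have m : ∀ k, z k ≠ 0 → k = x ∨ k = x' := fun k hk => by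
          by_contra hn
          rw [not_or] at hn
          exact hk (hx3 k hn.1 hn.2)
        refine Or.inr ⟨?_, fun l lu lv => ?_, horth⟩
        · rcases m u hzu with e' | e' <;> rw [e'] <;> assumption
        · by_contra hl
          rcases m u hzu with e1 | e1 <;> rcases m v hzv with e2 | e2 <;> rcases m l hl with e3 | e3 <;>
            first | exact huv (e1.trans e2.symm) | exact lu (e3.trans e1.symm) | exact lv (e3.trans e2.symm)
    -- two adjacent roots both miss the root plane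
    have chain : ∀ a b c : ι, ∀ τ : F, a ≠ b → b ≠ c → a ≠ c → τ * τ = 1 → a ≠ s → a ≠ t → b ≠ s → b ≠ t → c ≠ s →
        c ≠ t → (h.1 (e a + τ • e b) u = 0 ∧ h.1 (e a + τ • e b) v = 0) ∧
          (h.1 (e b + (-1 : F) • e c) u = 0 ∧ h.1 (e b + (-1 : F) • e c) v = 0) := by
      intro a b c τ hab hbc hac hτ as at' bs bt cs ct
      obtain ⟨-, d1⟩ := dich a b τ hab hτ as at' bs bt
      obtain ⟨-, d2⟩ := dich b c (-1) hbc (by ring) bs bt cs ct
      have hd : h.1 (e a + τ • e b) ⬝ᵥ h.1 (e b + (-1 : F) • e c) = τ := by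
        rw [dot_oG _ h2]
        simp [hab, Ne.symm hbc, hac, Ne.symm hab, hbc, Ne.symm hac]
      rcases d1 with d1 | ⟨a1, a2, a3⟩
      · refine ⟨d1, ?_⟩
        rcases d2 with d2 | ⟨-, b2, -⟩
        · exact d2
        · exfalso
          rw [dot_two huv b2, d1.1, d1.2, zero_mul, zero_mul, add_zero] at hd
          exact mul_self_ne h2 hτ hd.symm
      · exfalso
        rcases d2 with d2 | ⟨b1, b2, b3⟩
        · rw [dotProduct_comm, dot_two huv a2, d2.1, d2.2, zero_mul, zero_mul, add_zero] at hd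
          exact mul_self_ne h2 hτ hd.symm
        · -- both inside: proportional
          obtain ⟨w, hw⟩ : ∃ w : F, h.1 (e a + τ • e b) = w • h.1 (e b + (-1 : F) • e c) := by
            refine ⟨h.1 (e a + τ • e b) u * h.1 (e b + (-1 : F) • e c) u, funext fun l => ?_⟩
            rcases eq_or_ne l u with rfl | lu
            · simp only [Pi.smul_apply, smul_eq_mul]
              linear_combination -(h.1 (e a + τ • e b) l) * b1
            rcases eq_or_ne l v with rfl | lv
            · simp only [Pi.smul_apply, smul_eq_mul]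
              refine mul_right_cancel₀ (mul_self_ne h2 hv1) ?_
              linear_combination a3 - (h.1 (e a + τ • e b) u * h.1 (e b + (-1 : F) • e c) u) * b3 +
                (h.1 (e a + τ • e b) u * y u) * b1
            · rw [Pi.smul_apply, a2 l lu lv, b2 l lu lv, smul_zero]
          have := congrArg h⁻¹.1 hw
          rw [map_smul, oG_inv_apply, oG_inv_apply] at this
          have h3 := congrFun this a
          simp [hab, Ne.symm hab, hac, Ne.symm hac] at h3
    have c1 := chain q r o (-1) hqr (Ne.symm or') (Ne.symm oq) (by ring) qs qt rs rt os ot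
    have c2 := chain q r o 1 hqr (Ne.symm or') (Ne.symm oq) (by ring) qs qt rs rt os ot
    have c3 := chain q r o' 1 hqr (Ne.symm or'') (Ne.symm oq') (by ring) qs qt rs rt os' ot'
    have vanish : ∀ a, a ≠ s → a ≠ t → h.1 (e a) p = 0 ∧ h.1 (e a) u = 0 ∧ h.1 (e a) v = 0 := by
      intro a as at'
      have hp0 : h.1 (e a) p = 0 := by
        have h9 := dot_oG h h2 (e a) (e s + σ • e t)
        rw [hv, dotProduct_smul, dot_e, smul_eq_mul] at h9
        simp [Ne.symm as, Ne.symm at', as, at'] at h9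
        exact h9.resolve_left hC
      obtain ⟨⟨m1, m2⟩, ⟨n1, n2⟩⟩ := c1
      obtain ⟨⟨p1, p2⟩, -⟩ := c2
      obtain ⟨-, ⟨o1, o2⟩⟩ := c3
      simp only [map_add, map_smul, Pi.add_apply, Pi.smul_apply, smul_eq_mul, one_mul, neg_one_mul] at m1 m2 n1 n2 p1 p2 o1 o2
      have q1 : h.1 (e q) u = 0 := mul_left_cancel₀ h2 (by rw [mul_zero]; linear_combination m1 + p1)
      have q2 : h.1 (e q) v = 0 := mul_left_cancel₀ h2 (by rw [mul_zero]; linear_combination m2 + p2)
      refine ⟨hp0, ?_⟩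
      rcases hall a with rfl | rfl | rfl | rfl | rfl | rfl
      · exact absurd rfl as
      · exact absurd rfl at'
      · exact ⟨q1, q2⟩
      · exact ⟨by linear_combination p1 - q1, by linear_combination p2 - q2⟩
      · exact ⟨by linear_combination p1 - q1 - n1, by linear_combination p2 - q2 - n2⟩
      · exact ⟨by linear_combination p1 - q1 - o1, by linear_combination p2 - q2 - o2⟩
    -- hence three orthogonal rows in a plane
    have row : ∀ k a, h⁻¹.1 (e k) a = h.1 (e a) k := fun k a => by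
      rw [← e_dot (h⁻¹.1 (e k)) a, ← dot_oG h h2, oG_apply_inv, dot_e]
    have hn : ∀ k, h⁻¹.1 (e k : ι → F) ⬝ᵥ h⁻¹.1 (e k) = 1 := fun k => by rw [dot_oG _ h2, e_self]
    have ho : ∀ k k', k ≠ k' → h⁻¹.1 (e k : ι → F) ⬝ᵥ h⁻¹.1 (e k') = 0 := fun k k' hk => by
      rw [dot_oG _ h2, dot_e, e_apply, if_neg (Ne.symm hk)]
    have key := perp_plane (x := h⁻¹.1 (e u)) (y := h⁻¹.1 (e v)) (z := h⁻¹.1 (e p)) hst
      (fun l a b => by rw [row]; exact (vanish l a b).2.1) (fun l a b => by rw [row]; exact (vanish l a b).2.2)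
      (by rw [hn]; exact one_ne_zero) (by rw [hn]; exact one_ne_zero) (ho u v huv) (ho p u hpu) (ho p v hpv)
    refine zero_ne_one (α := F) ?_
    rw [← hn p, dot_two hst (fun l a b => by rw [row]; exact (vanish l a b).1), key.1, key.2]
    ring

theorem diag_of_mono (hH : Over H) {h : oG (sq F ι)} {i j : ι} (hm : Mono h) {μ : oG (sq F ι)}
    (hμ : h⁻¹ * (R (e i : ι → F) * R (e j : ι → F)) * h = μ) (s : ι) : ∃ c : F, μ.1 (e s) = c • e s := by
  obtain ⟨t, c, hc⟩ := hm s
  refine ⟨(if t = j then -1 else 1) * (if t = i then -1 else 1), ?_⟩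
  have hone : ∀ a : ι, (R (e a : ι → F)).1 (e t) = (if t = a then (-1 : F) else 1) • e t := fun a => by
    rw [R_e_apply hH.two]
    funext l
    by_cases hl : l = a
    · subst hl
      by_cases htl : t = l <;> simp [htl, eq_comm]
    · by_cases hta : t = a
      · subst hta; simp [hl]
      · simp [hl, hta]
  apply h.1.injective
  rw [← hμ, oG_mul_apply, oG_mul_apply, oG_apply_inv, hc, map_smul, map_smul, hc, oG_mul_apply, hone, map_smul,
    hone, smul_smul, smul_smul, smul_smul]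
  congr 1
  ring

/-- a pair of signs fixes a single frame -/
theorem lone_pair (hH : Over H) (h6 : Fintype.card ι = 6) {h : oG (sq F ι)} (hh : h ∈ H) {i j : ι} (hij : i ≠ j)
    (hm : Mono (h⁻¹ * (R (e i : ι → F) * R (e j : ι → F)) * h)) : Mono h := by
  have h2 := hH.two
  have one_ne : ∀ k : ι, (e k : ι → F) ⬝ᵥ e k ≠ 0 := fun k => by rw [e_self]; exact one_ne_zero
  obtain ⟨a, ha⟩ : ∃ a, a = h⁻¹.1 (e i) := ⟨_, rfl⟩
  obtain ⟨b, hb⟩ : ∃ b, b = h⁻¹.1 (e j) := ⟨_, rfl⟩
  obtain ⟨μ, hμ⟩ : ∃ μ, μ = R a * R b := ⟨_, rfl⟩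
  have hμe : h⁻¹ * (R (e i : ι → F) * R (e j : ι → F)) * h = μ := by
    rw [hμ, ha, hb, ← conj_RR, inv_inv]
  rw [hμe] at hm
  have haa : a ⬝ᵥ a = 1 := by rw [ha, dot_oG _ h2, e_self]
  have hbb : b ⬝ᵥ b = 1 := by rw [hb, dot_oG _ h2, e_self]
  have hab : a ⬝ᵥ b = 0 := by rw [ha, hb, dot_oG _ h2, dot_e, e_apply, if_neg (Ne.symm hij)]
  have hμx : ∀ x : ι → F, μ.1 x = x - (2 * (x ⬝ᵥ a)) • a - (2 * (x ⬝ᵥ b)) • b := fun x => by
    rw [hμ, RR_apply h2 (by rw [haa]; exact one_ne_zero) (by rw [hbb]; exact one_ne_zero) hab, haa, hbb]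
    simp
  have hμh : ∀ x : ι → F, h.1 (μ.1 x) = (R (e i : ι → F) * R (e j : ι → F)).1 (h.1 x) := fun x => by
    rw [← hμe, oG_mul_apply, oG_mul_apply, oG_apply_inv]
  have eei : ∀ X : ι → F, (R (e i : ι → F) * R (e j : ι → F)).1 X = fun l => if l = i ∨ l = j then -X l else X l := fun X => by
    funext l
    rw [RR_apply h2 (one_ne i) (one_ne j) (by rw [dot_e, e_apply, if_neg (Ne.symm hij)]), e_self, e_self, dot_e, dot_e]
    rcases eq_or_ne l i with rfl | hl
    · simp [hij]; ring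
    rcases eq_or_ne l j with rfl | hl'
    · simp [hl]; ring
    · simp [hl, hl']
  by_cases hdiag : ∀ l, ∃ c : F, μ.1 (e l) = c • e l
  · -- diagonal
    have plane : ∀ l, a l ≠ 0 ∨ b l ≠ 0 → ∀ k, k ≠ i → k ≠ j → h.1 (e l) k = 0 := by
      intro l hl k ki kj
      obtain ⟨c, hc⟩ := hdiag l
      rw [hμx, e_dot, e_dot] at hc
      have hc1 : (1 : F) - c ≠ 0 := fun h0 => by
        have hs : (2 * a l) • a + (2 * b l) • b = (0 : ι → F) := by
          rw [show c = 1 by linear_combination -h0, one_smul] at hc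
          funext m
          have := congrFun hc m
          simp at this ⊢
          linear_combination -this
        have e1 := congrArg (fun x => x ⬝ᵥ a) hs
        have e2 := congrArg (fun x => x ⬝ᵥ b) hs
        simp [add_dotProduct, smul_dotProduct, haa, hbb, hab, show b ⬝ᵥ a = 0 by rw [dotProduct_comm]; exact hab,
          h2] at e1 e2
        exact hl.elim (fun h => h e1) (fun h => h e2)
      have hle : (1 - c) • (e l : ι → F) = (2 * a l) • a + (2 * b l) • b := by
        funext m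
        have := congrFun hc m
        simp at this ⊢
        linear_combination this
      have := congrArg (fun x => h.1 x k) hle
      simp only [map_add, map_smul, ha, hb, oG_apply_inv] at this
      simp [ki, kj] at this
      exact this.resolve_left hc1
    obtain ⟨s, hs⟩ : ∃ s, a s ≠ 0 := by
      by_contra! hc
      rw [show a = 0 from funext hc, zero_dotProduct] at haa
      exact zero_ne_one haa
    obtain ⟨t, hts, ht⟩ : ∃ t, t ≠ s ∧ (a t ≠ 0 ∨ b t ≠ 0) := by
      by_contra! hc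
      have ea : a = a s • e s := funext fun l => by
        rcases eq_or_ne l s with rfl | hl
        · simp
        · simp [hl, (hc l hl).1]
      have eb : b = b s • e s := funext fun l => by
        rcases eq_or_ne l s with rfl | hl
        · simp
        · simp [hl, (hc l hl).2]
      rw [ea, eb, smul_dotProduct, dotProduct_smul, e_self, smul_eq_mul, smul_eq_mul, mul_one] at hab
      have hb0 : b s ≠ 0 := fun h0 => by rw [eb, h0, zero_smul, zero_dotProduct] at hbb; exact zero_ne_one hbb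
      exact mul_ne_zero hs hb0 hab
    exact mono_of_two hH h6 hh (Ne.symm hts) hij (plane s (Or.inl hs)) (plane t ht)
  -- two swapped coordinates
  exfalso
  push Not at hdiag
  obtain ⟨s, hs⟩ := hdiag
  obtain ⟨t, c, hc⟩ := hm s
  have hst : s ≠ t := fun e' => hs c (by rw [hc, e'])
  have hcc : c * c = 1 := Mono.unit h2 hc
  have hμμ : ∀ x : ι → F, μ.1 (μ.1 x) = x := fun x => by
    rw [← oG_mul_apply, hμ]
    nth_rewrite 2 [RR_comm h2 (by rw [haa]; exact one_ne_zero) hab]
    rw [mul_assoc, R_mul_cancel, R_mul_self]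
    rfl
  have hct : μ.1 (e t) = c • e s := by
    have h9 := hμμ (e s)
    rw [hc, map_smul] at h9
    calc μ.1 (e t) = (c * c) • μ.1 (e t) := by rw [hcc, one_smul]
      _ = _ := by rw [← smul_smul, h9]
  have hc' : -c * -c = 1 := by linear_combination hcc
  -- eigenvectors of the conjugate
  have negs : ∀ x : ι → F, μ.1 x = -x → ∀ l, l ≠ i → l ≠ j → h.1 x l = 0 := fun x hx l li lj => by
    have h9 := congrFun (hμh x) l
    rw [hx, map_neg, eei] at h9
    simp [li, lj] at h9
    exact mul_left_cancel₀ h2 (by rw [mul_zero]; linear_combination -h9)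
  have hμv : μ.1 (e s + -c • e t) = -(e s + -c • e t) := by
    rw [map_add, map_smul, hc, hct, smul_smul, show -c * c = -1 by linear_combination -hcc]
    module
  have hμw : μ.1 (e s + c • e t) = e s + c • e t := by
    rw [map_add, map_smul, hc, hct, smul_smul, hcc, one_smul, add_comm]
  obtain ⟨V, hV⟩ : ∃ V, V = h.1 (e s + -c • e t) := ⟨_, rfl⟩
  obtain ⟨W, hW⟩ : ∃ W, W = h.1 (e s + c • e t) := ⟨_, rfl⟩
  have hVs : ∀ l, l ≠ i → l ≠ j → V l = 0 := by rw [hV]; exact negs _ hμv
  have hWs : W i = 0 ∧ W j = 0 := by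
    have h9 := hμh (e s + c • e t)
    rw [hμw, ← hW, eei] at h9
    constructor
    · have := congrFun h9 i
      simp at this
      exact mul_left_cancel₀ h2 (by rw [mul_zero]; linear_combination this)
    · have := congrFun h9 j
      simp at this
      exact mul_left_cancel₀ h2 (by rw [mul_zero]; linear_combination this)
  have hVV : V ⬝ᵥ V = 2 := by rw [hV, dot_oG _ h2, dot_root hst hc']
  have hWW : W ⬝ᵥ W = 2 := by rw [hW, dot_oG _ h2, dot_root hst hcc]
  have hV0 : V i ≠ 0 ∧ V j ≠ 0 := by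
    constructor <;> intro h0
    · refine root_coord hH h6 hh hst hc' (p := j) (C := V j) ?_
      rw [← hV]
      funext l
      rcases eq_or_ne l j with rfl | hl
      · simp
      rcases eq_or_ne l i with rfl | hl'
      · simp [h0, hl]
      · simp [hl, hVs l hl' hl]
    · refine root_coord hH h6 hh hst hc' (p := i) (C := V i) ?_
      rw [← hV]
      funext l
      rcases eq_or_ne l i with rfl | hl
      · simp
      rcases eq_or_ne l j with rfl | hl'
      · simp [h0, hl]
      · simp [hl, hVs l hl hl']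
  -- the entries on the plane are signs
  have hVW : ∀ l, V l ≠ 0 → W l = 0 := fun l hl => by
    by_cases l1 : l = i
    · rw [l1]; exact hWs.1
    by_cases l2 : l = j
    · rw [l2]; exact hWs.2
    exact absurd (hVs l l1 l2) hl
  have hV1 : V i * V i = 1 ∧ V j * V j = 1 := by
    have hM : Mono (R W * R V) := by
      have hmem : R W * R V ∈ H := by
        rw [hW, hV, ← conj_RR]
        exact mul_mem (mul_mem hh (root_pair_mem hH hst hst hcc hc')) (inv_mem hh)
      refine mono_of_plane hH h6 hmem hij ?_ ?_ <;>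
      · intro l li lj
        rw [RR_apply h2 (by rw [hWW]; exact h2) (by rw [hVV]; exact h2) (dot_supp hVW), e_dot, e_dot]
        simp [hWs.1, hWs.2, li, lj, hVs l li lj]
    rcases shape h2 (by rw [hWW]; exact h2) hVV hVW hM with ⟨x, a', hxa, -⟩ | ⟨x, z, hxz, hx1, hz1, hz⟩
    · rw [hxa] at hV0
      simp only [Pi.smul_apply, smul_eq_mul, e_apply, mul_ite, mul_one, mul_zero, ne_eq, ite_eq_right_iff,
        Classical.not_imp] at hV0
      exact absurd (hV0.1.1.trans hV0.2.1.symm) hij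
    · have m : ∀ k, V k ≠ 0 → k = x ∨ k = z := fun k hk => by
        by_contra hn
        rw [not_or] at hn
        exact hk (hz k hn.1 hn.2)
      rcases m i hV0.1 with e1 | e1 <;> rcases m j hV0.2 with e2 | e2
      · exact absurd (e1.trans e2.symm) hij
      · exact ⟨e1 ▸ hx1, e2 ▸ hz1⟩
      · exact ⟨e1 ▸ hz1, e2 ▸ hx1⟩
      · exact absurd (e1.trans e2.symm) hij
  -- the second negative root
  obtain ⟨σ, hσ0⟩ : ∃ σ : F, σ = -(V i * V j) := ⟨_, rfl⟩
  have hσ : σ * σ = 1 := by rw [hσ0]; linear_combination (V j * V j) * hV1.1 + hV1.2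
  obtain ⟨Y, hY⟩ : ∃ Y : ι → F, Y = e i + σ • e j := ⟨_, rfl⟩
  have hYY : Y ⬝ᵥ Y = 2 := by rw [hY]; exact dot_root hij hσ
  have hYs : ∀ l, l ≠ i → l ≠ j → Y l = 0 := fun l li lj => by rw [hY]; simp [li, lj]
  have hYV : V ⬝ᵥ Y = 0 := by
    rw [dot_two hij hYs, hY, hσ0]
    simp [hij, Ne.symm hij]
    linear_combination -(V i) * hV1.2
  obtain ⟨v', hv'⟩ : ∃ v', v' = h⁻¹.1 Y := ⟨_, rfl⟩
  have hhv' : h.1 v' = Y := by rw [hv', oG_apply_inv]
  have hμv' : μ.1 v' = -v' := by
    have h9 := hμh v'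
    rw [hhv', eei] at h9
    have h10 : h.1 (μ.1 v') = h.1 (-v') := by
      rw [h9, map_neg, hhv']
      funext l
      by_cases hl : l = i ∨ l = j
      · simp [hl]
      · rw [not_or] at hl
        simp [hl, hYs l hl.1 hl.2]
    exact h.1.injective h10
  have hv'2 : v' ⬝ᵥ v' = 2 := by rw [hv', dot_oG _ h2, hYY]
  have hv'v : v' ⬝ᵥ (e s + -c • e t) = 0 := by
    rw [← dot_oG h h2, hhv', ← hV, dotProduct_comm, hYV]
  have hv'w : v' ⬝ᵥ (e s + c • e t) = 0 := by
    have h9 := dot_oG μ h2 v' (e s + c • e t)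
    rw [hμv', hμw, neg_dotProduct] at h9
    exact mul_left_cancel₀ h2 (by rw [mul_zero]; linear_combination -h9)
  simp [dotProduct_add, dotProduct_smul, dot_e] at hv'v hv'w
  have hv's : v' s = 0 := mul_left_cancel₀ h2 (by rw [mul_zero]; linear_combination hv'v + hv'w)
  have hv't : v' t = 0 := by
    rw [hv's, zero_add] at hv'w
    exact (mul_eq_zero.1 hv'w).resolve_left (mul_self_ne h2 hcc)
  have hμeq : μ = R (e s + -c • e t : ι → F) * R v' := by
    have e1 : R V * R Y = R (e i : ι → F) * R (e j : ι → F) :=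
      RR_plane h2 hij hVs hYs (by rw [hVV]; exact h2) (by rw [hYY]; exact h2) hYV
    rw [← hμe, ← e1, hV, ← hhv', ← conj_RR]
    group
  have hmv : Mono (R (e s + -c • e t : ι → F) * R v') := hμeq ▸ hm
  rcases shape h2 (root_ne_zero h2 hst hc') hv'2 (fun l hl => by
    rcases eq_or_ne l s with rfl | ls
    · exact absurd hv's hl
    rcases eq_or_ne l t with rfl | lt
    · exact absurd hv't hl
    · simp [ls, lt]) hmv with ⟨r, a', hra, -⟩ | ⟨s', t', hst', hs1, ht1, hz'⟩
  · exact root_coord hH h6 (inv_mem hh) hij hσ (by rw [← hY, ← hv', hra] : h⁻¹.1 (e i + σ • e j) = a' • e r)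
  have s's : s' ≠ s := fun e' => by rw [e', hv's, mul_zero] at hs1; exact zero_ne_one hs1
  have s't : s' ≠ t := fun e' => by rw [e', hv't, mul_zero] at hs1; exact zero_ne_one hs1
  have t's : t' ≠ s := fun e' => by rw [e', hv's, mul_zero] at ht1; exact zero_ne_one ht1
  have t't : t' ≠ t := fun e' => by rw [e', hv't, mul_zero] at ht1; exact zero_ne_one ht1
  obtain ⟨d, hd⟩ : ∃ d : F, d = v' s' * v' t' := ⟨_, rfl⟩
  have hdd : d * d = 1 := by rw [hd]; linear_combination (v' t' * v' t') * hs1 + ht1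
  obtain ⟨Y1, hY1⟩ : ∃ Y1, Y1 = h.1 (e s' + d • e t') := ⟨_, rfl⟩
  have hY1v : Y1 = v' s' • Y := by
    rw [hY1, ← hhv', ← map_smul]
    congr 1
    funext l
    rcases eq_or_ne l s' with rfl | l1
    · simp [hst']
      linear_combination -hs1
    rcases eq_or_ne l t' with rfl | l2
    · simp [l1, hd]
    · simp [l1, l2, hz' l l1 l2]
  obtain ⟨W1, hW1⟩ : ∃ W1, W1 = h.1 (e s' + -d • e t') := ⟨_, rfl⟩
  have hdd' : -d * -d = 1 := by linear_combination hdd
  have hW1s : W1 i = 0 ∧ W1 j = 0 := by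
    refine perp_plane hij hVs hYs (by rw [hVV]; exact h2) (by rw [hYY]; exact h2) hYV ?_ ?_
    · rw [hW1, hV, dot_oG _ h2]
      simp [s's, s't, t's, t't]
    · have h9 : W1 ⬝ᵥ Y1 = 0 := by
        rw [hW1, hY1, dot_oG _ h2]
        simp [hst', Ne.symm hst']
        linear_combination -hdd
      rw [hY1v, dotProduct_smul, smul_eq_mul] at h9
      exact (mul_eq_zero.1 h9).resolve_left (mul_self_ne h2 hs1)
  obtain ⟨e5, e6, h56, a1, a2, a3, a4, b1, b2, b3, b4, hall⟩ :=
    six_last h6 hst (Ne.symm s's) (Ne.symm t's) (Ne.symm s't) (Ne.symm t't) hst'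
  have off : ∀ x, x ≠ s → x ≠ t → x ≠ s' → x ≠ t' → h.1 (e x) i = 0 ∧ h.1 (e x) j = 0 := by
    intro x xs xt xs' xt'
    refine perp_plane hij hVs hYs (by rw [hVV]; exact h2) (by rw [hYY]; exact h2) hYV ?_ ?_
    · rw [hV, dot_oG _ h2]
      simp [xs, xt]
    · rw [← hhv', dot_oG _ h2, e_dot]
      exact hz' x xs' xt'
  -- a root meeting both pairs has a coordinate part outside the plane
  have one_four : ∀ (a' b' : ι) (τ : F), (a' = s ∨ a' = t) → b' = s' → τ * τ = 1 →
      h.1 (e a' + τ • e b') i = 0 → h.1 (e a' + τ • e b') j ≠ 0 →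
      ∀ k l, k ≠ j → l ≠ j → h.1 (e a' + τ • e b') k ≠ 0 → h.1 (e a' + τ • e b') l ≠ 0 → k = l := by
    intro a' b' τ ha' hb' hτ zi zj k l kj lj zk zl
    subst hb'
    have hab' : a' ≠ b' := by
      rcases ha' with rfl | rfl
      · exact Ne.symm s's
      · exact Ne.symm s't
    have a5 : a' ≠ e5 ∧ a' ≠ e6 := by
      rcases ha' with rfl | rfl
      · exact ⟨Ne.symm a1, Ne.symm b1⟩
      · exact ⟨Ne.symm a2, Ne.symm b2⟩
    have hr56 : h.1 (e e5 + (-1 : F) • e e6) i = 0 ∧ h.1 (e e5 + (-1 : F) • e e6) j = 0 := by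
      obtain ⟨x1, x2⟩ := off e5 a1 a2 a3 a4
      obtain ⟨y1, y2⟩ := off e6 b1 b2 b3 b4
      simp [x1, x2, y1, y2]
    have hz2 : h.1 (e a' + τ • e b') ⬝ᵥ h.1 (e a' + τ • e b') = 2 := by rw [dot_oG _ h2, dot_root hab' hτ]
    have hr2 : h.1 (e e5 + (-1 : F) • e e6) ⬝ᵥ h.1 (e e5 + (-1 : F) • e e6) ≠ 0 := by
      rw [dot_oG _ h2, dot_root h56 (by ring)]; exact h2
    have horth : h.1 (e e5 + (-1 : F) • e e6) ⬝ᵥ h.1 (e a' + τ • e b') = 0 := by
      rw [dot_oG _ h2]
      simp [a5.1, a5.2, Ne.symm a5.1, Ne.symm a5.2, a3, b3, Ne.symm a3, Ne.symm b3]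
    have hcol : ∀ m x : ι, h.1 (e e5 + (-1 : F) • e e6) m = 0 →
        (R (h.1 (e e5 + (-1 : F) • e e6)) * R (h.1 (e a' + τ • e b'))).1 (e m) x =
          e (F := F) m x - h.1 (e a' + τ • e b') m * h.1 (e a' + τ • e b') x := by
      intro m x hm0
      rw [RR_apply h2 hr2 (by rw [hz2]; exact h2) horth, e_dot, e_dot, hm0, hz2,
        show 2 * h.1 (e a' + τ • e b') m / 2 = h.1 (e a' + τ • e b') m by field_simp]
      simp only [mul_zero, zero_div, zero_smul, sub_zero, Pi.sub_apply, Pi.smul_apply, smul_eq_mul]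
    have hM : Mono (R (h.1 (e e5 + (-1 : F) • e e6)) * R (h.1 (e a' + τ • e b'))) := by
      rw [← conj_RR]
      refine mono_of_col hH (mul_mem (mul_mem hh (root_pair_mem hH h56 hab' (by ring) hτ)) (inv_mem hh))
        (i := i) (j := i) (c := 1) ?_
      rw [conj_RR, one_smul]
      funext x
      rw [hcol i x hr56.1, zi, zero_mul, sub_zero]
    refine hM.col (j := j) ?_ ?_ <;> rw [hcol j _ hr56.2, e_apply, if_neg (by assumption), zero_sub]
    exacts [neg_ne_zero.2 (mul_ne_zero zj zk), neg_ne_zero.2 (mul_ne_zero zj zl)]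
  have hVi := mul_self_ne h2 hV1.1
  have hVj := mul_self_ne h2 hV1.2
  obtain ⟨τ, hτ0⟩ : ∃ τ : F, τ = V i * v' s' := ⟨_, rfl⟩
  have hτ : τ * τ = 1 := by rw [hτ0]; linear_combination (v' s' * v' s') * hV1.1 + hs1
  have hes : ∀ l, 2 * h.1 (e s) l = V l + W l := fun l => by rw [hV, hW]; simp; ring
  have het : ∀ l, 2 * c * h.1 (e t) l = W l - V l := fun l => by rw [hV, hW]; simp; ring
  have hes' : ∀ l, 2 * h.1 (e s') l = v' s' * Y l + W1 l := fun l => by
    have h9 : Y1 l = v' s' * Y l := by rw [hY1v]; simp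
    rw [hY1] at h9
    rw [hW1]
    simp at h9 ⊢
    linear_combination h9
  have hzr : ∀ l, 2 * h.1 (e s + -τ • e s') l = V l + W l - τ * (v' s' * Y l + W1 l) := fun l => by
    rw [← hes, ← hes']; simp; ring
  have hzr' : ∀ l, 2 * c * h.1 (e t + (c * τ) • e s') l = W l - V l + τ * (v' s' * Y l + W1 l) := fun l => by
    rw [← het, ← hes']; simp; linear_combination (2 * τ * h.1 (e s') l) * hcc
  have hyi : Y i = 1 := by rw [hY]; simp [hij]
  have hyj : Y j = σ := by rw [hY]; simp [Ne.symm hij]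
  have k1 : ∀ k l, k ≠ j → l ≠ j → W k - τ * W1 k ≠ 0 → W l - τ * W1 l ≠ 0 → k = l := by
    intro k l kj lj zk zl
    by_cases ki : k = i
    · exact absurd (by rw [ki, hWs.1, hW1s.1]; ring) zk
    by_cases li : l = i
    · exact absurd (by rw [li, hWs.1, hW1s.1]; ring) zl
    refine one_four s s' (-τ) (Or.inl rfl) rfl (by linear_combination hτ) ?_ ?_ k l kj lj ?_ ?_
    · refine mul_left_cancel₀ h2 ?_
      rw [hzr, mul_zero, hWs.1, hW1s.1, hyi, hτ0]
      linear_combination -(V i) * hs1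
    · refine fun h0 => hVj (mul_left_cancel₀ h2 ?_)
      have h9 := hzr j
      rw [h0, hWs.2, hW1s.2, hyj, hτ0, hσ0] at h9
      linear_combination -h9 - (V i * V i * V j) * hs1 - V j * hV1.1
    · intro h0
      have h9 := hzr k
      rw [h0, hVs k ki kj, hYs k ki kj] at h9; exact zk (by linear_combination -h9)
    · intro h0
      have h9 := hzr l
      rw [h0, hVs l li lj, hYs l li lj] at h9; exact zl (by linear_combination -h9)
  have k2 : ∀ k l, k ≠ j → l ≠ j → W k + τ * W1 k ≠ 0 → W l + τ * W1 l ≠ 0 → k = l := by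
    intro k l kj lj zk zl
    by_cases ki : k = i
    · exact absurd (by rw [ki, hWs.1, hW1s.1]; ring) zk
    by_cases li : l = i
    · exact absurd (by rw [li, hWs.1, hW1s.1]; ring) zl
    have h2c : 2 * c ≠ 0 := mul_ne_zero h2 (mul_self_ne h2 hcc)
    refine one_four t s' (c * τ) (Or.inr rfl) rfl (by linear_combination (τ * τ) * hcc + hτ) ?_ ?_ k l kj lj ?_ ?_
    · refine mul_left_cancel₀ h2c ?_
      rw [hzr', mul_zero, hWs.1, hW1s.1, hyi, hτ0]
      linear_combination (V i) * hs1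
    · refine fun h0 => hVj (mul_left_cancel₀ h2 ?_)
      have h9 := hzr' j
      rw [h0, hWs.2, hW1s.2, hyj, hτ0, hσ0] at h9
      linear_combination h9 - (V i * V i * V j) * hs1 - V j * hV1.1
    · intro h0
      have h9 := hzr' k
      rw [h0, hVs k ki kj, hYs k ki kj] at h9; exact zk (by linear_combination -h9)
    · intro h0
      have h9 := hzr' l
      rw [h0, hVs l li lj, hYs l li lj] at h9; exact zl (by linear_combination -h9)
  -- the four roots span two coordinates
  obtain ⟨m1, n1⟩ : (∃ k, k ≠ j ∧ W k - τ * W1 k ≠ 0) ∧ (∃ k, k ≠ j ∧ W k + τ * W1 k ≠ 0) := by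
    have hWW1 : W ⬝ᵥ W1 = 0 := by rw [hW, hW1, dot_oG _ h2]; simp [s's, s't, t's, t't]
    have hW11 : W1 ⬝ᵥ W1 = 2 := by rw [hW1, dot_oG _ h2, dot_root hst' hdd']
    have never : ∀ τ' : F, ∃ k, k ≠ j ∧ W k + τ' * W1 k ≠ 0 := by
      intro τ'
      by_contra! hc0
      have hall0 : ∀ k, W k + τ' * W1 k = 0 := fun k => by
        rcases eq_or_ne k j with hk | hk
        · rw [hk, hWs.2, hW1s.2]; ring
        · exact hc0 k hk
      have e1 : W ⬝ᵥ W1 * τ' = -(W ⬝ᵥ W) := by
        simp only [dotProduct, Finset.sum_mul, ← Finset.sum_neg_distrib]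
        exact Finset.sum_congr rfl fun k _ => by linear_combination (W k) * hall0 k
      rw [hWW1, hWW, zero_mul] at e1
      exact h2 (neg_eq_zero.1 e1.symm)
    obtain ⟨k, hk1, hk2⟩ := never (-τ)
    exact ⟨⟨k, hk1, fun h0 => hk2 (by linear_combination h0)⟩, never τ⟩
  obtain ⟨k, hkj, hk⟩ := m1
  obtain ⟨k', hkj', hk'⟩ := n1
  have sup1 : ∀ l, l ≠ k → l ≠ k' → W l = 0 ∧ W1 l = 0 := fun l lk lk' => by
    by_cases lj : l = j
    · rw [lj]; exact ⟨hWs.2, hW1s.2⟩
    have a5 : W l - τ * W1 l = 0 := by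
      by_contra h0; exact lk (k1 l k lj hkj h0 hk)
    have a6 : W l + τ * W1 l = 0 := by
      by_contra h0; exact lk' (k2 l k' lj hkj' h0 hk')
    have a7 : W l = 0 := mul_left_cancel₀ h2 (by rw [mul_zero]; linear_combination a5 + a6)
    rw [a7, zero_add] at a6
    exact ⟨a7, (mul_eq_zero.1 a6).resolve_left (mul_self_ne h2 hτ)⟩
  have hkk : k ≠ k' := by
    rintro rfl
    have hWW1 : W ⬝ᵥ W1 = 0 := by rw [hW, hW1, dot_oG _ h2]; simp [s's, s't, t's, t't]
    have hW11 : W1 ⬝ᵥ W1 = 2 := by rw [hW1, dot_oG _ h2, dot_root hst' hdd']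
    have single : ∀ X Z : ι → F, (∀ l, l ≠ k → Z l = 0) → X ⬝ᵥ Z = X k * Z k := fun X Z hZ => by
      rw [dotProduct, Finset.sum_eq_single k (fun l _ hl => by rw [hZ l hl, mul_zero]) (by simp)]
    rw [single W W1 fun l hl => (sup1 l hl hl).2] at hWW1
    rw [single W W fun l hl => (sup1 l hl hl).1] at hWW
    rw [single W1 W1 fun l hl => (sup1 l hl hl).2] at hW11
    refine mul_ne_zero h2 h2 ?_
    linear_combination (W k * W1 k) * hWW1 - (W1 k * W1 k) * hWW - 2 * hW11
  have hWW1' : W ⬝ᵥ W1 = 0 := by rw [hW, hW1, dot_oG _ h2]; simp [s's, s't, t's, t't]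
  have hW1nz : W1 ⬝ᵥ W1 ≠ 0 := by rw [hW1, dot_oG _ h2, dot_root hst' hdd']; exact h2
  -- the last two coordinates go to the last plane
  have hkij : ∀ k, W k - τ * W1 k ≠ 0 ∨ W k + τ * W1 k ≠ 0 → k ≠ i ∧ k ≠ j := fun k hk => by
    constructor <;> rintro rfl
    · simp [hWs.1, hW1s.1] at hk
    · simp [hWs.2, hW1s.2] at hk
  obtain ⟨ki, -⟩ := hkij k (Or.inl hk)
  obtain ⟨k'i, -⟩ := hkij k' (Or.inr hk')
  obtain ⟨m, n, hmn, -, -, -, -, -, -, -, -, hall'⟩ :=
    six_last h6 hij (Ne.symm ki) (Ne.symm k'i) (Ne.symm hkj) (Ne.symm hkj') hkk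
  have last : ∀ x, x ≠ s → x ≠ t → x ≠ s' → x ≠ t' → ∀ l, l ≠ m → l ≠ n → h.1 (e x) l = 0 := by
    intro x xs xt xs' xt' l lm ln
    obtain ⟨o1, o2⟩ := off x xs xt xs' xt'
    obtain ⟨o3, o4⟩ := perp_plane hkk (fun l a b => (sup1 l a b).1) (fun l a b => (sup1 l a b).2)
      (by rw [hWW]; exact h2) hW1nz hWW1' (z := h.1 (e x)) (by rw [hW, dot_oG _ h2]; simp [xs, xt])
      (by rw [hW1, dot_oG _ h2]; simp [xs', xt'])
    rcases hall' l with rfl | rfl | rfl | rfl | rfl | rfl <;> first | assumption | exact absurd rfl lm | exact absurd rfl ln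
  exact hs _ (diag_of_mono hH (mono_of_two hH h6 hh h56 hmn (last e5 a1 a2 a3 a4) (last e6 b1 b2 b3 b4)) hμe s).choose_spec

end Cfsg.Agent.ClassicalMax.OrthMono
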