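import Cfsg.Agent.ClassicalMax.OrthMono.Stab
import Cfsg.Agent.ClassicalMax.OrthMono.OddPlane
import Cfsg.Agent.ClassicalMax.OrthMono.Small

/-!
Preparations for six coordinates: the subgroup of monomial elements, transport of coordinate pairs, the shape of a
vector whose reflection enters a monomial product.
-/

set_option autoImplicit false
set_option linter.unusedSectionVars false
set_option linter.style.haveILetI false

namespace Cfsg.Agent.ClassicalMax.OrthMono

open Module QuadraticMap Cfsg.Agent.Classical Cfsg.Agent.Classical.Quad Matrix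

variable {F ι : Type*} [Field F] [Fintype ι] [DecidableEq ι] [Finite F]

theorem finite_oG : Finite (oG (sq F ι)) := by
  haveI : Finite ((ι → F) ≃ₗ[F] (ι → F)) :=
    Finite.of_injective (fun g : (ι → F) ≃ₗ[F] (ι → F) => (g : (ι → F) → (ι → F))) DFunLike.coe_injective
  exact Subtype.finite

theorem mono_one : Mono (1 : oG (sq F ι)) := fun i => ⟨i, 1, by rw [one_smul]; rfl⟩

theorem mono_pow {g : oG (sq F ι)} (hg : Mono g) : ∀ n : ℕ, Mono (g ^ n)
  | 0 => by rw [pow_zero]; exact mono_one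
  | n + 1 => by rw [pow_succ]; exact (mono_pow hg n).mul hg

theorem Mono.inv {g : oG (sq F ι)} (hg : Mono g) : Mono g⁻¹ := by
  haveI := finite_oG (F := F) (ι := ι)
  rw [show g⁻¹ = g ^ (orderOf g - 1) from inv_eq_of_mul_eq_one_right (by
    rw [← pow_succ', Nat.sub_add_cancel (orderOf_pos g), pow_orderOf_eq_one])]
  exact mono_pow hg _

variable (F ι) in
/-- the monomial elements -/
noncomputable def monoG : Subgroup (oG (sq F ι)) where
  carrier := {g | Mono g}
  one_mem' := mono_one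
  mul_mem' := fun hg hh => hg.mul hh
  inv_mem' := fun hg => Mono.inv hg

theorem mem_monoG {g : oG (sq F ι)} : g ∈ monoG F ι ↔ Mono g := Iff.rfl

variable {H : Subgroup (oG (sq F ι))}

theorem Mono.unit (h2 : (2 : F) ≠ 0) {g : oG (sq F ι)} {i j : ι} {c : F} (hg : g.1 (e i) = c • e j) : c * c = 1 := by
  have := dot_oG g h2 (e i) (e i)
  rw [hg, smul_dotProduct, dotProduct_smul, e_self, e_self, smul_eq_mul, smul_eq_mul, mul_one] at this
  exact this

theorem mul_self_ne (h2 : (2 : F) ≠ 0) {c : F} (hc : c * c = 1) : c ≠ 0 := fun h0 => by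
  rw [h0, mul_zero] at hc; exact zero_ne_one hc

theorem conj_RR (h : oG (sq F ι)) (u v : ι → F) : h * (R u * R v) * h⁻¹ = R (h.1 u) * R (h.1 v) := by
  rw [← conj_R, ← conj_R]; group

theorem RR_comm (h2 : (2 : F) ≠ 0) {u v : ι → F} (hu : u ⬝ᵥ u ≠ 0) (huv : u ⬝ᵥ v = 0) : R u * R v = R v * R u := by
  have e1 : (R u).1 v = v := by rw [R_apply' h2 hu, dotProduct_comm v u, huv, mul_zero, zero_div, zero_smul, sub_zero]
  have := conj_R (R u) v
  rw [e1, R_inv] at this
  calc R u * R v = R u * R v * (R u * R u) := by rw [R_mul_self, mul_one]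
    _ = R u * R v * R u * R u := by simp only [mul_assoc]
    _ = R v * R u := by rw [this]

theorem RR_mem (hH : Over H) {u v : ι → F} (hu : u ⬝ᵥ u ≠ 0) (huv : v ⬝ᵥ v = u ⬝ᵥ u) (hm : Mono (R u * R v)) :
    R u * R v ∈ H :=
  hH.mono _ (hH.pair_mem_comm (t := 1) hu (by rw [huv]; ring) (by rwa [huv])) hm

theorem mono_R_root (h2 : (2 : F) ≠ 0) {a b : ι} (hab : a ≠ b) {σ : F} (hσ : σ * σ = 1) :
    Mono (R (e a + σ • e b : ι → F)) := by
  rcases mul_self_eq_one_iff.1 hσ with rfl | rfl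
  · have e1 : (R (F := F) (e b)).1 (e a - e b) = e a + (1 : F) • e b := by
      rw [R_apply h2 (e_self b), sub_dotProduct, dot_e, dot_e, e_apply, e_apply, if_neg (Ne.symm hab), if_pos rfl]
      module
    rw [← e1, ← conj_R, R_inv]
    exact ((mono_R_e h2 b).mul (mono_sw h2 hab)).mul (mono_R_e h2 b)
  · rw [neg_one_smul, ← sub_eq_add_neg]
    exact mono_sw h2 hab

theorem dot_root {a b : ι} (hab : a ≠ b) {σ : F} (hσ : σ * σ = 1) :
    (e a + σ • e b : ι → F) ⬝ᵥ (e a + σ • e b) = 2 := by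
  simp [hab, Ne.symm hab]
  linear_combination hσ

theorem root_ne_zero (h2 : (2 : F) ≠ 0) {a b : ι} (hab : a ≠ b) {σ : F} (hσ : σ * σ = 1) :
    (e a + σ • e b : ι → F) ⬝ᵥ (e a + σ • e b) ≠ 0 := by rw [dot_root hab hσ]; exact h2

theorem root_pair_mem (hH : Over H) {a b c d : ι} (hab : a ≠ b) (hcd : c ≠ d) {σ τ : F} (hσ : σ * σ = 1)
    (hτ : τ * τ = 1) : R (e a + σ • e b : ι → F) * R (e c + τ • e d) ∈ H :=
  RR_mem hH (root_ne_zero hH.two hab hσ) (by rw [dot_root hab hσ, dot_root hcd hτ])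
    ((mono_R_root hH.two hab hσ).mul (mono_R_root hH.two hcd hτ))

/-- conjugates of elements preserving a line that goes to a coordinate line are monomial -/
theorem mono_conj (hH : Over H) {h g : oG (sq F ι)} (hh : h ∈ H) (hg : g ∈ H) {u : ι → F} {p : ι} {c d : F}
    (hu : h.1 u = d • e p) (hd : d ≠ 0) (hgu : g.1 u = c • u) : Mono (h * g * h⁻¹) := by
  have e1 : h⁻¹.1 (e p) = d⁻¹ • u := by
    have h1 := congrArg h⁻¹.1 hu
    rw [oG_inv_apply, map_smul] at h1
    rw [h1, inv_smul_smul₀ hd]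
  refine mono_of_col hH (mul_mem (mul_mem hh hg) (inv_mem hh)) (i := p) (j := p) (c := c) ?_
  rw [oG_mul_apply, oG_mul_apply, e1, map_smul, hgu, map_smul, map_smul, hu, smul_smul, smul_smul]
  congr 1
  field_simp

theorem dot_supp {X Y : ι → F} (hXY : ∀ l, Y l ≠ 0 → X l = 0) : X ⬝ᵥ Y = 0 :=
  Finset.sum_eq_zero fun l _ => by
    by_cases hl : Y l = 0
    · rw [hl, mul_zero]
    · rw [hXY l hl, zero_mul]

/-- the shape of a vector of square two whose reflection, times a disjoint one, is monomial -/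
theorem shape (h2 : (2 : F) ≠ 0) {X y : ι → F} (hX : X ⬝ᵥ X ≠ 0) (hy : y ⬝ᵥ y = 2)
    (hXy : ∀ l, y l ≠ 0 → X l = 0) (hm : Mono (R X * R y)) :
    (∃ x, ∃ a : F, y = a • e x ∧ a * a = 2) ∨
      ∃ x z, x ≠ z ∧ y x * y x = 1 ∧ y z * y z = 1 ∧ ∀ l, l ≠ x → l ≠ z → y l = 0 := by
  classical
  have hy0 : y ⬝ᵥ y ≠ 0 := by rw [hy]; exact h2
  have hcol : ∀ r, y r ≠ 0 → ∀ l, (R X * R y).1 (e r) l = e r l - y r * y l := by
    intro r hr l
    rw [RR_apply h2 hX hy0 (dot_supp hXy), e_dot, e_dot, hXy r hr, hy]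
    simp [show 2 * y r / 2 = y r by field_simp]
  obtain ⟨x, hx⟩ : ∃ x, y x ≠ 0 := by
    by_contra! hc
    exact hy0 (by rw [show y = 0 from funext hc, zero_dotProduct])
  by_cases hone : ∀ l, l ≠ x → y l = 0
  · refine Or.inl ⟨x, y x, funext fun l => ?_, ?_⟩
    · rcases eq_or_ne l x with rfl | hl
      · simp
      · simp [hl, hone l hl]
    · rw [← hy, dotProduct, Finset.sum_eq_single x (fun l _ hl => by rw [hone l hl, mul_zero]) (by simp)]
  push Not at hone
  obtain ⟨z, hzx, hz⟩ := hone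
  refine Or.inr ⟨x, z, Ne.symm hzx, ?_, ?_, fun l hlx hlz => ?_⟩
  · by_contra hne
    refine hzx ((hm.col (j := x) (i := x) (k := z) ?_ ?_).symm)
    · rw [hcol x hx, e_apply, if_pos rfl]
      exact sub_ne_zero.2 (Ne.symm hne)
    · rw [hcol x hx, e_apply, if_neg hzx, zero_sub]
      exact neg_ne_zero.2 (mul_ne_zero hx hz)
  · by_contra hne
    refine hzx (hm.col (j := z) (i := z) (k := x) ?_ ?_)
    · rw [hcol z hz, e_apply, if_pos rfl]
      exact sub_ne_zero.2 (Ne.symm hne)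
    · rw [hcol z hz, e_apply, if_neg (Ne.symm hzx), zero_sub]
      exact neg_ne_zero.2 (mul_ne_zero hz hx)
  · by_contra hl
    refine hlz ((hm.col (j := x) (i := z) (k := l) ?_ ?_).symm)
    · rw [hcol x hx, e_apply, if_neg hzx, zero_sub]
      exact neg_ne_zero.2 (mul_ne_zero hx hz)
    · rw [hcol x hx, e_apply, if_neg hlx, zero_sub]
      exact neg_ne_zero.2 (mul_ne_zero hx hl)

theorem dot_two {x y : ι → F} {i j : ι} (hij : i ≠ j) (hy : ∀ l, l ≠ i → l ≠ j → y l = 0) :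
    x ⬝ᵥ y = x i * y i + x j * y j := by
  rw [dotProduct, ← Finset.sum_subset (Finset.subset_univ {i, j}) (fun l _ hl => by
    simp only [Finset.mem_insert, Finset.mem_singleton, not_or] at hl
    rw [hy l hl.1 hl.2, mul_zero]), Finset.sum_pair hij]

/-- the orthogonal of a coordinate plane -/
theorem perp_plane {x y z : ι → F} {i j : ι} (hij : i ≠ j) (hx : ∀ l, l ≠ i → l ≠ j → x l = 0)
    (hy : ∀ l, l ≠ i → l ≠ j → y l = 0) (hxx : x ⬝ᵥ x ≠ 0) (hyy : y ⬝ᵥ y ≠ 0) (hxy : x ⬝ᵥ y = 0)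
    (hzx : z ⬝ᵥ x = 0) (hzy : z ⬝ᵥ y = 0) : z i = 0 ∧ z j = 0 := by
  rw [dot_two hij hx] at hxx hzx
  rw [dot_two hij hy] at hyy hzy hxy
  have hdet : x i * y j - x j * y i ≠ 0 := fun h0 => mul_ne_zero hxx hyy (by
    linear_combination (x i * y j - x j * y i) * h0 + (x i * y i + x j * y j) * hxy)
  exact ⟨(mul_eq_zero.1 (show z i * (x i * y j - x j * y i) = 0 by linear_combination y j * hzx - x j * hzy)).resolve_right hdet,
    (mul_eq_zero.1 (show z j * (x i * y j - x j * y i) = 0 by linear_combination x i * hzy - y i * hzx)).resolve_right hdet⟩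

theorem oG_ext' {g g' : oG (sq F ι)} (h : ∀ x, g.1 x = g'.1 x) : g = g' := Subtype.ext (LinearEquiv.ext h)

/-- two orthogonal reflections of a coordinate plane -/
theorem RR_plane (h2 : (2 : F) ≠ 0) {X Y : ι → F} {i j : ι} (hij : i ≠ j) (hx : ∀ l, l ≠ i → l ≠ j → X l = 0)
    (hy : ∀ l, l ≠ i → l ≠ j → Y l = 0) (hxx : X ⬝ᵥ X ≠ 0) (hyy : Y ⬝ᵥ Y ≠ 0) (hxy : X ⬝ᵥ Y = 0) :
    R X * R Y = R (e i) * R (e j) := by
  refine oG_ext' fun x => funext fun l => ?_
  have nn : ∀ k : ι, (e k : ι → F) ⬝ᵥ e k ≠ 0 := fun k => by rw [e_self]; exact one_ne_zero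
  rw [RR_apply h2 hxx hyy hxy, RR_apply h2 (nn i) (nn j) (by rw [dot_e, e_apply, if_neg (Ne.symm hij)])]
  simp only [Pi.sub_apply, Pi.smul_apply, smul_eq_mul, e_self, div_one, dot_e, e_apply, mul_ite, mul_one, mul_zero]
  rw [dot_two hij hx, dot_two hij hy]
  rw [dot_two hij hx] at hxx
  rw [dot_two hij hy] at hyy hxy
  have p1 : X i * X i * (Y i * Y i + Y j * Y j) + Y i * Y i * (X i * X i + X j * X j) =
      (X i * X i + X j * X j) * (Y i * Y i + Y j * Y j) := by
    linear_combination (X i * Y i - X j * Y j) * hxy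
  have p3 : X j * X j * (Y i * Y i + Y j * Y j) + Y j * Y j * (X i * X i + X j * X j) =
      (X i * X i + X j * X j) * (Y i * Y i + Y j * Y j) := by
    linear_combination (X j * Y j - X i * Y i) * hxy
  have p2 : X i * X j * (Y i * Y i + Y j * Y j) + Y i * Y j * (X i * X i + X j * X j) = 0 := by
    linear_combination (X i * Y j + X j * Y i) * hxy
  rcases eq_or_ne l i with rfl | hl
  · rw [if_pos rfl, if_neg hij, dot_two hij hx, dot_two hij hy]
    simp only [if_true, mul_one, sub_zero]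
    generalize X l * X l + X j * X j = A at hxx p1 p2 p3 ⊢
    generalize Y l * Y l + Y j * Y j = B at hyy p1 p2 p3 ⊢
    field_simp
    linear_combination (-2 * x l) * p1 - (2 * x j) * p2
  rcases eq_or_ne l j with rfl | hl'
  · rw [if_neg hl, if_pos rfl, dot_two hij hx, dot_two hij hy]
    simp only [if_true, mul_one, sub_zero]
    generalize X i * X i + X l * X l = A at hxx p1 p2 p3 ⊢
    generalize Y i * Y i + Y l * Y l = B at hyy p1 p2 p3 ⊢
    field_simp
    linear_combination (-2 * x i) * p2 - (2 * x l) * p3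
  · simp [hl, hl', hx l hl hl', hy l hl hl']

/-- two fresh indices -/
theorem Over.two_fresh (hH : Over H) (S : Finset ι) (hS : S.card ≤ 3) : ∃ c d, c ≠ d ∧ c ∉ S ∧ d ∉ S := by
  obtain ⟨c, hc⟩ := hH.fresh S (le_trans hS (by norm_num))
  obtain ⟨d, hd⟩ := hH.fresh (insert c S) ((Finset.card_insert_le _ _).trans (by omega))
  simp only [Finset.mem_insert, not_or] at hd
  exact ⟨c, d, Ne.symm hd.1, hc, hd.2⟩

/-- the two indices besides four given ones -/
theorem six_last (h6 : Fintype.card ι = 6) {a b c d : ι} (hab : a ≠ b) (hac : a ≠ c) (had : a ≠ d) (hbc : b ≠ c)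
    (hbd : b ≠ d) (hcd : c ≠ d) :
    ∃ l m, l ≠ m ∧ l ≠ a ∧ l ≠ b ∧ l ≠ c ∧ l ≠ d ∧ m ≠ a ∧ m ≠ b ∧ m ≠ c ∧ m ≠ d ∧
      ∀ x, x = a ∨ x = b ∨ x = c ∨ x = d ∨ x = l ∨ x = m := by
  have h4 : ({a, b, c, d} : Finset ι).card = 4 := by
    rw [Finset.card_insert_of_notMem (by simp [hab, hac, had]), Finset.card_insert_of_notMem (by simp [hbc, hbd]),
      Finset.card_pair hcd]
  have hcard : ({a, b, c, d} : Finset ι)ᶜ.card = 2 := by rw [Finset.card_compl, h4, h6]
  obtain ⟨l, m, hlm, hS⟩ := Finset.card_eq_two.1 hcard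
  have hl : l ∈ ({a, b, c, d} : Finset ι)ᶜ := by rw [hS]; simp
  have hm : m ∈ ({a, b, c, d} : Finset ι)ᶜ := by rw [hS]; simp
  simp only [Finset.mem_compl, Finset.mem_insert, Finset.mem_singleton, not_or] at hl hm
  refine ⟨l, m, hlm, hl.1, hl.2.1, hl.2.2.1, hl.2.2.2, hm.1, hm.2.1, hm.2.2.1, hm.2.2.2, fun x => ?_⟩
  by_cases hx : x ∈ ({a, b, c, d} : Finset ι)
  · simp only [Finset.mem_insert, Finset.mem_singleton] at hx; tauto
  · have : x ∈ ({a, b, c, d} : Finset ι)ᶜ := Finset.mem_compl.2 hx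
    rw [hS] at this
    simp only [Finset.mem_insert, Finset.mem_singleton] at this; tauto

/-- moving a pair of coordinates -/
theorem Over.move (hH : Over H) {a b a' b' : ι} (hab : a ≠ b) (hab' : a' ≠ b') :
    ∃ n ∈ H, Mono n ∧ n.1 (e a) = e a' ∧ ∃ c : F, n.1 (e b) = c • e b' := by
  have h2 := hH.two
  have step : ∀ x y k : ι, k ≠ x → k ≠ y →
      ∃ n ∈ H, Mono n ∧ n.1 (e x) = e y ∧ n.1 (e k) = e k := by
    intro x y k hkx hky
    by_cases hxy : x = y
    · subst hxy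
      exact ⟨1, one_mem H, mono_one, rfl, rfl⟩
    obtain ⟨c, d, hcd, hc, hd⟩ := hH.two_fresh {x, y, k} Finset.card_le_three
    simp only [Finset.mem_insert, Finset.mem_singleton, not_or] at hc hd
    refine ⟨_, hH.pp_mem hxy hcd, (mono_sw h2 hxy).mul (mono_sw h2 hcd), ?_, ?_⟩
    · rw [oG_mul_apply, sw_e h2 hcd, Equiv.swap_apply_of_ne_of_ne (Ne.symm hc.1) (Ne.symm hd.1), sw_e h2 hxy,
        Equiv.swap_apply_left]
    · rw [oG_mul_apply, sw_e h2 hcd, Equiv.swap_apply_of_ne_of_ne (Ne.symm hc.2.2) (Ne.symm hd.2.2), sw_e h2 hxy,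
        Equiv.swap_apply_of_ne_of_ne hkx hky]
  obtain ⟨k, hk⟩ := hH.fresh {a, a'} (le_trans Finset.card_le_two (by norm_num))
  simp only [Finset.mem_insert, Finset.mem_singleton, not_or] at hk
  obtain ⟨n₁, hn₁, hm₁, e₁, -⟩ := step a a' k hk.1 hk.2
  obtain ⟨b₁, c, hb⟩ := hm₁ b
  have hc := mul_self_ne h2 (Mono.unit h2 hb)
  have hne : b₁ ≠ a' := by
    rintro rfl
    have := dot_oG n₁ h2 (e a) (e b)
    rw [e₁, hb, dotProduct_smul, e_self, dot_e, e_apply, if_neg (Ne.symm hab), smul_eq_mul, mul_one] at this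
    exact hc this
  obtain ⟨n₂, hn₂, hm₂, e₂, f₂⟩ := step b₁ b' a' (Ne.symm hne) hab'
  exact ⟨n₂ * n₁, mul_mem hn₂ hn₁, hm₂.mul hm₁, by rw [oG_mul_apply, e₁, f₂], c,
    by rw [oG_mul_apply, hb, map_smul, e₂]⟩

end Cfsg.Agent.ClassicalMax.OrthMono
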