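import Cfsg.Agent.ClassicalMax.OrthMono.Basic
import Cfsg.Agent.Classical.QuadDihedral

/-!
The three-dimensional space spanned by two coordinate vectors and a member, and the group of elements of an overgroup
which are trivial on its orthogonal complement.
-/

set_option autoImplicit false
set_option linter.unusedSectionVars false
set_option linter.style.haveILetI false

namespace Cfsg.Agent.ClassicalMax.OrthMono

open Module QuadraticMap Cfsg.Agent.Classical Cfsg.Agent.Classical.Quad Matrix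

variable {F ι : Type*} [Field F] [Fintype ι] [DecidableEq ι]

/-- the space spanned by two coordinate vectors and a further vector -/
def U3 (a b : ι) (w : ι → F) : Submodule F (ι → F) := Submodule.span F (Set.range ![e a, e b, w])

/-- its orthogonal complement -/
def W3 (a b : ι) (w : ι → F) : Submodule F (ι → F) where
  carrier := {v | v a = 0 ∧ v b = 0 ∧ v ⬝ᵥ w = 0}
  zero_mem' := by simp
  add_mem' := fun {x y} hx hy => by
    refine ⟨?_, ?_, ?_⟩ <;> simp [hx.1, hy.1, hx.2.1, hy.2.1, add_dotProduct, hx.2.2, hy.2.2]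
  smul_mem' := fun c x hx => by
    refine ⟨?_, ?_, ?_⟩ <;> simp [hx.1, hx.2.1, smul_dotProduct, hx.2.2]

theorem mem_W3 {a b : ι} {w v : ι → F} : v ∈ W3 a b w ↔ v a = 0 ∧ v b = 0 ∧ v ⬝ᵥ w = 0 := Iff.rfl

theorem U3_mem (a b : ι) (w : ι → F) : e a ∈ U3 a b w ∧ e b ∈ U3 a b w ∧ w ∈ U3 a b w :=
  ⟨Submodule.subset_span ⟨0, rfl⟩, Submodule.subset_span ⟨1, rfl⟩, Submodule.subset_span ⟨2, rfl⟩⟩

theorem U3_perp {a b : ι} {w z v : ι → F} (hz : z ∈ U3 a b w) (hv : v ∈ W3 a b w) : z ⬝ᵥ v = 0 := by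
  obtain ⟨c, rfl⟩ := (Submodule.mem_span_range_iff_exists_fun F).1 hz
  rw [mem_W3] at hv
  simp [Fin.sum_univ_three, add_dotProduct, smul_dotProduct, dotProduct_comm w v, hv.1, hv.2.1, hv.2.2]

variable [Finite F]

/-- a member with two chosen non-zero coordinates and something outside them -/
structure Cfg (H : Subgroup (oG (sq F ι))) (a b : ι) (w : ι → F) : Prop where
  ov : Over H
  tw : T H w
  ne : a ≠ b
  wa : w a ≠ 0
  wb : w b ≠ 0
  third : 1 - w a * w a - w b * w b ≠ 0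

/-- elements trivial on the complement and preserving the set of members -/
def K3 (H : Subgroup (oG (sq F ι))) (a b : ι) (w : ι → F) : Subgroup (oG (sq F ι)) where
  carrier := {h | h ∈ H ∧ (∀ v ∈ W3 a b w, h.1 v = v) ∧ ∀ v, T H (h.1 v) ↔ T H v}
  one_mem' := ⟨H.one_mem, fun _ _ => rfl, fun _ => Iff.rfl⟩
  mul_mem' := fun {g h} hg hh => ⟨H.mul_mem hg.1 hh.1,
    fun v hv => by rw [oG_mul_apply, hh.2.1 v hv, hg.2.1 v hv],
    fun v => by rw [oG_mul_apply]; exact (hg.2.2 _).trans (hh.2.2 v)⟩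
  inv_mem' := fun {g} hg => ⟨H.inv_mem hg.1,
    fun v hv => by conv_lhs => rw [← hg.2.1 v hv, oG_inv_apply],
    fun v => by rw [← hg.2.2, oG_apply_inv]⟩

variable {H : Subgroup (oG (sq F ι))} {a b : ι} {w : ι → F}

namespace Cfg

theorem h2 (c : Cfg H a b w) : (2 : F) ≠ 0 := c.ov.two

theorem comb (c : Cfg H a b w) (r s t : F) :
    let z := r • e a + s • e b + t • w
    z a = r + t * w a ∧ z b = s + t * w b ∧ z ⬝ᵥ w = r * w a + s * w b + t := by
  refine ⟨?_, ?_, ?_⟩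
  · simp [c.ne]
  · simp [Ne.symm c.ne]
  · simp [add_dotProduct, smul_dotProduct, c.tw.1]

theorem li (c : Cfg H a b w) : LinearIndependent F ![e a, e b, w] := by
  rw [Fintype.linearIndependent_iff]
  intro g hg
  simp only [Fin.sum_univ_three, Matrix.cons_val_zero, Matrix.cons_val_one, Matrix.cons_val] at hg
  obtain ⟨h1, h2, h3⟩ := c.comb (g 0) (g 1) (g 2)
  rw [hg] at h1 h2 h3
  simp only [Pi.zero_apply, zero_dotProduct] at h1 h2 h3
  have e2 : g 2 = 0 := by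
    refine (mul_eq_zero.1 ?_).resolve_left c.third
    linear_combination w a * h1 + w b * h2 - h3
  have e0 : g 0 = 0 := by rw [e2] at h1; simpa using h1.symm
  have e1 : g 1 = 0 := by rw [e2] at h2; simpa using h2.symm
  intro i; fin_cases i <;> assumption

theorem finrank_U (c : Cfg H a b w) : finrank F (U3 a b w) = 3 := by
  rw [U3, finrank_span_eq_card c.li, Fintype.card_fin]

theorem decomp (c : Cfg H a b w) (v : ι → F) : ∃ z ∈ U3 a b w, v - z ∈ W3 a b w := by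
  obtain ⟨t, ht⟩ : ∃ t, t * (1 - w a * w a - w b * w b) = v ⬝ᵥ w - v a * w a - v b * w b :=
    ⟨_, div_mul_cancel₀ _ c.third⟩
  obtain ⟨h1, h2, h3⟩ := c.comb (v a - t * w a) (v b - t * w b) t
  refine ⟨(v a - t * w a) • e a + (v b - t * w b) • e b + t • w, ?_, mem_W3.2 ⟨?_, ?_, ?_⟩⟩
  · obtain ⟨u1, u2, u3⟩ := U3_mem a b w
    exact add_mem (add_mem (Submodule.smul_mem _ _ u1) (Submodule.smul_mem _ _ u2)) (Submodule.smul_mem _ _ u3)
  · rw [Pi.sub_apply, h1]; ring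
  · rw [Pi.sub_apply, h2]; ring
  · rw [sub_dotProduct, h3]; linear_combination -ht

theorem inf_eq (c : Cfg H a b w) {z : ι → F} (hz : z ∈ U3 a b w) (hz' : z ∈ W3 a b w) : z = 0 := by
  funext i
  obtain ⟨u, hu, hv⟩ := c.decomp (e i)
  have h1 := U3_perp hz hv
  have h2 := U3_perp hu hz'
  rw [dotProduct_sub, dot_e, dotProduct_comm z u, h2, sub_zero] at h1
  exact h1

theorem sup_eq (c : Cfg H a b w) : W3 a b w ⊔ U3 a b w = ⊤ := eq_top_iff.2 fun v _ => by
  obtain ⟨z, hz, hv⟩ := c.decomp v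
  exact Submodule.mem_sup.2 ⟨_, hv, z, hz, sub_add_cancel v z⟩

theorem mem_U_of_perp (c : Cfg H a b w) {z : ι → F} (h : ∀ v ∈ W3 a b w, z ⬝ᵥ v = 0) : z ∈ U3 a b w := by
  obtain ⟨u, hu, hv⟩ := c.decomp z
  suffices z - u = 0 by rwa [sub_eq_zero.1 this]
  funext i
  obtain ⟨u', hu', hv'⟩ := c.decomp (e i)
  have h1 : (z - u) ⬝ᵥ u' = 0 := by rw [dotProduct_comm]; exact U3_perp hu' hv
  have h2 : (z - u) ⬝ᵥ (e i - u') = 0 := by rw [sub_dotProduct, h _ hv', U3_perp hu hv', sub_zero]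
  rw [dotProduct_sub, h1, sub_zero, dot_e] at h2
  exact h2

theorem nondeg (c : Cfg H a b w) {z : ι → F} (hz : z ∈ U3 a b w) (h : ∀ u ∈ U3 a b w, z ⬝ᵥ u = 0) : z = 0 := by
  obtain ⟨u1, u2, u3⟩ := U3_mem a b w
  refine c.inf_eq hz (mem_W3.2 ⟨?_, ?_, h _ u3⟩)
  · simpa [dot_e] using h _ u1
  · simpa [dot_e] using h _ u2

theorem map_U (c : Cfg H a b w) {h : oG (sq F ι)} (hh : h ∈ K3 H a b w) {z : ι → F} (hz : z ∈ U3 a b w) :
    h.1 z ∈ U3 a b w :=
  c.mem_U_of_perp fun v hv => by rw [← hh.2.1 v hv, dot_oG _ c.h2, U3_perp hz hv]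

/-- elements agreeing on the space are equal -/
theorem ext (c : Cfg H a b w) {g h : oG (sq F ι)} (hg : ∀ v ∈ W3 a b w, g.1 v = v)
    (hh : ∀ v ∈ W3 a b w, h.1 v = v) (e' : ∀ z ∈ U3 a b w, g.1 z = h.1 z) : g = h := ext_oG fun v => by
  obtain ⟨z, hz, hv⟩ := c.decomp v
  rw [show v = (v - z) + z by abel, map_add, map_add, hg _ hv, hh _ hv, e' z hz]

/-- the fixed points in the space of a non-trivial element form a line -/
theorem fix_line (c : Cfg H a b w) {h : oG (sq F ι)} (hh : h ∈ K3 H a b w) (h1 : h ≠ 1) :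
    finrank F (fixSub h ⊓ U3 a b w : Submodule F (ι → F)) = 1 := by
  have hW : W3 a b w ≤ fixSub h := fun v hv => mem_fixSub.2 (hh.2.1 v hv)
  have hm : fixSub h = W3 a b w ⊔ (U3 a b w ⊓ fixSub h) := by
    rw [← sup_inf_assoc_of_le _ hW, c.sup_eq, top_inf_eq]
  have hd : W3 a b w ⊓ U3 a b w = ⊥ := eq_bot_iff.2 fun z hz => (Submodule.mem_bot F).2 (c.inf_eq hz.2 hz.1)
  have e1 := Submodule.finrank_sup_add_finrank_inf_eq (W3 a b w) (U3 a b w)
  rw [c.sup_eq, hd, finrank_top, finrank_bot, c.finrank_U] at e1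
  have e2 := Submodule.finrank_sup_add_finrank_inf_eq (W3 a b w) (U3 a b w ⊓ fixSub h)
  rw [← hm, eq_bot_iff.2 (le_trans (inf_le_inf_left _ inf_le_left) hd.le), finrank_bot,
    inf_comm (U3 a b w)] at e2
  have hev : Even (finrank F (ι → F) + finrank F (fixSub h)) := by
    by_contra hodd
    rw [Nat.not_even_iff_odd] at hodd
    have hd1 : dsign h = 1 := ((mem_commutator_chars c.ov.nd (hex_of_two c.h2 _) h).1 (c.ov.le hh.1)).1
    exact absurd ((hodd.neg_one_pow : dsign h = -1).symm.trans hd1) (by decide)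
  have h3 : finrank F (fixSub h ⊓ U3 a b w : Submodule F (ι → F)) ≤ 3 :=
    le_trans (Submodule.finrank_mono inf_le_right) c.finrank_U.le
  have hne : finrank F (fixSub h ⊓ U3 a b w : Submodule F (ι → F)) ≠ 3 := by
    intro e3
    have := Submodule.eq_of_le_of_finrank_eq (inf_le_right : fixSub h ⊓ U3 a b w ≤ _) (e3.trans c.finrank_U.symm)
    refine h1 (c.ext hh.2.1 (fun _ _ => rfl) fun z hz => ?_)
    rw [← this] at hz
    exact (mem_fixSub.1 hz.1).trans (oG_one_apply z).symm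
  obtain ⟨r, hr⟩ := hev
  omega

theorem exists_fix (c : Cfg H a b w) {h : oG (sq F ι)} (hh : h ∈ K3 H a b w) (h1 : h ≠ 1) :
    ∃ x ∈ U3 a b w, x ≠ 0 ∧ h.1 x = x := by
  have hne : fixSub h ⊓ U3 a b w ≠ ⊥ := fun e' => by
    have := c.fix_line hh h1
    rw [e', finrank_bot] at this
    omega
  obtain ⟨x, hx, hx0⟩ := (Submodule.ne_bot_iff _).1 hne
  exact ⟨x, hx.2, hx0, mem_fixSub.1 hx.1⟩

theorem fix_eq_span (c : Cfg H a b w) {h : oG (sq F ι)} (hh : h ∈ K3 H a b w) (h1 : h ≠ 1) {x : ι → F}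
    (hx : x ∈ U3 a b w) (hx0 : x ≠ 0) (hfx : h.1 x = x) :
    fixSub h ⊓ U3 a b w = Submodule.span F {x} := by
  refine (Submodule.eq_of_le_of_finrank_eq ?_ ?_).symm
  · exact (Submodule.span_singleton_le_iff_mem _ _).2 ⟨mem_fixSub.2 hfx, hx⟩
  · rw [finrank_span_singleton hx0, c.fix_line hh h1]

theorem mem_K (c : Cfg H a b w) :
    R (e a) * R w ∈ K3 H a b w ∧ R (e a) * R (e b) ∈ K3 H a b w := by
  haveI := c.ov.nontriv_idx
  have hp : ∀ v : ι → F, T H v → ∀ x, T H ((R v).1 x) ↔ T H x := fun v hv x => by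
    refine ⟨fun hx => ?_, hv.refl c.ov⟩
    have := hv.refl c.ov hx
    rwa [← oG_mul_apply, R_mul_self, oG_one_apply] at this
  have hf : ∀ v u : ι → F, u ⬝ᵥ u = 1 → v ⬝ᵥ u = 0 → (R u).1 v = v := fun v u hu hv => by
    rw [R_apply c.h2 hu, hv, mul_zero, zero_smul, sub_zero]
  have ha := T.e_mem c.ov (F := F) a
  have hb := T.e_mem c.ov (F := F) b
  refine ⟨⟨ha.pair c.tw, fun v hv => ?_, fun v => by rw [oG_mul_apply]; exact (hp _ ha _).trans (hp _ c.tw v)⟩,
    ⟨ha.pair hb, fun v hv => ?_, fun v => by rw [oG_mul_apply]; exact (hp _ ha _).trans (hp _ hb v)⟩⟩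
  · rw [oG_mul_apply, hf v w c.tw.1 hv.2.2, hf v _ (e_self a) (by rw [dot_e]; exact hv.1)]
  · rw [oG_mul_apply, hf v _ (e_self b) (by rw [dot_e]; exact hv.2.1), hf v _ (e_self a) (by rw [dot_e]; exact hv.1)]

end Cfg

/-- a hyperbolic pair with an orthogonal anisotropic vector in the space -/
structure Frame (a b : ι) (w x d y : ι → F) : Prop where
  xU : x ∈ U3 a b w
  dU : d ∈ U3 a b w
  yU : y ∈ U3 a b w
  xx : x ⬝ᵥ x = 0
  yy : y ⬝ᵥ y = 0
  xy : x ⬝ᵥ y = 1
  xd : x ⬝ᵥ d = 0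
  yd : y ⬝ᵥ d = 0
  dd : d ⬝ᵥ d ≠ 0

theorem Frame.symm {x d y : ι → F} (f : Frame a b w x d y) : Frame a b w y d x :=
  ⟨f.yU, f.dU, f.xU, f.yy, f.xx, by rw [dotProduct_comm]; exact f.xy, f.yd, f.xd, f.dd⟩

theorem Frame.mem {x d y : ι → F} (f : Frame a b w x d y) (α β γ : F) : α • x + β • d + γ • y ∈ U3 a b w :=
  add_mem (add_mem (Submodule.smul_mem _ _ f.xU) (Submodule.smul_mem _ _ f.dU)) (Submodule.smul_mem _ _ f.yU)

theorem Frame.dots {x d y : ι → F} (f : Frame a b w x d y) (α β γ : F) :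
    (α • x + β • d + γ • y) ⬝ᵥ x = γ ∧ (α • x + β • d + γ • y) ⬝ᵥ d = β * (d ⬝ᵥ d) ∧
      (α • x + β • d + γ • y) ⬝ᵥ y = α ∧
      (α • x + β • d + γ • y) ⬝ᵥ (α • x + β • d + γ • y) = 2 * α * γ + β * β * (d ⬝ᵥ d) := by
  refine ⟨?_, ?_, ?_, ?_⟩ <;>
    simp only [add_dotProduct, dotProduct_add, smul_dotProduct, dotProduct_smul, smul_eq_mul,
      dotProduct_comm y x, dotProduct_comm d x, dotProduct_comm d y, f.xx, f.yy, f.xy, f.xd, f.yd] <;> ring

theorem exists_d (c : Cfg H a b w) {x y : ι → F} (hxU : x ∈ U3 a b w) (hyU : y ∈ U3 a b w) (hxx : x ⬝ᵥ x = 0)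
    (hyy : y ⬝ᵥ y = 0) (hxy : x ⬝ᵥ y = 1) : ∃ d, Frame a b w x d y := by
  set P := Submodule.span F (Set.range ![x, y]) with hP
  have hPU : P ≤ U3 a b w := by
    rw [hP, Submodule.span_le]; rintro _ ⟨i, rfl⟩; fin_cases i <;> assumption
  obtain ⟨v, hvU, hvP⟩ : ∃ v ∈ U3 a b w, v ∉ P := by
    by_contra! hc
    have := Submodule.finrank_mono (hc : U3 a b w ≤ P)
    have h2 : finrank F P ≤ 2 := by
      exact le_trans (finrank_range_le_card (R := F) ![x, y]) (by simp)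
    rw [c.finrank_U] at this
    omega
  set d := v - (v ⬝ᵥ y) • x - (v ⬝ᵥ x) • y with hd
  have hxd : x ⬝ᵥ d = 0 := by
    simp only [hd, dotProduct_sub, dotProduct_smul, hxx, hxy, dotProduct_comm x v, smul_eq_mul]; ring
  have hyd : y ⬝ᵥ d = 0 := by
    simp only [hd, dotProduct_sub, dotProduct_smul, hyy, dotProduct_comm y x, hxy, dotProduct_comm y v, smul_eq_mul]
    ring
  have hdU : d ∈ U3 a b w := sub_mem (sub_mem hvU (Submodule.smul_mem _ _ hxU)) (Submodule.smul_mem _ _ hyU)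
  refine ⟨d, hxU, hdU, hyU, hxx, hyy, hxy, hxd, hyd, fun hdd => hvP ?_⟩
  have hx : x ∈ P := Submodule.subset_span ⟨0, rfl⟩
  have hy : y ∈ P := Submodule.subset_span ⟨1, rfl⟩
  suffices d = 0 by
    have e' : v = (v ⬝ᵥ y) • x + (v ⬝ᵥ x) • y := by
      rw [hd, sub_sub, sub_eq_zero] at this; exact this
    rw [e']; exact add_mem (Submodule.smul_mem _ _ hx) (Submodule.smul_mem _ _ hy)
  by_contra hd0
  refine hd0 (c.nondeg hdU fun u hu => ?_)
  -- `x`, `d`, `y` span the space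
  have hli : LinearIndependent F ![x, d, y] := by
    rw [Fintype.linearIndependent_iff]
    intro g hg
    simp only [Fin.sum_univ_three, Matrix.cons_val_zero, Matrix.cons_val_one, Matrix.cons_val] at hg
    have h1 := congrArg (· ⬝ᵥ x) hg
    have h3 := congrArg (· ⬝ᵥ y) hg
    simp only [add_dotProduct, smul_dotProduct, smul_eq_mul, zero_dotProduct, hxx, hxy, dotProduct_comm d x, hxd,
      dotProduct_comm y x, hyy, dotProduct_comm d y, hyd, mul_zero, mul_one, add_zero, zero_add] at h1 h3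
    rw [h1, h3, zero_smul, zero_smul, zero_add, add_zero] at hg
    have h4 := (smul_eq_zero.1 hg).resolve_right hd0
    intro i; fin_cases i <;> assumption
  have hsp : U3 a b w = Submodule.span F (Set.range ![x, d, y]) := by
    refine (Submodule.eq_of_le_of_finrank_eq ?_ ?_).symm
    · rw [Submodule.span_le]; rintro _ ⟨i, rfl⟩; fin_cases i <;> assumption
    · rw [finrank_span_eq_card hli, c.finrank_U, Fintype.card_fin]
  rw [hsp] at hu
  obtain ⟨g, rfl⟩ := (Submodule.mem_span_range_iff_exists_fun F).1 hu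
  simp [Fin.sum_univ_three, dotProduct_add, dotProduct_smul, dotProduct_comm d x, hxd, dotProduct_comm d y, hyd, hdd]

theorem exists_frame (c : Cfg H a b w) {x : ι → F} (hxU : x ∈ U3 a b w) (hx0 : x ≠ 0) (hxx : x ⬝ᵥ x = 0) :
    ∃ d y, Frame a b w x d y := by
  obtain ⟨v, hvU, hv⟩ : ∃ v ∈ U3 a b w, x ⬝ᵥ v ≠ 0 := by
    by_contra! hc; exact hx0 (c.nondeg hxU hc)
  set y1 := (x ⬝ᵥ v)⁻¹ • v with hy1
  have hy1x : x ⬝ᵥ y1 = 1 := by rw [hy1, dotProduct_smul, smul_eq_mul, inv_mul_cancel₀ hv]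
  set y := y1 - ((y1 ⬝ᵥ y1) / 2) • x with hy
  have hxy : x ⬝ᵥ y = 1 := by rw [hy, dotProduct_sub, hy1x, dotProduct_smul, hxx, smul_zero, sub_zero]
  have hyy : y ⬝ᵥ y = 0 := by
    have := c.h2
    simp only [hy, sub_dotProduct, dotProduct_sub, smul_dotProduct, dotProduct_smul, dotProduct_comm y1 x, hy1x,
      hxx, smul_eq_mul]
    field_simp
    ring
  obtain ⟨d, hd⟩ := exists_d c hxU (sub_mem (Submodule.smul_mem _ _ hvU) (Submodule.smul_mem _ _ hxU)) hxx hyy hxy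
  exact ⟨d, y, hd⟩

/-- every vector of the space expands in a frame -/
theorem Frame.expand (c : Cfg H a b w) {x d y : ι → F} (f : Frame a b w x d y) {z : ι → F}
    (hz : z ∈ U3 a b w) : z = (z ⬝ᵥ y) • x + (z ⬝ᵥ d / (d ⬝ᵥ d)) • d + (z ⬝ᵥ x) • y := by
  have hli : LinearIndependent F ![x, d, y] := by
    rw [Fintype.linearIndependent_iff]
    intro g hg
    simp only [Fin.sum_univ_three, Matrix.cons_val_zero, Matrix.cons_val_one, Matrix.cons_val] at hg
    obtain ⟨h1, h2, h3, -⟩ := f.dots (g 0) (g 1) (g 2)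
    rw [hg, zero_dotProduct] at h1 h2 h3
    have h2' := (mul_eq_zero.1 h2.symm).resolve_right f.dd
    have h1' := h1.symm
    have h3' := h3.symm
    intro i; fin_cases i <;> assumption
  have hsp : U3 a b w = Submodule.span F (Set.range ![x, d, y]) := by
    refine (Submodule.eq_of_le_of_finrank_eq ?_ ?_).symm
    · rw [Submodule.span_le]; rintro _ ⟨i, rfl⟩; fin_cases i
      exacts [f.xU, f.dU, f.yU]
    · rw [finrank_span_eq_card hli, c.finrank_U, Fintype.card_fin]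
  rw [hsp] at hz
  obtain ⟨g, rfl⟩ := (Submodule.mem_span_range_iff_exists_fun F).1 hz
  simp only [Fin.sum_univ_three, Matrix.cons_val_zero, Matrix.cons_val_one, Matrix.cons_val]
  obtain ⟨h1, h2, h3, -⟩ := f.dots (g 0) (g 1) (g 2)
  rw [h1, h2, h3, mul_div_cancel_right₀ _ f.dd]

end Cfsg.Agent.ClassicalMax.OrthMono
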