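import Cfsg.Agent.ClassicalMax.OrthMono.Criterion

/-!
An element of the overgroup with one coordinate column, or with one row of small support, is monomial.
-/

set_option autoImplicit false
set_option linter.unusedSectionVars false
set_option linter.style.haveILetI false

namespace Cfsg.Agent.ClassicalMax.OrthMono

open Module QuadraticMap Cfsg.Agent.Classical Cfsg.Agent.Classical.Quad Matrix

variable {F ι : Type*} [Field F] [Fintype ι] [DecidableEq ι] [Finite F]

theorem Mono.col {g : oG (sq F ι)} (hg : Mono g) {j i k : ι} (hi : g.1 (e j) i ≠ 0) (hk : g.1 (e j) k ≠ 0) :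
    i = k := by
  obtain ⟨l, c, hl⟩ := hg j
  simp only [hl, Pi.smul_apply, smul_eq_mul, e_apply, mul_ite, mul_one, mul_zero] at hi hk
  have h1 : i = l := by by_contra h; exact hi (if_neg h)
  have h2 : k = l := by by_contra h; exact hk (if_neg h)
  exact h1.trans h2.symm

/-- the product of two orthogonal reflections -/
theorem RR_apply (h2 : (2 : F) ≠ 0) {u v : ι → F} (hu : u ⬝ᵥ u ≠ 0) (hv : v ⬝ᵥ v ≠ 0) (huv : u ⬝ᵥ v = 0)
    (x : ι → F) : (R u * R v).1 x = x - (2 * (x ⬝ᵥ u) / (u ⬝ᵥ u)) • u - (2 * (x ⬝ᵥ v) / (v ⬝ᵥ v)) • v := by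
  rw [oG_mul_apply, R_apply' h2 hv, R_apply' h2 hu, sub_dotProduct, smul_dotProduct, dotProduct_comm v u, huv,
    smul_zero, sub_zero]
  abel

/-- a family of orthonormal vectors with monomial products contains a coordinate vector -/
theorem exists_coord (h2 : (2 : F) ≠ 0) (Rs : Finset ι) (hR : 5 ≤ Rs.card) (h : oG (sq F ι))
    (hee : ∀ c ∈ Rs, ∀ d ∈ Rs, c ≠ d → Mono (R (h.1 (e c)) * R (h.1 (e d))))
    (hsw : ∀ c ∈ Rs, ∀ d ∈ Rs, ∀ c' ∈ Rs, ∀ d' ∈ Rs, c ≠ d → c' ≠ d' → c ≠ c' → c ≠ d' → d ≠ c' → d ≠ d' →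
      Mono (R (h.1 (e c) - h.1 (e d)) * R (h.1 (e c') - h.1 (e d')))) :
    ∃ c ∈ Rs, ∃ j, ∃ t : F, h.1 (e c) = t • e j := by
  classical
  by_contra! hno
  obtain ⟨f, hf⟩ : ∃ f : ι → ι → F, ∀ c, h.1 (e c) = f c := ⟨_, fun _ => rfl⟩
  simp only [hf] at hee hsw hno
  have hunit : ∀ c, f c ⬝ᵥ f c = 1 := fun c => by rw [← hf, dot_oG _ h2, e_self]
  have horth : ∀ c d, c ≠ d → f c ⬝ᵥ f d = 0 := fun c d hcd => by
    rw [← hf, ← hf, dot_oG _ h2, dot_e, e_apply, if_neg (Ne.symm hcd)]
  have hsub : ∀ c d, c ≠ d → (f c - f d) ⬝ᵥ (f c - f d) = 2 := fun c d hcd => by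
    simp [sub_dotProduct, dotProduct_sub, hunit, horth c d hcd, horth d c (Ne.symm hcd)]
    norm_num
  -- at most one further entry in a column
  have col : ∀ c ∈ Rs, ∀ d ∈ Rs, c ≠ d → ∀ i j k, j ≠ i → k ≠ i → j ≠ k →
      f c i * f c j + f d i * f d j = 0 ∨ f c i * f c k + f d i * f d k = 0 := by
    intro c hc d hd hcd i j k hji hki hjk
    by_contra! hne
    have e1 : ∀ l, l ≠ i → (R (f c) * R (f d)).1 (e i) l = -(2 * (f c i * f c l + f d i * f d l)) := fun l hl => by
      rw [RR_apply h2 (by rw [hunit]; exact one_ne_zero) (by rw [hunit]; exact one_ne_zero) (horth c d hcd), hunit,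
        hunit, e_dot, e_dot]
      simp [hl]
      ring
    refine hjk ((hee c hc d hd hcd).col (j := i) ?_ ?_) <;> rw [e1 _ (by assumption)] <;>
      refine neg_ne_zero.2 (mul_ne_zero h2 ?_)
    exacts [hne.1, hne.2]
  have two : ∀ c ∈ Rs, ∃ p q, p ≠ q ∧ f c p ≠ 0 ∧ f c q ≠ 0 := fun c hc => by
    obtain ⟨p, hp⟩ : ∃ p, f c p ≠ 0 := by
      by_contra! h0
      have := hunit c
      rw [show f c = 0 from funext h0, zero_dotProduct] at this
      exact zero_ne_one this
    by_contra! hq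
    refine hno c hc p (f c p) (funext fun i => ?_)
    rcases eq_or_ne i p with rfl | hi
    · simp
    · simpa [hi] using hq p i (Ne.symm hi) hp
  -- three entries are impossible
  have three : ∀ c ∈ Rs, ∀ i j k, i ≠ j → j ≠ k → i ≠ k → f c i ≠ 0 → f c j ≠ 0 → f c k ≠ 0 → False := by
    intro c hc i j k hij hjk hik hi hj hk
    have spread : ∀ c ∈ Rs, ∀ d ∈ Rs, c ≠ d → ∀ i j k, i ≠ j → j ≠ k → i ≠ k →
        f c i ≠ 0 → f c j ≠ 0 → f c k ≠ 0 → f d i ≠ 0 := fun c hc d hd hcd i j k hij hjk hik hi hj hk h0 => by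
      rcases col c hc d hd hcd i j k (Ne.symm hij) (Ne.symm hik) hjk with e' | e' <;>
        rw [h0, zero_mul, add_zero] at e'
      · exact mul_ne_zero hi hj e'
      · exact mul_ne_zero hi hk e'
    set S := supp (f c) with hS
    have hmem : ∀ d ∈ Rs, ∀ l, f c l ≠ 0 → f d l ≠ 0 := by
      intro d hd l hl
      rcases eq_or_ne c d with rfl | hcd
      · exact hl
      obtain ⟨s, t, hls, hst, hlt, hs, ht⟩ : ∃ s t, l ≠ s ∧ s ≠ t ∧ l ≠ t ∧ f c s ≠ 0 ∧ f c t ≠ 0 := by
        by_cases hli : l = i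
        · exact ⟨j, k, hli ▸ hij, hjk, hli ▸ hik, hj, hk⟩
        by_cases hlj : l = j
        · exact ⟨i, k, hli, hik, hlj ▸ hjk, hi, hk⟩
        · exact ⟨i, j, hli, hij, hlj, hi, hj⟩
      exact spread c hc d hd hcd l s t hls hst hlt hl hs ht
    have hzero : ∀ d ∈ Rs, ∀ l, l ∉ S → f d l = 0 := by
      intro d hd l hl
      rw [hS, mem_supp, not_not] at hl
      rcases eq_or_ne c d with rfl | hcd
      · exact hl
      by_contra h0
      refine spread d hd c hc (Ne.symm hcd) l i j ?_ hij ?_ h0 (hmem d hd i hi) (hmem d hd j hj) hl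
      · rintro rfl; exact hi hl
      · rintro rfl; exact hj hl
    -- at most four entries
    have hS4 : S.card ≤ 4 := by
      by_contra! h5
      obtain ⟨d, hd, hdc⟩ := Finset.exists_mem_ne (show 1 < Rs.card by omega) c
      obtain ⟨g, hg⟩ : ((Rs.erase c).erase d).Nonempty := by
        rw [← Finset.card_pos, Finset.card_erase_of_mem (Finset.mem_erase.2 ⟨hdc, hd⟩),
          Finset.card_erase_of_mem hc]
        omega
      simp only [Finset.mem_erase] at hg
      have one : ∀ x ∈ Rs, ∀ y ∈ Rs, x ≠ y →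
          ((S.erase i).filter fun l => f x i * f x l + f y i * f y l ≠ 0).card ≤ 1 := by
        intro x hx y hy hxy
        refine Finset.card_le_one.2 fun l hl m hm => ?_
        simp only [Finset.mem_filter, Finset.mem_erase] at hl hm
        by_contra hlm
        rcases col x hx y hy hxy i l m hl.1.1 hm.1.1 hlm with e' | e'
        · exact hl.2 e'
        · exact hm.2 e'
      set A := (S.erase i).filter fun l => f c i * f c l + f d i * f d l ≠ 0
      set B := (S.erase i).filter fun l => f c i * f c l + f g i * f g l ≠ 0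
      set C := (S.erase i).filter fun l => f d i * f d l + f g i * f g l ≠ 0
      have hA : A.card ≤ 1 := one c hc d hd (Ne.symm hdc)
      have hB : B.card ≤ 1 := one c hc g hg.2.2 (Ne.symm hg.2.1)
      have hC : C.card ≤ 1 := one d hd g hg.2.2 (Ne.symm hg.1)
      obtain ⟨l, hl⟩ : ((S.erase i) \ (A ∪ B ∪ C)).Nonempty := by
        rw [← Finset.card_pos]
        have := Finset.card_union_le (A ∪ B) C
        have := Finset.card_union_le A B
        have := Finset.le_card_sdiff (A ∪ B ∪ C) (S.erase i)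
        have := Finset.card_erase_of_mem (show i ∈ S from mem_supp.2 hi)
        omega
      obtain ⟨hlS, hl'⟩ := Finset.mem_sdiff.1 hl
      simp only [Finset.mem_union, A, B, C, Finset.mem_filter, hlS, true_and, not_or, not_not] at hl'
      have hfl : f c l ≠ 0 := mem_supp.1 (Finset.mem_of_mem_erase hlS)
      exact mul_ne_zero h2 (mul_ne_zero hi hfl) (by linear_combination hl'.1.1 + hl'.1.2 - hl'.2)
    have hli : LinearIndependent F (fun d : Rs => fun l : S => f d.1 l.1) := by
      rw [Fintype.linearIndependent_iff]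
      intro g hg d0
      have hall : ∑ d : Rs, g d • f d.1 = 0 := by
        funext l
        by_cases hl : l ∈ S
        · simpa [Finset.sum_apply] using congrFun hg ⟨l, hl⟩
        · rw [Finset.sum_apply, Pi.zero_apply]
          exact Finset.sum_eq_zero fun d _ => by rw [Pi.smul_apply, hzero d.1 d.2 l hl, smul_zero]
      have := congrArg (· ⬝ᵥ f d0.1) hall
      rw [zero_dotProduct, sum_dotProduct, Finset.sum_eq_single d0 (fun d _ hd => by
        rw [smul_dotProduct, horth _ _ fun e' => hd (Subtype.ext e'), smul_zero])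
        (fun hd => absurd (Finset.mem_univ d0) hd), smul_dotProduct, hunit, smul_eq_mul, mul_one] at this
      exact this
    have := hli.fintype_card_le_finrank
    rw [Module.finrank_fintype_fun_eq_card, Fintype.card_coe, Fintype.card_coe] at this
    omega
  obtain ⟨c, hc⟩ := Finset.card_pos.1 (show 0 < Rs.card by omega)
  obtain ⟨p, q, hpq, hp, hq⟩ := two c hc
  have hcz : ∀ l, l ≠ p → l ≠ q → f c l = 0 := fun l h1 h2 => by
    by_contra h0
    exact three c hc p q l hpq (Ne.symm h2) (Ne.symm h1) hp hq h0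
  have dotc : ∀ x : ι → F, x ⬝ᵥ f c = x p * f c p + x q * f c q := fun x => by
    rw [dotProduct, ← Finset.sum_subset (Finset.subset_univ {p, q}) (fun i _ hi => by
      simp only [Finset.mem_insert, Finset.mem_singleton, not_or] at hi
      rw [hcz i hi.1 hi.2, mul_zero]), Finset.sum_pair hpq]
  set Tw := (Rs.erase c).filter fun d => ¬ (f d p = 0 ∧ f d q = 0) with hTw
  have htw : ∀ d ∈ Tw, f d p ≠ 0 ∧ f d q ≠ 0 ∧ ∀ l, l ≠ p → l ≠ q → f d l = 0 := fun d hd => by
    simp only [hTw, Finset.mem_filter, Finset.mem_erase] at hd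
    have h0 := horth d c hd.1.1
    rw [dotc] at h0
    have hp' : f d p ≠ 0 := fun e' => hd.2 ⟨e', by
      rw [e', zero_mul, zero_add] at h0; exact (mul_eq_zero.1 h0).resolve_right hq⟩
    have hq' : f d q ≠ 0 := fun e' => hp' (by
      rw [e', zero_mul, add_zero] at h0; exact (mul_eq_zero.1 h0).resolve_right hp)
    exact ⟨hp', hq', fun l h1 h2 => by
      by_contra h0'; exact three d hd.1.2 p q l hpq (Ne.symm h2) (Ne.symm h1) hp' hq' h0'⟩
  have hTw1 : Tw.card ≤ 1 := Finset.card_le_one.2 fun d hd d' hd' => by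
    by_contra hne
    obtain ⟨dp, dq, dz⟩ := htw d hd
    obtain ⟨dp', dq', -⟩ := htw d' hd'
    have hdc : d ≠ c := (Finset.mem_erase.1 (Finset.mem_filter.1 hd).1).1
    have hdc' : d' ≠ c := (Finset.mem_erase.1 (Finset.mem_filter.1 hd').1).1
    have h1 := horth d c hdc
    have h2' := horth d' c hdc'
    have h3 := horth d' d (Ne.symm hne)
    rw [dotc] at h1 h2'
    rw [dotProduct, ← Finset.sum_subset (Finset.subset_univ {p, q}) (fun i _ hi => by
      simp only [Finset.mem_insert, Finset.mem_singleton, not_or] at hi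
      rw [dz i hi.1 hi.2, mul_zero]), Finset.sum_pair hpq] at h3
    have hc1 := hunit c
    rw [dotc] at hc1
    have : f d' p * f d p * (f c p * f c p + f c q * f c q) = 0 := by
      linear_combination (f c q * f c q) * h3 + (f d' p * f c p) * h1 - (f d q * f c q) * h2'
    rw [hc1, mul_one] at this
    exact mul_ne_zero dp' dp this
  obtain ⟨d, hd, c', hc', d', hd', hdc', hdd', hcd'⟩ := Finset.two_lt_card.1 (show 2 < ((Rs.erase c) \ Tw).card by
    have := Finset.le_card_sdiff Tw (Rs.erase c)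
    have := Finset.card_erase_of_mem hc
    omega)
  have out : ∀ x ∈ (Rs.erase c) \ Tw, x ∈ Rs ∧ x ≠ c ∧ f x p = 0 ∧ f x q = 0 := fun x hx => by
    obtain ⟨h1, h2⟩ := Finset.mem_sdiff.1 hx
    simp only [hTw, Finset.mem_filter, h1, true_and, not_not] at h2
    exact ⟨(Finset.mem_erase.1 h1).2, (Finset.mem_erase.1 h1).1, h2⟩
  obtain ⟨hdR, hdc, hdp, hdq⟩ := out d hd
  obtain ⟨hcR', hcc', hcp', hcq'⟩ := out c' hc'
  obtain ⟨hdR', hdcne', hdp', hdq'⟩ := out d' hd'
  obtain ⟨r, s, -, hr, -⟩ := two d hdR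
  have hrp : r ≠ p := fun h => hr (h ▸ hdp)
  have hrq : r ≠ q := fun h => hr (h ▸ hdq)
  have hm := hsw c hc d hdR c' hcR' d' hdR' (Ne.symm hdc) hcd' (Ne.symm hcc') (Ne.symm hdcne') hdc' hdd'
  have happ : ∀ l, l ≠ p → (R (f c - f d) * R (f c' - f d')).1 (e p) l = -(f c p * (f c - f d) l) := fun l hl => by
    rw [RR_apply h2 (by rw [hsub c d (Ne.symm hdc)]; exact h2) (by rw [hsub c' d' hcd']; exact h2) (by
      simp [sub_dotProduct, dotProduct_sub, horth c c' (Ne.symm hcc'), horth c d' (Ne.symm hdcne'),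
        horth d c' hdc', horth d d' hdd'])]
    rw [hsub c d (Ne.symm hdc), hsub c' d' hcd']
    simp [hl, hdp, hcp', hdp']
    field_simp
    tauto
  refine hrq (Eq.symm (hm.col (j := p) (i := q) (k := r) ?_ ?_))
  · rw [happ q (Ne.symm hpq), Pi.sub_apply, hdq, sub_zero]
    exact neg_ne_zero.2 (mul_ne_zero hp hq)
  · rw [happ r hrp, Pi.sub_apply, hcz r hrp hrq, zero_sub]
    exact neg_ne_zero.2 (mul_ne_zero hp (neg_ne_zero.2 hr))

variable {H : Subgroup (oG (sq F ι))}

theorem Root.no_three {w : ι → F} (hw : Root w) {i j k : ι} (hij : i ≠ j) (hjk : j ≠ k) (hik : i ≠ k)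
    (hi : w i ≠ 0) (hj : w j ≠ 0) (hk : w k ≠ 0) : False := by
  rcases hw with ⟨a, ha⟩ | ⟨a, b, -, -, hz⟩
  · exact hij ((not_not.1 fun h => hi (ha i h)).trans (not_not.1 fun h => hj (ha j h)).symm)
  · have key : ∀ l, w l ≠ 0 → l = a ∨ l = b := fun l hl => by
      by_contra h
      rw [not_or] at h
      exact hl (hz l h.1 h.2)
    rcases key i hi with rfl | rfl <;> rcases key j hj with rfl | rfl <;> rcases key k hk with rfl | rfl <;>
      simp_all

/-- an element mapping a coordinate vector to one is monomial -/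
theorem mono_of_col (hH : Over H) {h : oG (sq F ι)} (hh : h ∈ H) {i j : ι} {c : F}
    (hij : h.1 (e i) = c • e j) : Mono h := by
  classical
  have h2 := hH.two
  have hc : c ≠ 0 := fun h0 => by
    have := dot_oG h h2 (e i) (e i)
    rw [hij, h0, zero_smul, zero_dotProduct, e_self] at this
    exact zero_ne_one this
  have key : ∀ v, T H v → Root (h.1 v) := fun v hv => roots_only hH (hv.move hH hh hc hij)
  intro a
  obtain ⟨hr⟩ : Nonempty (Root (h.1 (e a))) := ⟨key _ (T.e_mem hH a)⟩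
  rcases hr with ⟨p, hp⟩ | ⟨p, q, hpq, hsq, hz⟩
  · exact ⟨p, h.1 (e a) p, funext fun l => by
      rcases eq_or_ne l p with rfl | hl
      · simp
      · simp [hl, hp l hl]⟩
  set x := h.1 (e a) with hx
  by_cases hp0 : x p = 0
  · refine ⟨q, x q, funext fun l => ?_⟩
    rcases eq_or_ne l q with rfl | hl
    · simp
    rcases eq_or_ne l p with rfl | hl'
    · simp [hl, hp0]
    · simp [hl, hz l hl' hl]
  exfalso
  have hq0 : x q ≠ 0 := fun h0 => hp0 (mul_self_eq_zero.1 (by rw [hsq, h0, mul_zero]))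
  have hdot : ∀ z : ι → F, z ⬝ᵥ x = z p * x p + z q * x q := fun z => by
    rw [dotProduct, ← Finset.sum_subset (Finset.subset_univ {p, q}) (fun l _ hl => by
      simp only [Finset.mem_insert, Finset.mem_singleton, not_or] at hl
      rw [hz l hl.1 hl.2, mul_zero]), Finset.sum_pair hpq]
  have ht : 2 * (x p * x p) = 1 := by
    have h1 : x ⬝ᵥ x = 1 := by rw [hx, dot_oG _ h2, e_self]
    rw [hdot] at h1
    linear_combination h1 + hsq
  have inside : ∀ d, d ≠ a → ∀ l, l ≠ p → l ≠ q → h.1 (e d) l = 0 := by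
    intro d hd l hlp hlq
    by_contra hl
    set y := h.1 (e d) with hy
    have horth : y ⬝ᵥ x = 0 := by rw [hy, hx, dot_oG _ h2, dot_e, e_apply, if_neg (Ne.symm hd)]
    rw [hdot] at horth
    have hr := key _ (T.e_mem hH d)
    have hyp : y p = 0 := by
      by_contra hp'
      have hq' : y q ≠ 0 := fun h0 => by
        rw [h0, zero_mul, add_zero] at horth
        exact mul_ne_zero hp' hp0 horth
      exact hr.no_three hpq (Ne.symm hlq) (Ne.symm hlp) hp' hq' hl
    have hyq : y q = 0 := by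
      rw [hyp, zero_mul, zero_add] at horth
      exact (mul_eq_zero.1 horth).resolve_right hq0
    have hs := key _ (T.root hH (Ne.symm hd) ht)
    rw [map_smul, map_add, ← hx, ← hy] at hs
    refine hs.no_three hpq (Ne.symm hlq) (Ne.symm hlp) ?_ ?_ ?_
    · simp [hyp, hp0]
    · simp [hyq, hp0, hq0]
    · simp [hz l hlp hlq, hl, hp0]
  obtain ⟨d, hd⟩ := hH.fresh {a} (by simp)
  obtain ⟨d', hd'⟩ := hH.fresh {a, d} (le_trans Finset.card_le_two (by norm_num))
  simp only [Finset.mem_singleton, Finset.mem_insert, not_or] at hd hd'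
  have h1 : h.1 (e d) ⬝ᵥ x = 0 := by rw [hx, dot_oG _ h2, dot_e, e_apply, if_neg (Ne.symm hd)]
  have h2' : h.1 (e d') ⬝ᵥ x = 0 := by rw [hx, dot_oG _ h2, dot_e, e_apply, if_neg (Ne.symm hd'.1)]
  have h3 : h.1 (e d) ⬝ᵥ h.1 (e d') = 0 := by rw [dot_oG _ h2, dot_e, e_apply, if_neg hd'.2]
  have n1 : h.1 (e d) ⬝ᵥ h.1 (e d) = 1 := by rw [dot_oG _ h2, e_self]
  have n2 : h.1 (e d') ⬝ᵥ h.1 (e d') = 1 := by rw [dot_oG _ h2, e_self]
  rw [hdot] at h1 h2'
  have hd2 : ∀ z : ι → F, z ⬝ᵥ h.1 (e d) = z p * h.1 (e d) p + z q * h.1 (e d) q := fun z => by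
    rw [dotProduct, ← Finset.sum_subset (Finset.subset_univ {p, q}) (fun l _ hl => by
      simp only [Finset.mem_insert, Finset.mem_singleton, not_or] at hl
      rw [inside d hd l hl.1 hl.2, mul_zero]), Finset.sum_pair hpq]
  rw [hd2] at n1
  rw [dotProduct_comm, hd2] at h3
  have hd'2 : h.1 (e d') p * h.1 (e d') p + h.1 (e d') q * h.1 (e d') q = 1 := by
    rw [← n2, dotProduct, ← Finset.sum_subset (Finset.subset_univ {p, q}) (fun l _ hl => by
      simp only [Finset.mem_insert, Finset.mem_singleton, not_or] at hl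
      rw [inside d' hd'.1 l hl.1 hl.2, mul_zero]), Finset.sum_pair hpq]
  generalize h.1 (e d) p = y1, h.1 (e d) q = y2, h.1 (e d') p = z1, h.1 (e d') q = z2 at h1 h2' h3 n1 hd'2
  have e1 : x p * (y1 * z2 - y2 * z1) = 0 := by linear_combination z2 * h1 - y2 * h2'
  have e2 := (mul_eq_zero.1 e1).resolve_left hp0
  have e3 : (1 : F) = 0 := by
    linear_combination (y1 * z2 - y2 * z1) * e2 + (y1 * z1 + y2 * z2) * h3 - (z1 * z1 + z2 * z2) * n1 - hd'2
  exact one_ne_zero e3

/-- a row of small support makes an element monomial -/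
theorem mono_of_row (hH : Over H) {h : oG (sq F ι)} (hh : h ∈ H) (a : ι) (S : Finset ι)
    (hS : S.card + 5 ≤ Fintype.card ι) (hsupp : ∀ i, i ∉ S → h⁻¹.1 (e a) i = 0) : Mono h := by
  have h2 := hH.two
  set x := h⁻¹.1 (e a) with hx
  have hxa : h.1 x = e a := oG_apply_inv h _
  have key : ∀ u v : ι → F, R u * R v ∈ H → (R u).1 x = x → (R v).1 x = x → Mono (R (h.1 u) * R (h.1 v)) := by
    intro u v hm hu hv
    have e1 : R (h.1 u) * R (h.1 v) = h * (R u * R v) * h⁻¹ := by
      rw [← conj_R, ← conj_R]; group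
    rw [e1]
    refine mono_of_col hH (mul_mem (mul_mem hh hm) (inv_mem hh)) (i := a) (j := a) (c := 1) ?_
    rw [oG_mul_apply, oG_mul_apply, oG_mul_apply, ← hx, hv, hu, hxa, one_smul]
  have hfix : ∀ c, c ∉ S → (R (F := F) (e c)).1 x = x := fun c hc => by
    rw [R_apply h2 (e_self c), dot_e, hsupp c hc, mul_zero, zero_smul, sub_zero]
  have hfix' : ∀ c d, c ≠ d → c ∉ S → d ∉ S → (R (F := F) (e c - e d)).1 x = x := fun c d hcd hc hd => by
    rw [R_apply' h2 (by rw [dot_sub_e hcd]; exact h2), dotProduct_sub, dot_e, dot_e, hsupp c hc, hsupp d hd, sub_zero,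
      mul_zero, zero_div, zero_smul, sub_zero]
  obtain ⟨c, -, j, t, hcj⟩ := exists_coord h2 Sᶜ (by rw [Finset.card_compl]; omega) h
    (fun c hc d hd _ => key _ _ (hH.ee_mem c d) (hfix c (Finset.mem_compl.1 hc)) (hfix d (Finset.mem_compl.1 hd)))
    (fun c hc d hd c' hc' d' hd' hcd hcd' _ _ _ _ => by
      rw [← map_sub, ← map_sub]
      exact key _ _ (hH.pp_mem hcd hcd') (hfix' c d hcd (Finset.mem_compl.1 hc) (Finset.mem_compl.1 hd))
        (hfix' c' d' hcd' (Finset.mem_compl.1 hc') (Finset.mem_compl.1 hd')))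
  exact mono_of_col hH hh hcj

end Cfsg.Agent.ClassicalMax.OrthMono
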