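import Cfsg.Agent.ClassicalMax.OrthMono.Large

/-!
Transport of members, members of root shape, and the main step in characteristic at least eleven.
-/

set_option autoImplicit false
set_option linter.unusedSectionVars false
set_option linter.style.haveILetI false

namespace Cfsg.Agent.ClassicalMax.OrthMono

open Module QuadraticMap Cfsg.Agent.Classical Cfsg.Agent.Classical.Quad Matrix

variable {F ι : Type*} [Field F] [Fintype ι] [DecidableEq ι] [Finite F]
variable {H : Subgroup (oG (sq F ι))} {w : ι → F}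

theorem Over.charP (hH : Over H) : CharP F (Nat.card F) := by
  haveI := Fintype.ofFinite F
  obtain ⟨p, hp⟩ := CharP.exists F
  haveI := hp
  obtain ⟨m, hpp, hm⟩ := FiniteField.card F p
  have h : Nat.card F = p := by
    have hp' := hH.prime
    rw [Nat.card_eq_fintype_card, hm] at hp' ⊢
    rw [hp'.eq_one_of_pow, pow_one]
  rw [h]; exact hp

theorem Over.cast_ne_zero (hH : Over H) {k : ℕ} (h0 : 0 < k) (hk : k < Nat.card F) : (k : F) ≠ 0 := fun h => by
  haveI := hH.charP
  exact absurd (Nat.le_of_dvd h0 ((CharP.cast_eq_zero_iff F (Nat.card F) k).1 h)) (by omega)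

theorem Over.big_of (hH : Over H) (h : 11 ≤ Nat.card F) : Big F :=
  ⟨by exact_mod_cast hH.cast_ne_zero (k := 3) (by norm_num) (by omega),
    by exact_mod_cast hH.cast_ne_zero (k := 5) (by norm_num) (by omega),
    by exact_mod_cast hH.cast_ne_zero (k := 7) (by norm_num) (by omega)⟩

theorem T.swap (hH : Over H) (hw : T H w) (hp : Twin w) (a b : ι) : T H (fun i => w (Equiv.swap a b i)) := by
  rcases eq_or_ne a b with rfl | hab
  · simpa using hw
  obtain ⟨c, d, hcd, he⟩ := hp
  refine T.of_squares hH (hw.perm hH hab hcd) fun i => ?_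
  rw [Equiv.swap_apply_def c d]
  split_ifs with h1 h2
  · rw [h1, he]
  · rw [h2, he]
  · rfl

/-- members may be rearranged -/
theorem T.rearrange (hH : Over H) (hw : T H w) (hp : Twin w) (σ : Equiv.Perm ι) :
    T H (fun i => w (σ i)) := by
  revert w
  induction σ using Equiv.Perm.swap_induction_on with
  | one => intro w hw _; exact hw
  | swap_mul f x y _ ih =>
    intro w hw hp
    refine ih (T.swap hH hw hp x y) ?_
    obtain ⟨c, d, hcd, he⟩ := hp
    exact ⟨Equiv.swap x y c, Equiv.swap x y d, (Equiv.injective _).ne hcd, by simpa using he⟩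

/-- the bisectors of two coordinate vectors are members -/
theorem T.root (hH : Over H) {a b : ι} (hab : a ≠ b) {t : F} (ht : 2 * (t * t) = 1) :
    T H (t • (e a + e b) : ι → F) := by
  have ht0 : t ≠ 0 := fun h => by rw [h] at ht; simp at ht
  have h1 : (t • (e a + e b) : ι → F) ⬝ᵥ (t • (e a + e b)) = 1 := by
    simp [dotProduct_add, hab, Ne.symm hab]
    linear_combination ht
  refine T.of_one hH h1 (j := a) (hH.mono _ (hH.pair_mem_comm (t := 1) (by rw [h1]; exact one_ne_zero)
    (by rw [h1, e_self]; ring) (by rw [e_self]; exact one_ne_zero)) (Mono.mul ?_ (mono_R_e hH.two a)))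
  have e1 : (R (F := F) (e b)).1 (e a - e b) = e a + e b := by
    rw [R_apply hH.two (e_self b), sub_dotProduct, dot_e, dot_e, e_apply, e_apply, if_neg (Ne.symm hab), if_pos rfl]
    module
  rw [R_smul ht0, ← e1, ← conj_R, R_inv]
  exact ((mono_R_e hH.two b).mul (mono_sw hH.two hab)).mul (mono_R_e hH.two b)

/-- two members in the space give an element trivial on the complement -/
theorem Cfg.pair_mem {a b : ι} (c : Cfg H a b w) {u v : ι → F} (hu : T H u) (hv : T H v) (huU : u ∈ U3 a b w)
    (hvU : v ∈ U3 a b w) : R u * R v ∈ K3 H a b w := by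
  haveI := c.ov.nontriv_idx
  have hp : ∀ v : ι → F, T H v → ∀ x, T H ((R v).1 x) ↔ T H x := fun v hv x => by
    refine ⟨fun hx => ?_, hv.refl c.ov⟩
    have := hv.refl c.ov hx
    rwa [← oG_mul_apply, R_mul_self, oG_one_apply] at this
  have hf : ∀ u, u ⬝ᵥ u = 1 → u ∈ U3 a b w → ∀ z ∈ W3 a b w, (R u).1 z = z := fun u hu huU z hz => by
    rw [R_apply c.h2 hu, dotProduct_comm, U3_perp huU hz, mul_zero, zero_smul, sub_zero]
  exact ⟨hu.pair hv, fun z hz => by rw [oG_mul_apply, hf v hv.1 hvU z hz, hf u hu.1 huU z hz],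
    fun z => by rw [oG_mul_apply]; exact (hp _ hu _).trans (hp _ hv z)⟩

/-- a vector of the shape of a root -/
def Root (u : ι → F) : Prop :=
  (∃ a, ∀ i, i ≠ a → u i = 0) ∨ ∃ a b, a ≠ b ∧ u a * u a = u b * u b ∧ ∀ i, i ≠ a → i ≠ b → u i = 0

open scoped _root_.Classical in
theorem nonroot_cases (hH : Over H) (hr : ¬ Root w) :
    3 ≤ (supp w).card ∨ ∃ a b, a ≠ b ∧ w a ≠ 0 ∧ w b ≠ 0 ∧ w a * w a ≠ w b * w b ∧
      ∀ i, i ≠ a → i ≠ b → w i = 0 := by
  rcases Nat.lt_or_ge (supp w).card 3 with h | h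
  swap
  · exact Or.inl h
  right
  have hmem : ∀ i, i ∉ supp w → w i = 0 := fun i hi => by simpa [supp] using hi
  interval_cases hc : (supp w).card
  · rw [Finset.card_eq_zero] at hc
    obtain ⟨a⟩ := hH.nontriv_idx
    exact absurd (Or.inl ⟨a, fun i _ => hmem i (by simp [hc])⟩) hr
  · obtain ⟨a, ha⟩ := Finset.card_eq_one.1 hc
    exact absurd (Or.inl ⟨a, fun i hi => hmem i (by simp [ha, hi])⟩) hr
  · obtain ⟨a, b, hab, hs⟩ := Finset.card_eq_two.1 hc
    have hz : ∀ i, i ≠ a → i ≠ b → w i = 0 := fun i h1 h2 => hmem i (by simp [hs, h1, h2])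
    have ha : a ∈ supp w := by simp [hs]
    have hb : b ∈ supp w := by simp [hs]
    exact ⟨a, b, hab, mem_supp.1 ha, mem_supp.1 hb, fun he => hr (Or.inr ⟨a, b, hab, he, hz⟩), hz⟩

/-- characteristic at least eleven -/
theorem abk_large (hH : Over H) (h11 : 11 ≤ Nat.card F) (hw : T H w) (hr : ¬ Root w) : Abk H := by
  rcases nonroot_cases hH hr with h | ⟨a, b, hab, ha, hb, hne, hz⟩
  · exact abk_of_three hH (hH.big_of h11) hw h
  · refine abk_of_two hH hw hab ha hb hz fun h => hne ?_
    have := hw.1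
    rw [sum_two hab hz] at this
    linear_combination h - this

end Cfsg.Agent.ClassicalMax.OrthMono
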