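import Cfsg.Agent.ClassicalMax.OrthMono.Space

/-!
An element trivial on the complement fixing a singular vector of the space: then all units of the space are members.
-/

set_option autoImplicit false
set_option linter.unusedSectionVars false
set_option linter.style.haveILetI false

namespace Cfsg.Agent.ClassicalMax.OrthMono

open Module QuadraticMap Cfsg.Agent.Classical Cfsg.Agent.Classical.Quad Matrix

/-- two opposite one-parameter groups are transitive on the conic -/
theorem orbit_all {F : Type*} [Field F] [Finite F] (h2 : (2 : F) ≠ 0) {ν : F} (hν : ν ≠ 0) (P : F → F → F → Prop)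
    (hX : ∀ k α β γ, P α β γ → P (α + k * β - γ * (k * k) / (2 * ν)) (β - k * γ / ν) γ)
    (hY : ∀ k α β γ, P α β γ → P α (β - k * α / ν) (γ + k * β - α * (k * k) / (2 * ν)))
    {α β γ α' β' γ' : F} (hz : 2 * α * γ + β * β * ν = 1) (hz' : 2 * α' * γ' + β' * β' * ν = 1) (h : P α β γ) :
    P α' β' γ' := by
  set c : F → Prop := fun g => P (1 / (2 * g)) 0 g with hc
  have toC : ∀ a b g, g ≠ 0 → 2 * a * g + b * b * ν = 1 → P a b g → c g := fun a b g hg e hp => by
    have := hX (b * ν / g) a b g hp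
    show P _ _ _
    convert this using 1
    · field_simp; linear_combination -e
    · field_simp; ring
  have ofC : ∀ a b g, g ≠ 0 → 2 * a * g + b * b * ν = 1 → c g → P a b g := fun a b g hg e hp => by
    have := hX (-(b * ν / g)) _ _ _ hp
    convert this using 1
    · field_simp; linear_combination e
    · field_simp; ring
  have toC' : ∀ a b g, a ≠ 0 → 2 * a * g + b * b * ν = 1 → P a b g → c (1 / (2 * a)) := fun a b g ha e hp => by
    have := hY (b * ν / a) a b g hp
    show P _ _ _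
    convert this using 1
    · field_simp
    · field_simp; ring
    · field_simp; linear_combination -e
  have ofC' : ∀ a b g, a ≠ 0 → 2 * a * g + b * b * ν = 1 → c (1 / (2 * a)) → P a b g := fun a b g ha e hp => by
    have := hY (-(b * ν / a)) _ _ _ hp
    convert this using 1
    · field_simp
    · field_simp; ring
    · field_simp; linear_combination e
  have link : ∀ g1 g2, g1 ≠ 0 → g2 ≠ 0 → c g1 → c g2 := fun g1 g2 hg1 hg2 hp => by
    haveI := Fintype.ofFinite F
    have hodd : Fintype.card F % 2 = 1 :=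
      FiniteField.odd_card_of_char_ne_two (fun hchar => h2 (by
        haveI : CharP F 2 := hchar ▸ ringChar.charP F
        exact CharTwo.two_eq_zero))
    obtain ⟨b1, b2, hb⟩ := FiniteField.exists_root_sum_quadratic
      (f := Polynomial.C (-(ν * g2)) * Polynomial.X ^ 2 + Polynomial.C 0 * Polynomial.X + Polynomial.C (g2 - g1))
      (g := Polynomial.C (ν * g1) * Polynomial.X ^ 2 + Polynomial.C 0 * Polynomial.X + Polynomial.C 0)
      (Polynomial.degree_quadratic (neg_ne_zero.2 (mul_ne_zero hν hg2)))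
      (Polynomial.degree_quadratic (mul_ne_zero hν hg1)) hodd
    simp only [Polynomial.eval_add, Polynomial.eval_mul, Polynomial.eval_C, Polynomial.eval_X,
      Polynomial.eval_pow, zero_mul, add_zero] at hb
    set a := (1 - b1 * b1 * ν) / (2 * g1) with ha
    have e1 : 2 * a * g1 + b1 * b1 * ν = 1 := by rw [ha]; field_simp; ring
    have e2 : 2 * a * g2 + b2 * b2 * ν = 1 := by
      have : g1 * (2 * a * g2 + b2 * b2 * ν - 1) = 0 := by linear_combination g2 * e1 + hb
      rcases mul_eq_zero.1 this with h' | h'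
      · exact absurd h' hg1
      · exact sub_eq_zero.1 h'
    rcases eq_or_ne a 0 with h0 | h0
    · rw [h0] at e1 e2
      have hb1 : b1 ≠ 0 := fun e' => by rw [e'] at e1; simp at e1
      have hp1 := ofC 0 b1 g1 hg1 e1 hp
      have := hY ((g2 - g1) / b1) 0 b1 g1 hp1
      refine toC 0 b1 g2 hg2 (by linear_combination e1) ?_
      convert this using 1
      · simp
      · field_simp; ring
    · exact toC a b2 g2 hg2 e2 (ofC' a b2 g2 h0 e2 (toC' a b1 g1 h0 e1 (ofC a b1 g1 hg1 e1 hp)))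
  obtain ⟨g1, hg1, h1⟩ : ∃ g1, g1 ≠ 0 ∧ c g1 := by
    rcases eq_or_ne γ 0 with h0 | h0
    · subst h0
      have hb : β ≠ 0 := fun e' => by rw [e'] at hz; simp at hz
      refine ⟨β, hb, toC 0 β β hb (by linear_combination hz) ?_⟩
      have := hY 1 _ _ _ (hX (-α / β) α β 0 h)
      convert this using 1
      · field_simp; ring
      · field_simp; ring
      · field_simp; ring
    · exact ⟨γ, h0, toC _ _ _ h0 hz h⟩
  rcases eq_or_ne γ' 0 with h0 | h0
  · subst h0
    have hb : β' ≠ 0 := fun e' => by rw [e'] at hz'; simp at hz'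
    have := hX (α' / β') _ _ _ (hY (-1) 0 β' β' (ofC 0 β' β' hb (by linear_combination hz') (link g1 β' hg1 hb h1)))
    convert this using 1
    · field_simp; ring
    · field_simp; ring
    · field_simp; ring
  · exact ofC _ _ _ h0 hz' (link g1 γ' hg1 h0 h1)

variable {F ι : Type*} [Field F] [Fintype ι] [DecidableEq ι]

/-- the standard action of a unipotent element in a frame -/
def Tx (h : oG (sq F ι)) (k : F) (x d y : ι → F) : Prop :=
  h.1 x = x ∧ h.1 d = d + k • x ∧
    h.1 y = y - (k / (d ⬝ᵥ d)) • d - (k * k / (2 * (d ⬝ᵥ d))) • x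

theorem Tx.one (x d y : ι → F) : Tx (1 : oG (sq F ι)) 0 x d y := by
  refine ⟨rfl, ?_, ?_⟩ <;> simp

theorem Tx.mul {g h : oG (sq F ι)} {k l : F} {x d y : ι → F} (h2 : (2 : F) ≠ 0) (hd : d ⬝ᵥ d ≠ 0)
    (hg : Tx g k x d y) (hh : Tx h l x d y) : Tx (g * h) (k + l) x d y := by
  refine ⟨by rw [oG_mul_apply, hh.1, hg.1], ?_, ?_⟩
  · rw [oG_mul_apply, hh.2.1, map_add, map_smul, hg.1, hg.2.1]; module
  · rw [oG_mul_apply, hh.2.2, map_sub, map_sub, map_smul, map_smul, hg.1, hg.2.1, hg.2.2]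
    match_scalars <;> field_simp <;> ring

theorem Tx.apply {h : oG (sq F ι)} {k : F} {x d y : ι → F} (hh : Tx h k x d y) (α β γ : F) :
    h.1 (α • x + β • d + γ • y) = (α + k * β - γ * (k * k) / (2 * (d ⬝ᵥ d))) • x
      + (β - k * γ / (d ⬝ᵥ d)) • d + γ • y := by
  rw [map_add, map_add, map_smul, map_smul, map_smul, hh.1, hh.2.1, hh.2.2]
  module

variable [Finite F]
variable {H : Subgroup (oG (sq F ι))} {a b : ι} {w x d y : ι → F}

theorem fix_singular (c : Cfg H a b w) {h : oG (sq F ι)} (hh : h ∈ K3 H a b w) (f : Frame a b w x d y)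
    (hx : h.1 x = x) : ∃ k, Tx h k x d y := by
  have h2 := c.h2
  by_cases h1 : h = 1
  · exact ⟨0, h1 ▸ Tx.one x d y⟩
  have ed := f.expand c (c.map_U hh f.dU)
  have ey := f.expand c (c.map_U hh f.yU)
  have d1 : h.1 d ⬝ᵥ x = 0 := by rw [← hx, dot_oG _ h2, dotProduct_comm, f.xd]
  have y1 : h.1 y ⬝ᵥ x = 1 := by rw [← hx, dot_oG _ h2, dotProduct_comm, f.xy]
  obtain ⟨q, hq⟩ : ∃ q, h.1 d ⬝ᵥ y = q := ⟨_, rfl⟩
  obtain ⟨s, hs⟩ : ∃ s, h.1 d ⬝ᵥ d / (d ⬝ᵥ d) = s := ⟨_, rfl⟩
  obtain ⟨α, hα⟩ : ∃ α, h.1 y ⬝ᵥ y = α := ⟨_, rfl⟩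
  obtain ⟨β, hβ⟩ : ∃ β, h.1 y ⬝ᵥ d / (d ⬝ᵥ d) = β := ⟨_, rfl⟩
  rw [hq, hs, d1, zero_smul, add_zero] at ed
  rw [hα, hβ, y1, one_smul] at ey
  have nd : h.1 d ⬝ᵥ h.1 d = d ⬝ᵥ d := dot_oG _ h2 _ _
  have ny : h.1 y ⬝ᵥ h.1 y = 0 := by rw [dot_oG _ h2, f.yy]
  have ndy : h.1 d ⬝ᵥ h.1 y = 0 := by rw [dot_oG _ h2, dotProduct_comm, f.yd]
  rw [ed] at nd ndy
  rw [ey] at ny ndy
  simp only [add_dotProduct, dotProduct_add, smul_dotProduct, dotProduct_smul, smul_eq_mul,
    dotProduct_comm y x, dotProduct_comm d x, dotProduct_comm d y, f.xx, f.yy, f.xy, f.xd, f.yd] at nd ny ndy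
  have s2 : s * s = 1 := mul_right_cancel₀ f.dd (by linear_combination nd)
  rcases mul_self_eq_one_iff.1 s2 with hs1 | hs1
  · subst hs1
    refine ⟨q, hx, by rw [ed]; module, ?_⟩
    have hb' : β = -q / (d ⬝ᵥ d) := by field_simp [f.dd]; linear_combination ndy
    have hν := f.dd
    have ha' : α = -(q * q / (2 * (d ⬝ᵥ d))) := by
      subst hb'
      field_simp at ny ⊢
      linear_combination ny
    rw [ey, hb', ha']
    module
  · subst hs1
    exfalso
    have hq' : q = β * (d ⬝ᵥ d) := by linear_combination ndy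
    have hfix : h.1 (y + (β / 2) • d) = y + (β / 2) • d := by
      rw [map_add, map_smul, ey, ed]
      subst hq'
      match_scalars
      · field_simp; linear_combination ny
      all_goals field_simp
      all_goals ring
    have hx0 : x ≠ 0 := fun e' => by have := f.xy; rw [e', zero_dotProduct] at this; exact zero_ne_one this
    have hmem : y + (β / 2) • d ∈ fixSub h ⊓ U3 a b w :=
      ⟨mem_fixSub.2 hfix, add_mem f.yU (Submodule.smul_mem _ _ f.dU)⟩
    rw [c.fix_eq_span hh h1 f.xU hx0 hx] at hmem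
    obtain ⟨t, ht⟩ := Submodule.mem_span_singleton.1 hmem
    have := congrArg (· ⬝ᵥ x) ht
    simp only [add_dotProduct, smul_dotProduct, f.xx, smul_eq_mul, dotProduct_comm y x, f.xy,
      dotProduct_comm d x, f.xd, mul_zero, add_zero] at this
    exact zero_ne_one this

theorem Tx.eq_one (c : Cfg H a b w) (f : Frame a b w x d y) {h : oG (sq F ι)} (hh : h ∈ K3 H a b w)
    (ht : Tx h 0 x d y) : h = 1 := by
  refine c.ext hh.2.1 (fun _ _ => rfl) fun z hz => ?_
  rw [oG_one_apply, f.expand c hz, ht.apply]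
  simp

/-- one non-trivial element fixing a singular vector gives all -/
theorem exists_tx (c : Cfg H a b w) {h : oG (sq F ι)} (hh : h ∈ K3 H a b w) (h1 : h ≠ 1) (f : Frame a b w x d y)
    (hx : h.1 x = x) (k : F) : ∃ g ∈ K3 H a b w, Tx g k x d y := by
  obtain ⟨k0, hk0⟩ := fix_singular c hh f hx
  have hne : k0 ≠ 0 := fun e' => h1 (Tx.eq_one c f hh (e' ▸ hk0))
  obtain ⟨m, hm⟩ := c.ov.natCast_surj (k / k0)
  refine ⟨h ^ m, pow_mem hh m, ?_⟩
  have : ∀ n : ℕ, Tx (h ^ n) ((n : F) * k0) x d y := fun n => by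
    induction n with
    | zero => simpa using Tx.one x d y
    | succ n ih => rw [pow_succ, Nat.cast_succ, add_one_mul]; exact ih.mul c.h2 f.dd hk0
  have := this m
  rwa [hm, div_mul_cancel₀ _ hne] at this

/-- all units are members, and there is a full root group -/
def Full (H : Subgroup (oG (sq F ι))) (U : Submodule F (ι → F)) : Prop :=
  (∀ z ∈ U, z ⬝ᵥ z = 1 → T H z) ∧ ∃ x ∈ U, ∃ d ∈ U, x ≠ 0 ∧ x ⬝ᵥ x = 0 ∧ x ⬝ᵥ d = 0 ∧ d ⬝ᵥ d ≠ 0 ∧
    ∀ (q : F) (hp : sq F ι x = 0) (hpw : polar (sq F ι) x (q • d) = 0), sO hp hpw ∈ H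

/-- some element moves every singular line -/
theorem exists_moves (c : Cfg H a b w) (hxU : x ∈ U3 a b w) (hx0 : x ≠ 0) (hxx : x ⬝ᵥ x = 0) :
    ∃ h ∈ K3 H a b w, h.1 x ∉ Submodule.span F {x} := by
  by_contra! hc
  obtain ⟨hg, hr⟩ := c.mem_K
  have h2 := c.h2
  obtain ⟨r, hr'⟩ := Submodule.mem_span_singleton.1 (hc _ hr)
  obtain ⟨s, hs'⟩ := Submodule.mem_span_singleton.1 (hc _ hg)
  have hne := c.ne
  have hRe : ∀ i, i ≠ a → i ≠ b → r * x i = x i := fun i hia hib => by
    have := congrFun hr' i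
    rw [oG_mul_apply, R_e_apply h2, R_e_apply h2] at this
    simpa [Function.update_of_ne hia, Function.update_of_ne hib] using this
  have hRa : r * x a = -x a := by
    have := congrFun hr' a
    rw [oG_mul_apply, R_e_apply h2, R_e_apply h2] at this
    simpa [Function.update_self, Function.update_of_ne hne] using this
  have hRb : r * x b = -x b := by
    have := congrFun hr' b
    rw [oG_mul_apply, R_e_apply h2, R_e_apply h2] at this
    simpa [Function.update_self, Function.update_of_ne (Ne.symm hne)] using this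
  -- the vector as a combination
  obtain ⟨g, hg'⟩ := (Submodule.mem_span_range_iff_exists_fun F).1 hxU
  simp only [Fin.sum_univ_three, Matrix.cons_val_zero, Matrix.cons_val_one, Matrix.cons_val] at hg'
  obtain ⟨ca, cb, cw⟩ := c.comb (g 0) (g 1) (g 2)
  rw [hg'] at ca cb cw
  have hxxe : g 0 * x a + g 1 * x b + g 2 * (x ⬝ᵥ w) = 0 := by
    rw [← hxx]
    conv_rhs => arg 1; rw [← hg']
    simp [add_dotProduct, smul_dotProduct, dotProduct_comm w x]
  have hwr : g 2 * (r - 1) = 0 := by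
    obtain ⟨i, hia, hib, hwi⟩ : ∃ i, i ≠ a ∧ i ≠ b ∧ w i ≠ 0 := by
      by_contra! h0
      apply c.third
      have := c.tw.1
      rw [dotProduct, ← Finset.sum_subset (Finset.subset_univ {a, b}) (fun i _ hi => by
        simp only [Finset.mem_insert, Finset.mem_singleton, not_or] at hi
        rw [h0 i hi.1 hi.2, zero_mul]), Finset.sum_pair hne] at this
      linear_combination -this
    have := hRe i hia hib
    have hxi : x i = g 2 * w i := by
      rw [← hg']; simp [hia, hib]
    rw [hxi] at this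
    exact mul_right_cancel₀ hwi (by linear_combination this)
  rcases mul_eq_zero.1 hwr with h0 | h0
  · -- outside part zero
    rw [h0] at ca cb cw
    simp only [zero_mul, add_zero] at ca cb cw
    have := congrFun hs'
    have hw1 : (R w).1 x = x - (2 * (x ⬝ᵥ w)) • w := R_apply h2 c.tw.1 x
    obtain ⟨i, hia, hib, hwi⟩ : ∃ i, i ≠ a ∧ i ≠ b ∧ w i ≠ 0 := by
      by_contra! h0'
      apply c.third
      have := c.tw.1
      rw [dotProduct, ← Finset.sum_subset (Finset.subset_univ {a, b}) (fun i _ hi => by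
        simp only [Finset.mem_insert, Finset.mem_singleton, not_or] at hi
        rw [h0' i hi.1 hi.2, zero_mul]), Finset.sum_pair hne] at this
      linear_combination -this
    have hxi : x i = 0 := by rw [← hg', h0]; simp [hia, hib]
    have ei := this i
    have ea := this a
    have eb := this b
    rw [oG_mul_apply, hw1, R_e_apply h2] at ei ea eb
    simp only [Function.update_of_ne hia, Function.update_self, Function.update_of_ne (Ne.symm hne), Pi.sub_apply,
      Pi.smul_apply, smul_eq_mul, hxi, mul_zero] at ei ea eb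
    have hxw : x ⬝ᵥ w = 0 := by
      have : 2 * (x ⬝ᵥ w) * w i = 0 := by linear_combination ei
      exact (mul_eq_zero.1 ((mul_eq_zero.1 this).resolve_right hwi)).resolve_left h2
    rw [hxw] at ea eb
    simp only [mul_zero, zero_mul, sub_zero] at ea eb
    have hxa : x a = 0 ∨ x b = 0 := by
      by_contra! hne'
      have e1 : s = -1 := mul_right_cancel₀ hne'.1 (by linear_combination ea)
      have e2 : s = 1 := mul_right_cancel₀ hne'.2 (by linear_combination eb)
      exact h2 (by linear_combination e1.symm.trans e2 |>.symm)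
    rw [← ca, ← cb, h0, zero_mul, add_zero] at hxxe
    have : x a = 0 ∧ x b = 0 := by
      rcases hxa with h' | h' <;> rw [h'] at hxxe
      · exact ⟨h', mul_self_eq_zero.1 (by linear_combination hxxe)⟩
      · exact ⟨mul_self_eq_zero.1 (by linear_combination hxxe), h'⟩
    apply hx0
    rw [← hg', h0, ← ca, ← cb, this.1, this.2]
    simp
  · rw [sub_eq_zero] at h0
    subst h0
    have hxa : x a = 0 := (mul_eq_zero.1 (by linear_combination hRa : 2 * x a = 0)).resolve_left h2
    have hxb : x b = 0 := (mul_eq_zero.1 (by linear_combination hRb : 2 * x b = 0)).resolve_left h2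
    refine hx0 (c.inf_eq hxU (mem_W3.2 ⟨hxa, hxb, ?_⟩))
    rw [hxa, hxb, mul_zero, mul_zero, zero_add, zero_add] at hxxe
    rcases mul_eq_zero.1 hxxe with h' | h'
    · rw [h', zero_mul, add_zero] at ca cb
      rw [← ca, ← cb, hxa, hxb, h'] at cw
      linear_combination cw
    · exact h'

theorem full_of_fix (c : Cfg H a b w) {h : oG (sq F ι)} (hh : h ∈ K3 H a b w) (h1 : h ≠ 1)
    (hxU : x ∈ U3 a b w) (hx0 : x ≠ 0) (hxx : x ⬝ᵥ x = 0) (hx : h.1 x = x) : Full H (U3 a b w) := by
  have h2 := c.h2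
  obtain ⟨h0, hh0, hmove⟩ := exists_moves c hxU hx0 hxx
  set x' := h0.1 x
  have hx'U : x' ∈ U3 a b w := c.map_U hh0 hxU
  have hx'x' : x' ⬝ᵥ x' = 0 := by rw [dot_oG _ h2, hxx]
  have hγ : x ⬝ᵥ x' ≠ 0 := fun e' => hmove (by
    obtain ⟨d, y, f⟩ := exists_frame c hxU hx0 hxx
    have ex := f.expand c hx'U
    rw [dotProduct_comm x' x, e', zero_smul, add_zero] at ex
    rw [ex] at hx'x'
    simp only [add_dotProduct, dotProduct_add, smul_dotProduct, dotProduct_smul, smul_eq_mul,
      dotProduct_comm d x, f.xx, f.xd] at hx'x'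
    have : x' ⬝ᵥ d / (d ⬝ᵥ d) = 0 := by
      have : (x' ⬝ᵥ d / (d ⬝ᵥ d)) * (x' ⬝ᵥ d / (d ⬝ᵥ d)) = 0 := mul_right_cancel₀ f.dd (by linear_combination hx'x')
      exact mul_self_eq_zero.1 this
    rw [ex, this, zero_smul, add_zero]
    exact Submodule.smul_mem _ _ (Submodule.mem_span_singleton_self x))
  set y := (x ⬝ᵥ x')⁻¹ • x' with hy
  obtain ⟨d, f⟩ := exists_d c hxU (y := y) (Submodule.smul_mem _ _ hx'U) hxx
    (by simp [hy, hx'x']) (by rw [hy, dotProduct_smul, smul_eq_mul, inv_mul_cancel₀ hγ])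
  have hX := exists_tx c hh h1 f hx
  have hh' : h0 * h * h0⁻¹ ∈ K3 H a b w := mul_mem (mul_mem hh0 hh) (inv_mem hh0)
  have hY := exists_tx c hh' (by simpa [conj_eq_one_iff] using h1) f.symm
    (by rw [hy, map_smul, oG_mul_apply, oG_mul_apply, show h0⁻¹.1 x' = x from oG_inv_apply _ _, hx])
  refine ⟨fun z hz hzz => ?_, x, hxU, d, f.dU, hx0, hxx, f.xd, f.dd, fun q hp hpw => ?_⟩
  · obtain ⟨u1, -, -⟩ := U3_mem a b w
    have ez := f.expand c hz
    have ea := f.expand c u1
    obtain ⟨-, -, -, n1⟩ := f.dots (z ⬝ᵥ y) (z ⬝ᵥ d / (d ⬝ᵥ d)) (z ⬝ᵥ x)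
    obtain ⟨-, -, -, n2⟩ := f.dots (e a ⬝ᵥ y) (e a ⬝ᵥ d / (d ⬝ᵥ d)) (e a ⬝ᵥ x)
    rw [← ez, hzz] at n1
    rw [← ea, e_self] at n2
    rw [ez]
    refine orbit_all h2 f.dd (fun α β γ => T H (α • x + β • d + γ • y)) (fun k α β γ hT => ?_)
      (fun k α β γ hT => ?_) n2.symm n1.symm ?_
    · obtain ⟨g, hg, htx⟩ := hX k
      rw [← hg.2.2, htx.apply] at hT
      exact hT
    · obtain ⟨g, hg, htx⟩ := hY k
      rw [show α • x + β • d + γ • y = γ • y + β • d + α • x by abel, ← hg.2.2, htx.apply] at hT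
      convert hT using 1
      abel
    · rw [← ea]; exact T.e_mem c.ov a
  · obtain ⟨g, hg, htx⟩ := hX (2 * q * (d ⬝ᵥ d))
    convert hg.1
    have hs : ∀ v, (sO hp hpw).1 v = v + (2 * q * (v ⬝ᵥ d)) • x + (-(2 * q * (v ⬝ᵥ x))) • d
        + (-(2 * q * q * (d ⬝ᵥ d) * (v ⬝ᵥ x))) • x := fun v => by
      rw [sO_apply, polar_sq, polar_sq, sq_apply]
      simp only [dotProduct_smul, smul_dotProduct, smul_eq_mul, smul_smul]
      match_scalars <;> ring
    refine c.ext (fun v hv => ?_) hg.2.1 fun z hz => ?_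
    · rw [hs, dotProduct_comm v d, U3_perp f.dU hv, dotProduct_comm v x, U3_perp hxU hv]
      simp
    · rw [f.expand c hz, htx.apply, hs]
      obtain ⟨e1, e2, -, -⟩ := f.dots (z ⬝ᵥ y) (z ⬝ᵥ d / (d ⬝ᵥ d)) (z ⬝ᵥ x)
      rw [e1, e2]
      have := f.dd
      match_scalars <;> field_simp <;> ring

end Cfsg.Agent.ClassicalMax.OrthMono
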